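import Cfsg.Agent.Lib.Ree.Quarter

/-!
The classes of elements of a group of Ree type and the count of products of two involutions.
-/

set_option autoImplicit false
set_option linter.unusedSectionVars false

namespace CfsgLib.Ree

variable {G : Type*} [Group G] [Finite G]

/-- Being an involution. -/
def Inv2 (x : G) : Prop := x * x = 1 ∧ x ≠ 1

lemma Inv2.conj {x : G} (hx : Inv2 x) (g : G) : Inv2 (g * x * g⁻¹) :=
  ⟨by rw [show g * x * g⁻¹ * (g * x * g⁻¹) = g * (x * x) * g⁻¹ by group, hx.1, mul_one, mul_inv_cancel],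
    fun h => hx.2 (conj_eq_one_iff.1 h)⟩

lemma orderOf_conj' (g x : G) : orderOf (g * x * g⁻¹) = orderOf x := by
  rw [← MulAut.conj_apply, MulEquiv.orderOf_eq]

/-- An involution `s` with `s g` an involution inverts `g`. -/
lemma inverts {s g : G} (hs : Inv2 s) (hsg : Inv2 (s * g)) : s * g * s⁻¹ = g⁻¹ := by
  rw [inv_eq_of_mul_eq_one_right hs.1]
  exact eq_inv_of_mul_eq_one_left (by rw [mul_assoc]; exact hsg.1)

namespace ReeData

variable (D : ReeData G)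

/-- The pairs made of an involution and an element which it turns into an involution. -/
def RP : Set (G × G) := {p | Inv2 p.1 ∧ Inv2 (p.1 * p.2)}

lemma RP_conj {p : G × G} (hp : p ∈ RP) (g : G) : conjPair g p ∈ RP := by
  refine ⟨hp.1.conj g, ?_⟩
  show Inv2 (g * p.1 * g⁻¹ * (g * p.2 * g⁻¹))
  rw [show g * p.1 * g⁻¹ * (g * p.2 * g⁻¹) = g * (p.1 * p.2) * g⁻¹ by group]
  exact hp.2.conj g

/-- The odd part of the split torus. -/
def T2 : Subgroup G where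
  carrier := {x | ∃ t ∈ D.T, x = t * t}
  one_mem' := ⟨1, one_mem _, (one_mul 1).symm⟩
  inv_mem' := by
    rintro _ ⟨t, ht, rfl⟩
    exact ⟨t⁻¹, inv_mem ht, mul_inv_rev t t⟩
  mul_mem' := by
    rintro _ _ ⟨t, ht, rfl⟩ ⟨s, hs, rfl⟩
    exact ⟨t * s, mul_mem ht hs, (Commute.mul_mul_mul_comm (D.T_comm ht hs : Commute t s) t s)⟩

lemma T2_le : D.T2 ≤ D.T := by
  rintro _ ⟨t, ht, rfl⟩
  exact mul_mem ht ht

lemma card_T2 : 2 * Nat.card D.T2 = D.q - 1 := by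
  let φ : D.T →* G :=
    MonoidHom.mk' (fun t => (t : G) * t) fun t s => by
      simp only [Subgroup.coe_mul]
      exact Commute.mul_mul_mul_comm (D.T_comm s.2 t.2 : Commute (s : G) t) _ _
  have hr : φ.range = D.T2 := by
    ext x
    exact ⟨fun ⟨t, ht⟩ => ⟨t, t.2, ht.symm⟩, fun ⟨t, ht, e⟩ => ⟨⟨t, ht⟩, e.symm⟩⟩
  have hk : Nat.card φ.ker = 2 := by
    rw [Nat.card_eq_two_iff' (1 : φ.ker)]
    refine ⟨⟨⟨D.a, D.a_mem⟩, MonoidHom.mem_ker.2 D.a_sq⟩,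
      fun h => D.a_ne (congrArg (fun z : φ.ker => ((z : D.T) : G)) h), ?_⟩
    rintro ⟨⟨t, ht⟩, ht'⟩ hne
    refine Subtype.ext (Subtype.ext ?_)
    exact (D.sq_T ht ht').resolve_left fun h => hne (Subtype.ext (Subtype.ext h))
  have h1 := Subgroup.card_eq_card_quotient_mul_card_subgroup φ.ker
  rw [Nat.card_congr (QuotientGroup.quotientKerEquivRange φ).toEquiv, hr, hk, D.card_T] at h1
  omega

lemma T2_regular {t : G} (ht : t ∈ D.T2) (h1 : t ≠ 1) : t * t ≠ 1 := fun h => by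
  refine h1 (eq_one_of_sq_of_odd h (?_ : Odd _))
  refine Odd.of_dvd_nat ?_ (Subgroup.orderOf_dvd_natCard _ ht)
  obtain ⟨h27, h8, -⟩ := D.q_facts
  have := D.card_T2
  exact Nat.odd_iff.2 (by omega)

lemma card_G_T2 : Nat.card G = Nat.card D.T2 * (2 * D.q ^ 3 * (D.q ^ 3 + 1)) ∧
    (Nat.card D.T2).Coprime (2 * D.q ^ 3 * (D.q ^ 3 + 1)) := by
  obtain ⟨h27, h8, h3⟩ := D.q_facts
  have hc := D.card_T2
  refine ⟨by rw [D.card_G, ← hc]; ring, Nat.coprime_of_dvd fun p hp h1 h2 => ?_⟩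
  have hq1 : p ∣ D.q - 1 := hc ▸ Dvd.dvd.mul_left h1 2
  have hp2 : p ≠ 2 := by rintro rfl; omega
  have hq : D.q % p = 1 % p := by
    exact ((Nat.modEq_iff_dvd' (by omega : 1 ≤ D.q)).2 hq1).symm
  rcases (Nat.Prime.dvd_mul hp).1 h2 with h | h
  · rcases (Nat.Prime.dvd_mul hp).1 h with h | h
    · exact hp2 ((Nat.prime_dvd_prime_iff_eq hp Nat.prime_two).1 h)
    · have := hp.dvd_of_dvd_pow h
      exact hp.ne_one (Nat.dvd_one.1 (by
        have := Nat.dvd_sub this hq1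
        rwa [show D.q - (D.q - 1) = 1 by omega] at this))
  · have : (D.q ^ 3 + 1) % p = 2 % p := by
      rw [Nat.add_mod, Nat.pow_mod, hq, ← Nat.pow_mod, ← Nat.add_mod, one_pow]
    rw [Nat.mod_eq_zero_of_dvd h] at this
    exact hp2 ((Nat.prime_dvd_prime_iff_eq hp Nat.prime_two).1
      (Nat.dvd_of_mod_eq_zero this.symm))

/-- Elements with a regular power in the split torus. -/
lemma exists_conj_T {g : G} {p : ℕ} (hp : p.Prime) (hdvd : p ∣ Nat.card D.T2)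
    (hpg : p ∣ orderOf g) : ∃ h, h * g * h⁻¹ ∈ D.T ∧ (h * g * h⁻¹) * (h * g * h⁻¹) ≠ 1 := by
  have := Fact.mk hp
  set z := g ^ (orderOf g / p) with hz
  have hzp : orderOf z = p := orderOf_pow_orderOf_div (orderOf_pos g).ne' hpg
  obtain ⟨h, -, hh⟩ := exists_conj_into (le_top : D.T2 ≤ ⊤)
    (by rw [Subgroup.card_top]; exact D.card_G_T2.1) D.card_G_T2.2 hdvd (Subgroup.mem_top z) hzp
  have hne : h * z * h⁻¹ ≠ 1 := fun h1 => by
    rw [conj_eq_one_iff] at h1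
    rw [h1, orderOf_one] at hzp
    exact hp.ne_one hzp.symm
  have hg : h * g * h⁻¹ ∈ D.T := by
    rw [← D.centralizer_regular (D.T2_le hh) (D.T2_regular hh hne),
      Subgroup.mem_centralizer_singleton_iff, hz, ← conj_pow]
    exact (Commute.self_pow _ _).eq
  refine ⟨h, hg, fun h2 => ?_⟩
  have h3 : orderOf g ∣ 2 := by
    rw [← orderOf_conj' h g]
    exact orderOf_dvd_of_pow_eq_one (by rw [pow_two, h2])
  have h4 := (Nat.prime_dvd_prime_iff_eq hp Nat.prime_two).1 (hpg.trans h3)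
  subst h4
  obtain ⟨h27, h8, -⟩ := D.q_facts
  have := D.card_T2
  omega

/-! ### The categories -/

/-- Three-singular elements. -/
def Sing3 : Set G := {g | 3 ∣ orderOf g}

/-- Elements with a regular conjugate in the split torus. -/
def SingT : Set G := {g | ∃ h, h * g * h⁻¹ ∈ D.T ∧ (h * g * h⁻¹) * (h * g * h⁻¹) ≠ 1}

/-- Elements with a regular conjugate in the torus of order `q + 1`. -/
def SingY : Set G := {g | ∃ h, h * g * h⁻¹ ∈ D.VY ∧ (h * g * h⁻¹) * (h * g * h⁻¹) ≠ 1}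

/-- The remaining elements. -/
def X : Set G := {g | g ≠ 1 ∧ (orderOf g).Coprime (6 * (D.q ^ 2 - 1))}

lemma six_q : 2 ∣ 6 * (D.q ^ 2 - 1) ∧ 3 ∣ 6 * (D.q ^ 2 - 1) ∧ (D.q - 1) ∣ 6 * (D.q ^ 2 - 1) ∧
    (D.q + 1) ∣ 6 * (D.q ^ 2 - 1) := by
  have e : D.q ^ 2 - 1 = (D.q + 1) * (D.q - 1) := by simpa using Nat.sq_sub_sq D.q 1
  refine ⟨Dvd.dvd.mul_right (by norm_num) _, Dvd.dvd.mul_right (by norm_num) _, ?_, ?_⟩ <;> rw [e]
  · exact Dvd.dvd.mul_left (dvd_mul_left _ _) _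
  · exact Dvd.dvd.mul_left (dvd_mul_right _ _) _

lemma classify (g : G) :
    g = 1 ∨ Inv2 g ∨ g ∈ Sing3 ∨ g ∈ D.SingT ∨ g ∈ D.SingY ∨ g ∈ D.X := by
  by_cases h1 : g = 1
  · exact Or.inl h1
  by_cases hX : g ∈ D.X
  · tauto
  obtain ⟨p, hp, hpg, hpd⟩ : ∃ p, p.Prime ∧ p ∣ orderOf g ∧ p ∣ 6 * (D.q ^ 2 - 1) := by
    have : ¬ (orderOf g).Coprime (6 * (D.q ^ 2 - 1)) := fun h => hX ⟨h1, h⟩
    exact Nat.Prime.not_coprime_iff_dvd.1 this
  by_cases h3 : 3 ∣ orderOf g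
  · exact Or.inr (Or.inr (Or.inl h3))
  by_cases hT : ∃ p, p.Prime ∧ p ∣ Nat.card D.T2 ∧ p ∣ orderOf g
  · obtain ⟨p, hp, h, hg⟩ := hT
    exact Or.inr (Or.inr (Or.inr (Or.inl (D.exists_conj_T hp h hg))))
  by_cases hY : ∃ p, p.Prime ∧ p ∣ Nat.card D.Y ∧ p ∣ orderOf g
  · obtain ⟨p, hp, h, hg⟩ := hY
    refine Or.inr (Or.inr (Or.inr (Or.inr (Or.inl ?_))))
    set z := g ^ (orderOf g / p) with hz
    have hzp : orderOf z = p := orderOf_pow_orderOf_div (orderOf_pos g).ne' hg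
    obtain ⟨k, hk⟩ := D.exists_conj_Y hp h hzp
    have hne : k * z * k⁻¹ ≠ 1 := fun h' => by
      rw [conj_eq_one_iff] at h'
      rw [h', orderOf_one] at hzp
      exact hp.ne_one hzp.symm
    refine ⟨k, ?_, fun h2 => ?_⟩
    · rw [← D.centralizer_Y hk hne, Subgroup.mem_centralizer_singleton_iff, hz, ← conj_pow]
      exact (Commute.self_pow _ _).eq
    · have h3' : orderOf g ∣ 2 := by
        rw [← orderOf_conj' k g]
        exact orderOf_dvd_of_pow_eq_one (by rw [pow_two, h2])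
      have h4 := (Nat.prime_dvd_prime_iff_eq hp Nat.prime_two).1 (hg.trans h3')
      subst h4
      exact Nat.not_even_iff_odd.2 D.card_Y_odd.1 (even_iff_two_dvd.2 h)
  refine Or.inr (Or.inl ?_)
  -- only the prime two is left
  have honly : ∀ q, q.Prime → q ∣ orderOf g → q ∣ 6 * (D.q ^ 2 - 1) → q = 2 := by
    intro q hq hqg hqd
    have e : 6 * (D.q ^ 2 - 1) = 2 * 3 * (4 * Nat.card D.Y * (2 * Nat.card D.T2)) := by
      rw [D.card_Y, D.card_T2, show D.q ^ 2 - 1 = (D.q + 1) * (D.q - 1) by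
        simpa using Nat.sq_sub_sq D.q 1]
    rw [e] at hqd
    by_contra h2
    have h2' : ¬ q ∣ 2 := fun h => h2 ((Nat.prime_dvd_prime_iff_eq hq Nat.prime_two).1 h)
    rcases (Nat.Prime.dvd_mul hq).1 hqd with h | h
    · rcases (Nat.Prime.dvd_mul hq).1 h with h | h
      · exact h2' h
      · exact h3 ((Nat.prime_dvd_prime_iff_eq hq Nat.prime_three).1 h ▸ hqg)
    · rcases (Nat.Prime.dvd_mul hq).1 h with h | h
      · rcases (Nat.Prime.dvd_mul hq).1 h with h | h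
        · exact h2' (hq.dvd_of_dvd_pow (show q ∣ 2 ^ 2 from h))
        · exact hY ⟨q, hq, h, hqg⟩
      · rcases (Nat.Prime.dvd_mul hq).1 h with h | h
        · exact h2' h
        · exact hT ⟨q, hq, h, hqg⟩
  obtain rfl := honly p hp hpg hpd
  set z := g ^ (orderOf g / 2) with hz
  have hz2 : orderOf z = 2 := orderOf_pow_orderOf_div (orderOf_pos g).ne' hpg
  obtain ⟨k, hk⟩ := D.isConj_a (x := z) (by
    rw [← pow_two, ← hz2]; exact pow_orderOf_eq_one z) (fun h => by rw [h, orderOf_one] at hz2; omega)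
  have hgC : k⁻¹ * g * k⁻¹⁻¹ ∈ Subgroup.centralizer {D.a} := by
    rw [Subgroup.mem_centralizer_singleton_iff, inv_inv]
    have hc : g * z = z * g := (Commute.self_pow g _).eq
    calc k⁻¹ * g * k * D.a = k⁻¹ * (g * (k * D.a * k⁻¹)) * k := by group
      _ = k⁻¹ * (k * D.a * k⁻¹ * g) * k := by rw [hk, hc]
      _ = _ := by group
  have hdiv := Subgroup.orderOf_dvd_natCard _ hgC
  rw [orderOf_conj', D.card_Ca] at hdiv
  have h2pow : ∀ q, q.Prime → q ∣ orderOf g → q = 2 := by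
    intro q hq hqg
    rcases (Nat.Prime.dvd_mul hq).1 (hqg.trans hdiv) with h | h
    · exfalso
      obtain ⟨l, hl⟩ := D.q_pow
      rw [hl] at h
      exact h3 ((Nat.prime_dvd_prime_iff_eq hq Nat.prime_three).1 (hq.dvd_of_dvd_pow h) ▸ hqg)
    · exact honly q hq hqg (Dvd.dvd.mul_left h 6)
  have hP : IsPGroup 2 (Subgroup.zpowers g) := IsPGroup.of_card (n := (orderOf g).primeFactorsList.length) (by
    rw [Nat.card_zpowers]
    exact Nat.eq_prime_pow_of_unique_prime_dvd (orderOf_pos g).ne' fun {d} hd hdg => h2pow d hd hdg)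
  obtain ⟨l, hl⟩ := D.exists_conj_S hP
  have h5 := D.S_sq _ (hl g (Subgroup.mem_zpowers g))
  rw [show l * g * l⁻¹ * (l * g * l⁻¹) = l * (g * g) * l⁻¹ by group, conj_eq_one_iff] at h5
  exact ⟨h5, h1⟩

lemma not_three_T {g : G} (hg : g ∈ D.T) : ¬ 3 ∣ orderOf g := fun h => by
  have := h.trans (Subgroup.orderOf_dvd_natCard _ hg)
  rw [D.card_T] at this
  obtain ⟨h27, -, h3⟩ := D.q_facts
  omega

lemma not_three_VY {g : G} (hg : g ∈ D.VY) : ¬ 3 ∣ orderOf g := fun h => by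
  have := h.trans (Subgroup.orderOf_dvd_natCard _ hg)
  rw [D.card_VY] at this
  obtain ⟨h27, -, h3⟩ := D.q_facts
  omega

lemma orderOf_Inv2 {g : G} (hg : Inv2 g) : orderOf g = 2 := by
  have := Fact.mk Nat.prime_two
  exact orderOf_eq_prime (by rw [pow_two]; exact hg.1) hg.2

lemma sq_ne_conj {g h : G} (hne : (h * g * h⁻¹) * (h * g * h⁻¹) ≠ 1) : g * g ≠ 1 := fun e =>
  hne (by rw [show h * g * h⁻¹ * (h * g * h⁻¹) = h * (g * g) * h⁻¹ by group, e, mul_one, mul_inv_cancel])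

/-- The categories are disjoint. -/
lemma disjoint_categories (g : G) :
    (g ∈ Sing3 → g * g ≠ 1 ∧ g ∉ D.SingT ∧ g ∉ D.SingY ∧ g ∉ D.X) ∧
    (g ∈ D.SingT → g * g ≠ 1 ∧ g ∉ D.SingY ∧ g ∉ D.X) ∧
    (g ∈ D.SingY → g * g ≠ 1 ∧ g ∉ D.X) ∧ (g ∈ D.X → g ≠ 1 ∧ ¬ Inv2 g) := by
  obtain ⟨s2, s3, sm, sp⟩ := D.six_q
  refine ⟨fun h3 => ⟨fun h => ?_, ?_, ?_, fun hX => ?_⟩, fun ⟨h, hT, hne⟩ => ⟨sq_ne_conj hne, ?_, ?_⟩,
    fun ⟨h, hY, hne⟩ => ⟨sq_ne_conj hne, ?_⟩, fun hX => ⟨hX.1, fun h => ?_⟩⟩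
  · have := (h3.trans (orderOf_dvd_of_pow_eq_one (show g ^ 2 = 1 by rw [pow_two, h])))
    exact absurd this (by decide)
  · rintro ⟨h, hT, -⟩
    exact D.not_three_T hT (by rwa [orderOf_conj'])
  · rintro ⟨h, hY, -⟩
    exact D.not_three_VY hY (by rwa [orderOf_conj'])
  · exact absurd (Nat.eq_one_of_dvd_coprimes hX.2 h3 s3) (by decide)
  · rintro ⟨k, hY, -⟩
    have h1 : orderOf g ∣ D.q - 1 := by
      rw [← orderOf_conj' h g, ← D.card_T]; exact Subgroup.orderOf_dvd_natCard _ hT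
    have h2 : orderOf g ∣ D.q + 1 := by
      rw [← orderOf_conj' k g, ← D.card_VY]; exact Subgroup.orderOf_dvd_natCard _ hY
    have h27 := D.q_ge
    have h3 : orderOf g ∣ 2 := by
      have := Nat.dvd_sub h2 h1
      rwa [show D.q + 1 - (D.q - 1) = 2 by omega] at this
    exact sq_ne_conj hne (by rw [← pow_two]; exact orderOf_dvd_iff_pow_eq_one.1 h3)
  · intro hX
    have h1 : orderOf g ∣ D.q - 1 := by
      rw [← orderOf_conj' h g, ← D.card_T]; exact Subgroup.orderOf_dvd_natCard _ hT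
    exact hX.1 (orderOf_eq_one_iff.1 (Nat.eq_one_of_dvd_coprimes hX.2 dvd_rfl (h1.trans sm)))
  · intro hX
    have h1 : orderOf g ∣ D.q + 1 := by
      rw [← orderOf_conj' h g, ← D.card_VY]; exact Subgroup.orderOf_dvd_natCard _ hY
    exact hX.1 (orderOf_eq_one_iff.1 (Nat.eq_one_of_dvd_coprimes hX.2 dvd_rfl (h1.trans sp)))
  · have := Nat.eq_one_of_dvd_coprimes hX.2 dvd_rfl (by rw [orderOf_Inv2 h]; exact s2)
    rw [orderOf_Inv2 h] at this
    omega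

/-! ### Counting -/

/-- The number of elements of a conjugation invariant set. -/
lemma card_conj_elems (S E : Set G) (N : Subgroup G) (hS : S = {g | ∃ h, h * g * h⁻¹ ∈ E})
    (hN : ∀ h ∈ N, ∀ g ∈ E, h * g * h⁻¹ ∈ E)
    (hTI : ∀ h : G, ∀ g ∈ E, h * g * h⁻¹ ∈ E → h ∈ N) :
    S.ncard * Nat.card N = Nat.card G * E.ncard := by
  have h := card_conj_pairs ({1} ×ˢ E) N
    (fun k hk p hp => ⟨by
      rw [Set.mem_singleton_iff]
      show k * p.1 * k⁻¹ = 1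
      rw [show p.1 = 1 from hp.1, mul_one, mul_inv_cancel], hN k hk _ hp.2⟩)
    (fun k p hp hkp => hTI k _ hp.2 hkp.2)
  have e1 : Nat.card ({1} ×ˢ E : Set (G × G)) = E.ncard := by
    rw [Nat.card_coe_set_eq, Set.ncard_prod, Set.ncard_singleton, one_mul]
  rw [e1] at h
  rw [← h, ← Nat.card_coe_set_eq]
  congr 1
  refine Nat.card_congr
    { toFun := fun g => ⟨(1, g.1), (hS.le g.2).elim fun k hk => ⟨k, by simp [conjPair], hk⟩⟩
      invFun := fun p => ⟨p.1.2, hS.ge (p.2.elim fun k hk => ⟨k, hk.2⟩)⟩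
      left_inv := fun g => rfl
      right_inv := fun p => by
        obtain ⟨⟨x, y⟩, k, hk⟩ := p
        have : x = 1 := conj_eq_one_iff.1 (hk.1 : k * x * k⁻¹ = 1)
        subst this
        rfl }

/-- The number of pairs with second entry in a conjugation invariant set. -/
lemma card_conj_RP (S E : Set G) (N : Subgroup G) (hS : S = {g | ∃ h, h * g * h⁻¹ ∈ E})
    (hN : ∀ h ∈ N, ∀ g ∈ E, h * g * h⁻¹ ∈ E)
    (hTI : ∀ h : G, ∀ g ∈ E, h * g * h⁻¹ ∈ E → h ∈ N) :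
    {p : G × G | p ∈ RP ∧ p.2 ∈ S}.ncard * Nat.card N =
      Nat.card G * {p : G × G | p ∈ RP ∧ p.2 ∈ E}.ncard := by
  have h := card_conj_pairs {p : G × G | p ∈ RP ∧ p.2 ∈ E} N
    (fun k hk p hp => ⟨RP_conj hp.1 k, hN k hk _ hp.2⟩)
    (fun k p hp hkp => hTI k _ hp.2 hkp.2)
  rw [Nat.card_coe_set_eq {p : G × G | p ∈ RP ∧ p.2 ∈ E}] at h
  rw [← h, ← Nat.card_coe_set_eq]
  congr 1
  refine Nat.card_congr (Equiv.subtypeEquivRight fun p => ?_)
  constructor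
  · rintro ⟨hp, hpS⟩
    obtain ⟨k, hk⟩ := hS.le hpS
    exact ⟨k, RP_conj hp k, hk⟩
  · rintro ⟨k, hk, hkE⟩
    refine ⟨?_, hS.ge ⟨k, hkE⟩⟩
    have := RP_conj hk k⁻¹
    rwa [← conjPair_mul, inv_mul_cancel, conjPair_one] at this

/-- The involutions of the Borel subgroup. -/
def J : Set G := {s | Inv2 s ∧ s ∈ D.B}

lemma exists_of_J {s : G} (hs : s ∈ D.J) : ∃ x ∈ D.U, s = x * D.a ∧ D.a * x * D.a = x⁻¹ := by
  obtain ⟨⟨h1, h2⟩, hB⟩ := hs
  obtain ⟨x, hx, t, ht, rfl⟩ := (D.mem_B s).1 hB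
  have e : (x * (t * x * t⁻¹)) * (t * t) = 1 := by rw [← h1]; group
  obtain ⟨e1, e2⟩ := D.eq_of_UT (x' := 1) (t' := 1) (mul_mem hx (D.T_norm t ht x hx)) (one_mem _)
    (mul_mem ht ht) (one_mem _) (by rw [one_mul]; exact e)
  rcases D.sq_T ht e2 with rfl | rfl
  · exfalso
    simp only [mul_one, one_mul, inv_one] at e1 h2
    have : Odd (orderOf x) := by
      have hd := Subgroup.orderOf_dvd_natCard _ hx
      rw [D.card_U] at hd
      obtain ⟨-, h8, -⟩ := D.q_facts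
      exact Odd.of_dvd_nat (Odd.pow (Nat.odd_iff.2 (by omega))) hd
    exact h2 (eq_one_of_sq_of_odd e1 this)
  · refine ⟨x, hx, rfl, eq_inv_of_mul_eq_one_right ?_⟩
    rwa [inv_eq_of_mul_eq_one_right D.a_sq] at e1

lemma card_J : D.J.ncard = D.q ^ 2 := by
  have horb := card_orbit_conjPair D.U (D.U ⊓ Subgroup.centralizer {D.a}) inf_le_left (D.a, D.a)
    fun k hk => by
      rw [Subgroup.mem_inf, Subgroup.mem_centralizer_singleton_iff]
      exact ⟨fun h => ⟨hk, mul_inv_eq_iff_eq_mul.1 (congrArg Prod.fst h)⟩,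
        fun h => Prod.ext (mul_inv_eq_iff_eq_mul.2 h.2) (mul_inv_eq_iff_eq_mul.2 h.2)⟩
  rw [D.card_CUa, D.card_U] at horb
  have himg : (fun k => conjPair k (D.a, D.a)) '' (D.U : Set G) = (fun s => (s, s)) '' D.J := by
    ext p
    constructor
    · rintro ⟨k, hk, rfl⟩
      exact ⟨_, ⟨Inv2.conj ⟨D.a_sq, D.a_ne⟩ k,
        mul_mem (mul_mem (D.U_le_B hk) D.a_mem_B) (inv_mem (D.U_le_B hk))⟩, rfl⟩
    · rintro ⟨s, hs, rfl⟩
      obtain ⟨x, hx, rfl, hinv⟩ := D.exists_of_J hs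
      have hodd : Nat.Coprime 2 (orderOf x) := by
        refine Nat.coprime_two_left.2 (Odd.of_dvd_nat ?_ (Subgroup.orderOf_dvd_natCard _ hx))
        rw [D.card_U]
        obtain ⟨-, h8, -⟩ := D.q_facts
        exact Odd.pow (Nat.odd_iff.2 (by omega))
      obtain ⟨m, hm⟩ := exists_pow_eq_self_of_coprime hodd
      have hax : D.a * x ^ m * D.a = (x ^ m)⁻¹ := by
        have hai : D.a⁻¹ = D.a := inv_eq_of_mul_eq_one_right D.a_sq
        calc D.a * x ^ m * D.a = D.a * x ^ m * D.a⁻¹ := by rw [hai]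
          _ = (D.a * x * D.a⁻¹) ^ m := conj_pow.symm
          _ = _ := by rw [hai, hinv, inv_pow]
      have e : x ^ m * D.a * (x ^ m)⁻¹ = x * D.a := by
        rw [← hax, show x ^ m * D.a * (D.a * x ^ m * D.a) = x ^ m * (D.a * D.a) * x ^ m * D.a by group,
          D.a_sq, mul_one, ← pow_add]
        congr 1
        rw [← pow_mul, mul_comm 2 m] at hm
        rw [← two_mul, mul_comm]
        exact hm
      exact ⟨x ^ m, pow_mem hx m, Prod.ext e e⟩
  rw [himg, Set.ncard_image_of_injective _ fun s s' h => congrArg Prod.fst h] at horb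
  have : D.q ≠ 0 := by have := D.q_ge; omega
  apply Nat.eq_of_mul_eq_mul_right (Nat.pos_of_ne_zero this)
  rw [horb]; ring

/-- The three-singular elements of the Borel subgroup. -/
def E3 : Set G := {g | g ∈ D.B ∧ 3 ∣ orderOf g}

lemma Sing3_eq : Sing3 = {g | ∃ h, h * g * h⁻¹ ∈ D.E3} := by
  ext g
  constructor
  · intro h3
    set u := g ^ (orderOf g / 3) with hu
    have hu3 : orderOf u = 3 := orderOf_pow_orderOf_div (orderOf_pos g).ne' h3
    obtain ⟨k, hk⟩ := D.three_element (g := u) ⟨1, by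
      rw [pow_one, ← hu3]; exact pow_orderOf_eq_one u⟩
    refine ⟨k, D.centralizer_le_B hk (fun h => ?_) ?_, by rw [orderOf_conj']; exact h3⟩
    · rw [conj_eq_one_iff] at h
      rw [h, orderOf_one] at hu3
      omega
    · rw [Subgroup.mem_centralizer_singleton_iff, hu, ← conj_pow]
      exact (Commute.self_pow _ _).eq
  · rintro ⟨k, -, hk⟩
    rwa [orderOf_conj'] at hk

lemma E3_normal : ∀ h ∈ D.B, ∀ g ∈ D.E3, h * g * h⁻¹ ∈ D.E3 := fun h hh g hg =>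
  ⟨mul_mem (mul_mem hh hg.1) (inv_mem hh), by rw [orderOf_conj']; exact hg.2⟩

lemma E3_TI : ∀ h : G, ∀ g ∈ D.E3, h * g * h⁻¹ ∈ D.E3 → h ∈ D.B := by
  rintro h g ⟨hgB, hg3⟩ ⟨hhB, -⟩
  set u := g ^ (orderOf g / 3) with hu
  have hu3 : orderOf u = 3 := orderOf_pow_orderOf_div (orderOf_pos g).ne' hg3
  have h31 : u ^ 3 ^ 1 = 1 := by rw [pow_one, ← hu3]; exact pow_orderOf_eq_one u
  refine D.mem_B_of_conj_mem (D.mem_U_of_three (pow_mem hgB _) h31) (fun h1 => ?_) ?_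
  · rw [hu, h1, orderOf_one] at hu3; omega
  · refine D.mem_U_of_three (by rw [← conj_pow]; exact pow_mem hhB _) (k := 1) ?_
    rw [conj_pow, h31, mul_one, mul_inv_cancel]

/-- The three-singular part of the Borel subgroup is made of two cosets. -/
lemma E3_eq : D.E3 = ((D.U : Set G) \ {1}) ∪ (((fun x => x * D.a) '' (D.U : Set G)) \ D.J) := by
  ext g
  constructor
  · rintro ⟨hB, h3⟩
    obtain ⟨x, hx, t, ht, rfl⟩ := (D.mem_B g).1 hB
    by_cases h1 : t = 1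
    · subst h1
      left
      rw [mul_one] at h3 ⊢
      exact ⟨hx, fun h => by rw [show x = 1 from h, orderOf_one] at h3; omega⟩
    by_cases h2 : t = D.a
    · subst h2
      right
      exact ⟨⟨x, hx, rfl⟩, fun hJ => by rw [orderOf_Inv2 hJ.1] at h3; omega⟩
    · exfalso
      have h2t := D.sq_ne_one_T ht h1 h2
      have hinj : Function.Injective
          (fun y : D.U => (⟨y.1 * (t * y.1⁻¹ * t⁻¹), mul_mem y.2 (D.T_norm t ht _ (inv_mem y.2))⟩ :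
            D.U)) := by
        rintro ⟨y, hy⟩ ⟨y', hy'⟩ h
        have h' : y * (t * y⁻¹ * t⁻¹) = y' * (t * y'⁻¹ * t⁻¹) := congrArg Subtype.val h
        refine Subtype.ext (eq_of_inv_mul_eq_one (D.fpf t ht h2t _ (mul_mem (inv_mem hy') hy) ?_)).symm
        calc t * (y'⁻¹ * y) = y'⁻¹ * (y' * (t * y'⁻¹ * t⁻¹)) * t * y := by group
          _ = y'⁻¹ * (y * (t * y⁻¹ * t⁻¹)) * t * y := by rw [h']
          _ = _ := by group
      obtain ⟨⟨y, hy⟩, hyx⟩ := (Finite.injective_iff_surjective.1 hinj) ⟨x, hx⟩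
      have e : x * t = y * t * y⁻¹ := by
        rw [← show y * (t * y⁻¹ * t⁻¹) = x from congrArg Subtype.val hyx]; group
      rw [e, orderOf_conj'] at h3
      exact D.not_three_T ht h3
  · rintro (⟨hx, h1⟩ | ⟨⟨x, hx, rfl⟩, hJ⟩)
    · refine ⟨D.U_le_B hx, ?_⟩
      obtain ⟨k, hk⟩ := IsPGroup.iff_orderOf.1 D.U_isPGroup ⟨g, hx⟩
      rw [Subgroup.orderOf_mk] at hk
      rcases k with _ | k
      · exact absurd (orderOf_eq_one_iff.1 hk) h1
      · exact ⟨3 ^ k, by rw [hk, pow_succ, mul_comm]⟩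
    · have hB : x * D.a ∈ D.B := mul_mem (D.U_le_B hx) D.a_mem_B
      refine ⟨hB, ?_⟩
      have hsq : x * D.a * (x * D.a) ∈ D.U := by
        rw [show x * D.a * (x * D.a) = x * (D.a * x * D.a⁻¹) * (D.a * D.a) by group, D.a_sq, mul_one]
        exact mul_mem hx (D.T_norm _ D.a_mem x hx)
      have hne : x * D.a * (x * D.a) ≠ 1 := by
        intro h
        refine hJ ⟨⟨h, fun h1 => ?_⟩, hB⟩
        exact D.a_ne (D.eq_of_UT hx (one_mem _) D.a_mem (one_mem _)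
          (by simp only at h1; rw [h1, one_mul])).2
      obtain ⟨k, hk⟩ := IsPGroup.iff_orderOf.1 D.U_isPGroup ⟨_, hsq⟩
      rw [Subgroup.orderOf_mk] at hk
      rcases k with _ | k
      · exact absurd (orderOf_eq_one_iff.1 hk) hne
      · refine dvd_trans ⟨3 ^ k, by rw [hk, pow_succ, mul_comm]⟩
          (orderOf_dvd_of_pow_eq_one (x := x * D.a * (x * D.a)) (n := orderOf (x * D.a)) ?_)
        rw [Commute.mul_pow (Commute.refl _), pow_orderOf_eq_one, one_mul]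

lemma card_E3 : D.E3.ncard + D.q ^ 2 + 1 = 2 * D.q ^ 3 := by
  classical
  have hE := D.E3_eq
  have hd : Disjoint ((D.U : Set G) \ {1}) (((fun x => x * D.a) '' (D.U : Set G)) \ D.J) := by
    rw [Set.disjoint_left]
    rintro g ⟨hg, -⟩ ⟨⟨x, hx, rfl⟩, -⟩
    have h := Subgroup.mem_inf.2 ⟨(by simpa using mul_mem (inv_mem hx) hg : D.a ∈ D.U), D.a_mem⟩
    rw [D.UT, Subgroup.mem_bot] at h
    exact D.a_ne h
  have hJsub : D.J ⊆ (fun x => x * D.a) '' (D.U : Set G) := fun s hs =>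
    (D.exists_of_J hs).elim fun x hx => ⟨x, hx.1, hx.2.1.symm⟩
  rw [hE, Set.ncard_union_eq hd, Set.ncard_sdiff (Set.singleton_subset_iff.2 (one_mem _)),
    Set.ncard_sdiff hJsub, Set.ncard_singleton,
    Set.ncard_image_of_injective _ (mul_left_injective _), D.card_J,
    ← Nat.card_coe_set_eq]
  show Nat.card D.U - 1 + (Nat.card D.U - D.q ^ 2) + D.q ^ 2 + 1 = _
  rw [D.card_U]
  have h1 : D.q ^ 2 ≤ D.q ^ 3 := Nat.pow_le_pow_right (by have := D.q_ge; omega) (by norm_num)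
  have h2 : 1 ≤ D.q ^ 3 := Nat.one_le_pow _ _ (by have := D.q_ge; omega)
  omega

lemma card_RP_E3 :
    {p : G × G | p ∈ RP ∧ p.2 ∈ D.E3}.ncard + D.q ^ 2 = D.q ^ 4 := by
  classical
  have himg : (fun p : G × G => (p.1, p.1 * p.2)) '' {p : G × G | p ∈ RP ∧ p.2 ∈ D.E3} =
      (D.J ×ˢ D.J) \ ((fun s => (s, s)) '' D.J) := by
    ext p
    constructor
    · rintro ⟨⟨s, g⟩, ⟨⟨hs, hsg⟩, hg⟩, rfl⟩
      have hsB : s ∈ D.B := D.E3_TI s g hg (by
        rw [inverts hs hsg]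
        exact ⟨inv_mem hg.1, by rw [orderOf_inv]; exact hg.2⟩)
      refine ⟨⟨⟨hs, hsB⟩, hsg, mul_mem hsB hg.1⟩, ?_⟩
      rintro ⟨z, -, hz⟩
      simp only [Prod.mk.injEq] at hz
      obtain ⟨e1, e2⟩ := hz
      have h3 := hg.2
      rw [mul_eq_left.1 (e2.symm.trans e1), orderOf_one] at h3
      omega
    · rintro ⟨⟨hs, ht⟩, hne⟩
      refine ⟨(p.1, p.1⁻¹ * p.2), ⟨⟨hs.1, by rw [mul_inv_cancel_left]; exact ht.1⟩, ?_⟩,
        Prod.ext rfl (mul_inv_cancel_left _ _)⟩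
      show p.1⁻¹ * p.2 ∈ D.E3
      obtain ⟨x, hx, e1, -⟩ := D.exists_of_J hs
      obtain ⟨y, hy, e2, -⟩ := D.exists_of_J ht
      have hU : p.1⁻¹ * p.2 ∈ D.U := by
        rw [e1, e2, show (x * D.a)⁻¹ * (y * D.a) = D.a⁻¹ * (x⁻¹ * y) * D.a by group]
        exact D.B_inv_conj_U D.a_mem_B (mul_mem (inv_mem hx) hy)
      refine ⟨D.U_le_B hU, ?_⟩
      obtain ⟨k, hk⟩ := IsPGroup.iff_orderOf.1 D.U_isPGroup ⟨_, hU⟩
      rw [Subgroup.orderOf_mk] at hk
      rcases k with _ | k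
      · exfalso
        refine hne ⟨p.1, hs, Prod.ext rfl ?_⟩
        exact inv_mul_eq_one.1 (orderOf_eq_one_iff.1 hk)
      · exact ⟨3 ^ k, by rw [hk, pow_succ, mul_comm]⟩
  have hinj : Function.Injective fun p : G × G => (p.1, p.1 * p.2) := fun p p' h => by
    simp only [Prod.mk.injEq] at h
    exact Prod.ext h.1 (mul_left_cancel (h.1 ▸ h.2 : p.1 * p.2 = p.1 * p'.2))
  have hsub : (fun s => (s, s)) '' D.J ⊆ D.J ×ˢ D.J := by
    rintro _ ⟨s, hs, rfl⟩; exact ⟨hs, hs⟩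
  rw [← Set.ncard_image_of_injective _ hinj, himg, Set.ncard_sdiff hsub, Set.ncard_prod,
    Set.ncard_image_of_injective _ fun s s' h => congrArg Prod.fst h, D.card_J]
  have h1 : D.q ^ 2 ≤ D.q ^ 2 * D.q ^ 2 := Nat.le_mul_self _
  have h2 : D.q ^ 4 = D.q ^ 2 * D.q ^ 2 := by ring
  omega

/-- The regular elements of the split torus. -/
def ET : Set G := {g | g ∈ D.T ∧ g * g ≠ 1}

lemma SingT_eq : D.SingT = {g | ∃ h, h * g * h⁻¹ ∈ D.ET} := rfl

lemma ET_normal : ∀ h ∈ Subgroup.normalizer (D.T : Set G), ∀ g ∈ D.ET, h * g * h⁻¹ ∈ D.ET :=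
  fun h hh g hg => ⟨(Subgroup.mem_normalizer_iff.1 hh g).1 hg.1, fun e => sq_ne_conj (h := 1) (g := g)
    (by simpa using hg.2) (by
      rwa [show h * g * h⁻¹ * (h * g * h⁻¹) = h * (g * g) * h⁻¹ by group, conj_eq_one_iff] at e)⟩

lemma ET_TI : ∀ h : G, ∀ g ∈ D.ET, h * g * h⁻¹ ∈ D.ET → h ∈ Subgroup.normalizer (D.T : Set G) :=
  fun _ _ hg hh => D.mem_normalizer_T.2 (D.conj_regular hg.1 hg.2 hh.1)

lemma card_ET : D.ET.ncard + 2 = D.q - 1 := by
  have he : D.ET = (D.T : Set G) \ {1, D.a} := by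
    ext g
    simp only [ET, Set.mem_ofPred_eq, Set.mem_sdiff, SetLike.mem_coe, Set.mem_insert_iff,
      Set.mem_singleton_iff, not_or]
    exact ⟨fun h => ⟨h.1, fun e => h.2 (by simp [e]), fun e => h.2 (e ▸ D.a_sq)⟩,
      fun h => ⟨h.1, D.sq_ne_one_T h.1 h.2.1 h.2.2⟩⟩
  have hsub : ({1, D.a} : Set G) ⊆ D.T := by
    rintro _ (rfl | rfl)
    · exact one_mem _
    · exact D.a_mem
  rw [he, Set.ncard_sdiff hsub, Set.ncard_pair (Ne.symm D.a_ne), ← Nat.card_coe_set_eq]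
  show Nat.card D.T - 2 + 2 = _
  rw [D.card_T]
  have := D.q_ge
  omega

lemma sq_tn {t : G} (ht : t ∈ D.T) : (t * D.n) * (t * D.n) = 1 := by
  calc t * D.n * (t * D.n) = t * (D.n * t * D.n⁻¹) * (D.n * D.n) := by group
    _ = 1 := by rw [D.n_inv t ht, D.n_sq, mul_one, mul_inv_cancel]

lemma card_RP_ET : {p : G × G | p ∈ RP ∧ p.2 ∈ D.ET}.ncard = (D.q - 1) * D.ET.ncard := by
  have he : {p : G × G | p ∈ RP ∧ p.2 ∈ D.ET} =
      ((fun t => t * D.n) '' (D.T : Set G)) ×ˢ D.ET := by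
    ext ⟨s, g⟩
    constructor
    · rintro ⟨⟨hs, hsg⟩, hg⟩
      refine ⟨?_, hg⟩
      have hinv := inverts hs hsg
      rcases D.conj_regular hg.1 hg.2 (by rw [hinv]; exact inv_mem hg.1) with h | h
      · exfalso
        rw [D.T_comm h hg.1, mul_inv_cancel_right] at hinv
        exact hg.2 (by nth_rw 1 [hinv]; exact inv_mul_cancel g)
      · exact ⟨_, h, by show s * D.n * D.n = s; rw [mul_assoc, D.n_sq, mul_one]⟩
    · rintro ⟨⟨t, ht, rfl⟩, hg⟩
      refine ⟨⟨⟨D.sq_tn ht, fun h => ?_⟩, ?_, fun h => ?_⟩, hg⟩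
      · exact D.n_not_mem_B (D.T_le_B ((eq_inv_of_mul_eq_one_right h).symm ▸ inv_mem ht))
      · show t * D.n * g * (t * D.n * g) = 1
        rw [show t * D.n * g * (t * D.n * g) = t * (D.n * g * D.n⁻¹) * D.n * (t * D.n * g) by group,
          D.n_inv g hg.1, show t * g⁻¹ * D.n * (t * D.n * g) =
            t * g⁻¹ * (D.n * t * D.n⁻¹) * (D.n * D.n) * g by group, D.n_inv t ht, D.n_sq, mul_one,
          mul_assoc t g⁻¹, D.T_comm (inv_mem hg.1) (inv_mem ht)]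
        group
      · change t * D.n * g = 1 at h
        have : D.n = t⁻¹ * g⁻¹ := by
          rw [eq_inv_mul_iff_mul_eq, eq_inv_iff_mul_eq_one]; exact h
        exact D.n_not_mem_B (this ▸ D.T_le_B (mul_mem (inv_mem ht) (inv_mem hg.1)))
  rw [he, Set.ncard_prod, Set.ncard_image_of_injective _ (mul_left_injective _),
    ← Nat.card_coe_set_eq]
  show Nat.card D.T * _ = _
  rw [D.card_T]

/-- The regular elements of the torus of order `q + 1`. -/
def EY : Set G := {g | g ∈ D.VY ∧ g * g ≠ 1}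

lemma SingY_eq : D.SingY = {g | ∃ h, h * g * h⁻¹ ∈ D.EY} := rfl

lemma sq_mem_Y {g : G} (hg : g ∈ D.VY) : g * g ∈ D.Y := by
  obtain ⟨v, hv, y, hy, rfl⟩ := hg
  rw [(Commute.symm (D.VY_comm hv hy : Commute v y)).mul_mul_mul_comm, D.V_sq hv, one_mul]
  exact mul_mem hy hy

lemma VY_conj {h g : G} (hh : h ∈ Subgroup.normalizer (D.V : Set G)) (hg : g ∈ D.VY) :
    h * g * h⁻¹ ∈ D.VY := by
  obtain ⟨v, hv, y, hy, rfl⟩ := hg
  rw [show h * (v * y) * h⁻¹ = (h * v * h⁻¹) * (h * y * h⁻¹) by group]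
  exact mul_mem (D.V_le_VY ((Subgroup.mem_normalizer_iff.1 hh v).1 hv))
    (D.Y_le_VY ((Subgroup.mem_normalizer_iff.1 (D.normalizer_V_le hh) y).1 hy))

lemma EY_normal : ∀ h ∈ Subgroup.normalizer (D.V : Set G), ∀ g ∈ D.EY, h * g * h⁻¹ ∈ D.EY :=
  fun h hh g hg => ⟨D.VY_conj hh hg.1, fun e => hg.2 (by
    rwa [show h * g * h⁻¹ * (h * g * h⁻¹) = h * (g * g) * h⁻¹ by group, conj_eq_one_iff] at e)⟩

lemma EY_TI : ∀ h : G, ∀ g ∈ D.EY, h * g * h⁻¹ ∈ D.EY → h ∈ Subgroup.normalizer (D.V : Set G) := by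
  intro h g hg hh
  refine D.conj_Y_mem (D.sq_mem_Y hg.1) hg.2 ?_
  rw [show h * (g * g) * h⁻¹ = (h * g * h⁻¹) * (h * g * h⁻¹) by group]
  exact D.sq_mem_Y hh.1

lemma card_EY : D.EY.ncard + 4 = D.q + 1 := by
  have he : D.EY = (D.VY : Set G) \ (D.V : Set G) := by
    ext g
    exact ⟨fun h => ⟨h.1, fun hv => h.2 (D.V_sq hv)⟩, fun h => ⟨h.1, fun e => h.2 (D.mem_V_of_sq h.1 e)⟩⟩
  have hsub : (D.V : Set G) ⊆ D.VY := D.V_le_VY
  rw [he, Set.ncard_sdiff hsub, ← Nat.card_coe_set_eq, ← Nat.card_coe_set_eq]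
  show Nat.card D.VY - Nat.card D.V + 4 = _
  rw [D.card_VY, D.card_V]
  have := D.q_ge
  omega

lemma card_RP_EY : {p : G × G | p ∈ RP ∧ p.2 ∈ D.EY}.ncard = (D.q + 1) * D.EY.ncard := by
  have he : {p : G × G | p ∈ RP ∧ p.2 ∈ D.EY} =
      ((fun w => w * D.j) '' (D.VY : Set G)) ×ˢ D.EY := by
    ext ⟨s, g⟩
    constructor
    · rintro ⟨⟨hs, hsg⟩, hg⟩
      refine ⟨?_, hg⟩
      have hinv := inverts hs hsg
      have hsN : s ∈ Subgroup.normalizer (D.V : Set G) := D.EY_TI s g hg (by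
        rw [hinv]
        exact ⟨inv_mem hg.1, fun e => hg.2 (by
          rwa [← mul_inv_rev, inv_eq_one] at e)⟩)
      have hsC := D.mem_CV_of_sq hsN (hs.1.symm ▸ one_mem _)
      rw [D.centralizer_V] at hsC
      rcases D.mem_CV hsC with h | h
      · exfalso
        rw [D.VY_abelian h hg.1, mul_inv_cancel_right] at hinv
        exact hg.2 (by nth_rw 1 [hinv]; exact inv_mul_cancel g)
      · exact ⟨_, h, by show s * D.j * D.j = s; rw [mul_assoc, D.j_sq, mul_one]⟩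
    · rintro ⟨⟨w, hw, rfl⟩, hg⟩
      have hwj : ∀ u ∈ D.VY, u * D.j ≠ 1 := fun u hu h =>
        D.j_not_mem_VY ((eq_inv_of_mul_eq_one_right h).symm ▸ inv_mem hu)
      have e : w * D.j * g = w * g⁻¹ * D.j := by
        obtain ⟨v, hv, y, hy, rfl⟩ := hg.1
        have h1 : D.j * v = v * D.j := (D.V_comm_CV hv D.j_mem).symm
        have h2 : D.j * y = y⁻¹ * D.j := mul_inv_eq_iff_eq_mul.1 (D.j_inv y hy)
        rw [mul_assoc w D.j, ← mul_assoc D.j v, h1, mul_assoc v D.j, h2, mul_inv_rev,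
          inv_eq_of_mul_eq_one_right (D.V_sq hv), D.VY_comm hv (inv_mem hy) |>.symm]
        simp only [mul_assoc]
      refine ⟨⟨⟨D.sq_of_mul_j hw, hwj w hw⟩, ?_, ?_⟩, hg⟩
      · show w * D.j * g * (w * D.j * g) = 1
        rw [e]
        exact D.sq_of_mul_j (mul_mem hw (inv_mem hg.1))
      · show w * D.j * g ≠ 1
        rw [e]
        exact hwj _ (mul_mem hw (inv_mem hg.1))
  rw [he, Set.ncard_prod, Set.ncard_image_of_injective _ (mul_left_injective _),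
    ← Nat.card_coe_set_eq]
  show Nat.card D.VY * _ = _
  rw [D.card_VY]

/-- The pairs of commuting involutions. -/
lemma card_RP_invol :
    {p : G × G | p ∈ RP ∧ Inv2 p.2}.ncard * (D.q + 1) = Nat.card G := by
  set C := Subgroup.centralizer {D.a} ⊓ Subgroup.centralizer {D.b}
  have hfix : ∀ p : G × G, (p = (D.a, D.b) ∨ p = (D.b, D.a)) → ∀ g,
      conjPair g p = p ↔ g ∈ C := by
    intro p hp g
    rw [Subgroup.mem_inf, Subgroup.mem_centralizer_singleton_iff,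
      Subgroup.mem_centralizer_singleton_iff, ← mul_inv_eq_iff_eq_mul, ← mul_inv_eq_iff_eq_mul]
    rcases hp with rfl | rfl
    · exact ⟨fun h => ⟨congrArg Prod.fst h, congrArg Prod.snd h⟩, fun h => Prod.ext h.1 h.2⟩
    · exact ⟨fun h => ⟨congrArg Prod.snd h, congrArg Prod.fst h⟩, fun h => Prod.ext h.2 h.1⟩
  have key : ∀ p : G × G, (p = (D.a, D.b) ∨ p = (D.b, D.a)) →
      {x : G × G | ∃ g, conjPair g x = p}.ncard * (2 * (D.q + 1)) = Nat.card G := by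
    intro p hp
    have h := card_conj_pairs {p} C
      (fun g hg x hx => by
        rw [Set.mem_singleton_iff] at hx ⊢
        rw [hx, (hfix p hp g).2 hg])
      (fun g x hx hgx => by
        rw [Set.mem_singleton_iff] at hx hgx
        rw [hx] at hgx
        exact (hfix p hp g).1 hgx)
    rw [D.card_CV] at h
    rw [show {x : G × G | ∃ g, conjPair g x = p}.ncard =
      Nat.card {x : G × G // ∃ g, conjPair g x = p} from (Nat.card_coe_set_eq _).symm]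
    simpa using h
  have he : {p : G × G | p ∈ RP ∧ Inv2 p.2} =
      {x : G × G | ∃ g, conjPair g x = (D.a, D.b)} ∪ {x : G × G | ∃ g, conjPair g x = (D.b, D.a)} := by
    ext ⟨s, t⟩
    constructor
    · rintro ⟨⟨hs, hst⟩, ht⟩
      have hc : s * t = t * s := by
        calc s * t = (s * t)⁻¹ := (inv_eq_of_mul_eq_one_right hst.1).symm
          _ = t * s := by
            rw [mul_inv_rev, inv_eq_of_mul_eq_one_right hs.1, inv_eq_of_mul_eq_one_right ht.1]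
      obtain ⟨g, hg | hg⟩ := D.fours hs.1 hs.2 ht.1 ht.2 (fun e => hst.2 (e ▸ hs.1)) hc
      · exact Or.inl ⟨g, hg⟩
      · exact Or.inr ⟨g, hg⟩
    · obtain ⟨h1, h2, h3⟩ := D.ab_ne
      have hab : Inv2 (D.a * D.b) := ⟨D.V_sq (mul_mem D.a_mem_V D.b_mem_V), h1⟩
      have hba : Inv2 (D.b * D.a) := D.ab_comm ▸ hab
      have haux : ∀ p : G × G, Inv2 p.1 → Inv2 p.2 → Inv2 (p.1 * p.2) → ∀ g x,
          conjPair g x = p → x ∈ {p : G × G | p ∈ RP ∧ Inv2 p.2} := by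
        intro p i1 i2 i3 g x hx
        have e : x = conjPair g⁻¹ p := by rw [← hx, ← conjPair_mul, inv_mul_cancel, conjPair_one]
        subst e
        exact ⟨RP_conj ⟨i1, i3⟩ _, i2.conj _⟩
      rintro (⟨g, hg⟩ | ⟨g, hg⟩)
      · exact haux _ ⟨D.a_sq, D.a_ne⟩ ⟨D.b_sq, D.b_ne⟩ hab g _ hg
      · exact haux _ ⟨D.b_sq, D.b_ne⟩ ⟨D.a_sq, D.a_ne⟩ hba g _ hg
  have hd : Disjoint {x : G × G | ∃ g, conjPair g x = (D.a, D.b)}
      {x : G × G | ∃ g, conjPair g x = (D.b, D.a)} := by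
    rw [Set.disjoint_left]
    rintro x ⟨g, hg⟩ ⟨k, hk⟩
    have e : x = conjPair g⁻¹ (D.a, D.b) := by
      rw [← hg, ← conjPair_mul, inv_mul_cancel, conjPair_one]
    rw [e, ← conjPair_mul] at hk
    exact D.no_swap (congrArg Prod.fst hk) (congrArg Prod.snd hk)
  have k1 := key _ (Or.inl rfl)
  have k2 := key _ (Or.inr rfl)
  rw [he, Set.ncard_union_eq hd]
  linarith

/-- The number of involutions. -/
lemma card_invol : {s : G | Inv2 s}.ncard * (D.q * (D.q ^ 2 - 1)) = Nat.card G := by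
  have h := card_conj_elems {s : G | Inv2 s} {D.a} (Subgroup.centralizer {D.a}) ?_ ?_ ?_
  · rwa [Set.ncard_singleton, mul_one, D.card_Ca] at h
  · ext s
    refine ⟨fun hs => ?_, ?_⟩
    · obtain ⟨g, hg⟩ := D.isConj_a hs.1 hs.2
      exact ⟨g⁻¹, by rw [Set.mem_singleton_iff, ← hg]; group⟩
    · rintro ⟨g, hg⟩
      rw [Set.mem_singleton_iff] at hg
      have := (Inv2.conj (⟨D.a_sq, D.a_ne⟩ : Inv2 D.a) g⁻¹)
      rw [← hg] at this
      simpa [mul_assoc] using this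
  · intro g hg x hx
    rw [Set.mem_singleton_iff] at hx ⊢
    rw [hx, mul_inv_eq_iff_eq_mul]
    exact Subgroup.mem_centralizer_singleton_iff.1 hg
  · intro g x hx hgx
    rw [Set.mem_singleton_iff] at hx hgx
    rw [hx, mul_inv_eq_iff_eq_mul] at hgx
    exact Subgroup.mem_centralizer_singleton_iff.2 hgx

lemma card_RP : (RP : Set (G × G)).ncard = {s : G | Inv2 s}.ncard * {s : G | Inv2 s}.ncard := by
  have hinj : Function.Injective fun p : G × G => (p.1, p.1 * p.2) := fun p p' h => by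
    simp only [Prod.mk.injEq] at h
    exact Prod.ext h.1 (mul_left_cancel (h.1 ▸ h.2 : p.1 * p.2 = p.1 * p'.2))
  rw [← Set.ncard_prod, ← Set.ncard_image_of_injective _ hinj]
  congr 1
  ext ⟨s, t⟩
  constructor
  · rintro ⟨⟨x, y⟩, hp, h⟩
    simp only [Prod.mk.injEq] at h
    exact ⟨h.1 ▸ hp.1, h.2 ▸ hp.2⟩
  · rintro ⟨hs, ht⟩
    exact ⟨(s, s⁻¹ * t), ⟨hs, by simpa using ht⟩, Prod.ext rfl (mul_inv_cancel_left s t)⟩

lemma card_RP_one : {p : G × G | p ∈ RP ∧ p.2 = 1}.ncard = {s : G | Inv2 s}.ncard := by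
  rw [← Set.ncard_image_of_injective {s : G | Inv2 s}
    (f := fun s => (s, (1 : G))) fun s t h => congrArg Prod.fst h]
  congr 1
  ext ⟨s, g⟩
  constructor
  · rintro ⟨hp, rfl : g = 1⟩; exact ⟨s, hp.1, rfl⟩
  · rintro ⟨x, hx, h⟩
    simp only [Prod.mk.injEq] at h
    obtain ⟨rfl, rfl⟩ := h
    exact ⟨⟨hx, by simpa using hx⟩, rfl⟩

/-- The pairs with product in `X`, and the elements of `X`. -/
theorem count_X :
    3 * {p : G × G | p ∈ RP ∧ p.2 ∈ D.X}.ncard = D.q * Nat.card G ∧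
    3 * (D.q ^ 2 - D.q + 1) * D.X.ncard + (D.q + 1) * Nat.card G =
      (D.q ^ 2 - D.q + 1) * Nat.card G := by
  have p3 := card_conj_RP Sing3 D.E3 D.B D.Sing3_eq D.E3_normal D.E3_TI
  have pT := card_conj_RP D.SingT D.ET (Subgroup.normalizer (D.T : Set G)) D.SingT_eq D.ET_normal D.ET_TI
  have pY := card_conj_RP D.SingY D.EY (Subgroup.normalizer (D.V : Set G)) D.SingY_eq D.EY_normal D.EY_TI
  have n3 := card_conj_elems Sing3 D.E3 D.B D.Sing3_eq D.E3_normal D.E3_TI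
  have nT := card_conj_elems D.SingT D.ET (Subgroup.normalizer (D.T : Set G)) D.SingT_eq D.ET_normal D.ET_TI
  have nY := card_conj_elems D.SingY D.EY (Subgroup.normalizer (D.V : Set G)) D.SingY_eq D.EY_normal D.EY_TI
  rw [D.card_B] at p3 n3
  rw [D.card_normalizer_T] at pT nT
  rw [D.card_normalizer_V] at pY nY
  rw [D.card_RP_ET] at pT
  rw [D.card_RP_EY] at pY
  -- splitting along the categories
  have split : ∀ (α : Type _) [Finite α] (A : Set α) (f : α → G), A.ncard =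
      {x | x ∈ A ∧ f x = 1}.ncard + {x | x ∈ A ∧ Inv2 (f x)}.ncard + {x | x ∈ A ∧ f x ∈ Sing3}.ncard +
        {x | x ∈ A ∧ f x ∈ D.SingT}.ncard + {x | x ∈ A ∧ f x ∈ D.SingY}.ncard +
        {x | x ∈ A ∧ f x ∈ D.X}.ncard := by
    intro α _ A f
    have e : A = {x | x ∈ A ∧ f x = 1} ∪ {x | x ∈ A ∧ Inv2 (f x)} ∪ {x | x ∈ A ∧ f x ∈ Sing3} ∪
        {x | x ∈ A ∧ f x ∈ D.SingT} ∪ {x | x ∈ A ∧ f x ∈ D.SingY} ∪ {x | x ∈ A ∧ f x ∈ D.X} := by
      ext x
      simp only [Set.mem_union, Set.mem_ofPred_eq]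
      refine ⟨fun hx => ?_, ?_⟩
      · rcases D.classify (f x) with h | h | h | h | h | h <;> tauto
      · tauto
    have k1 : ∀ g : G, g = 1 → ¬ Inv2 g ∧ g ∉ Sing3 ∧ g ∉ D.SingT ∧ g ∉ D.SingY ∧ g ∉ D.X := by
      intro g hg
      obtain ⟨d3, dT, dY, dX⟩ := D.disjoint_categories g
      have hsq : g * g = 1 := by rw [hg, one_mul]
      exact ⟨fun h => h.2 hg, fun h => (d3 h).1 hsq, fun h => (dT h).1 hsq, fun h => (dY h).1 hsq,
        fun h => (dX h).1 hg⟩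
    have k2 : ∀ g : G, Inv2 g → g ∉ Sing3 ∧ g ∉ D.SingT ∧ g ∉ D.SingY ∧ g ∉ D.X := by
      intro g hg
      obtain ⟨d3, dT, dY, dX⟩ := D.disjoint_categories g
      exact ⟨fun h => (d3 h).1 hg.1, fun h => (dT h).1 hg.1, fun h => (dY h).1 hg.1,
        fun h => (dX h).2 hg⟩
    conv_lhs => rw [e]
    rw [Set.ncard_union_eq, Set.ncard_union_eq, Set.ncard_union_eq, Set.ncard_union_eq,
      Set.ncard_union_eq]
    · rw [Set.disjoint_left]
      intro x hx hx'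
      exact (k1 _ hx.2).1 hx'.2
    · rw [Set.disjoint_left]
      rintro x (hx | hx) hx'
      · exact (k1 _ hx.2).2.1 hx'.2
      · exact (k2 _ hx.2).1 hx'.2
    · rw [Set.disjoint_left]
      rintro x ((hx | hx) | hx) hx'
      · exact (k1 _ hx.2).2.2.1 hx'.2
      · exact (k2 _ hx.2).2.1 hx'.2
      · exact ((D.disjoint_categories (f x)).1 hx.2).2.1 hx'.2
    · rw [Set.disjoint_left]
      rintro x (((hx | hx) | hx) | hx) hx'
      · exact (k1 _ hx.2).2.2.2.1 hx'.2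
      · exact (k2 _ hx.2).2.2.1 hx'.2
      · exact ((D.disjoint_categories (f x)).1 hx.2).2.2.1 hx'.2
      · exact ((D.disjoint_categories (f x)).2.1 hx.2).2.1 hx'.2
    · rw [Set.disjoint_left]
      rintro x ((((hx | hx) | hx) | hx) | hx) hx'
      · exact (k1 _ hx.2).2.2.2.2 hx'.2
      · exact (k2 _ hx.2).2.2.2 hx'.2
      · exact ((D.disjoint_categories (f x)).1 hx.2).2.2.2 hx'.2
      · exact ((D.disjoint_categories (f x)).2.1 hx.2).2.2 hx'.2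
      · exact ((D.disjoint_categories (f x)).2.2.1 hx.2).2 hx'.2
  have hs := split (G × G) RP Prod.snd
  have hg := split G Set.univ id
  simp only [Set.mem_univ, true_and, id, Set.ncard_univ, Set.ofPred_mem_eq] at hg
  rw [show {x : G | x = 1}.ncard = 1 by simp] at hg
  rw [card_RP, card_RP_one] at hs
  have hN := D.card_invol
  have hI := D.card_RP_invol
  have e3 := D.card_E3
  have eR := D.card_RP_E3
  have eT := D.card_ET
  have eY := D.card_EY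
  generalize {p : G × G | p ∈ RP ∧ Inv2 p.2}.ncard = PI at *
  generalize {p : G × G | p ∈ RP ∧ p.2 ∈ Sing3}.ncard = P3 at *
  generalize {p : G × G | p ∈ RP ∧ p.2 ∈ D.SingT}.ncard = PT at *
  generalize {p : G × G | p ∈ RP ∧ p.2 ∈ D.SingY}.ncard = PY at *
  generalize {p : G × G | p ∈ RP ∧ p.2 ∈ D.X}.ncard = PX at *
  generalize {p : G × G | p ∈ RP ∧ p.2 ∈ D.E3}.ncard = RE at *
  generalize {s : G | Inv2 s}.ncard = N at *
  generalize (Sing3 : Set G).ncard = S3 at *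
  generalize D.SingT.ncard = ST at *
  generalize D.SingY.ncard = SY at *
  generalize D.X.ncard = NX at *
  generalize D.E3.ncard = E3 at *
  generalize D.ET.ncard = ET at *
  generalize D.EY.ncard = EY at *
  have hGcard := D.card_G
  obtain ⟨h27, -, -⟩ := D.q_facts
  have h1 : 1 ≤ D.q := by omega
  have hq2 : 1 ≤ D.q ^ 2 := Nat.one_le_pow _ _ h1
  have hqq : D.q ≤ D.q ^ 2 := Nat.le_self_pow (by norm_num) _
  generalize Nat.card G = Γ at *
  generalize D.q = q at *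
  zify [h1, hq2, hqq] at *
  have hq0 : (q : ℤ) ≠ 0 := by omega
  have hqm : (q : ℤ) - 1 ≠ 0 := by omega
  have hqp : (q : ℤ) + 1 ≠ 0 := by omega
  have hL : (q : ℤ) ^ 3 * ((q : ℤ) - 1) ^ 2 * ((q : ℤ) + 1) ^ 2 * 6 ≠ 0 :=
    mul_ne_zero (mul_ne_zero (mul_ne_zero (pow_ne_zero _ hq0) (pow_ne_zero _ hqm))
      (pow_ne_zero _ hqp)) (by norm_num)
  constructor
  · refine mul_left_cancel₀ hL ?_
    linear_combination (-3 * ((q : ℤ) ^ 3 * ((q : ℤ) - 1) ^ 2 * ((q : ℤ) + 1) ^ 2 * 6)) * hs +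
      (18 * (q : ℤ) * ((N : ℤ) * ((q : ℤ) * ((q : ℤ) ^ 2 - 1)) + (Γ : ℤ))) * hN -
      (18 * (q : ℤ) ^ 2 * ((q : ℤ) ^ 2 - 1)) * hN -
      (18 * (q : ℤ) ^ 3 * ((q : ℤ) - 1) ^ 2 * ((q : ℤ) + 1)) * hI -
      (18 * ((q : ℤ) - 1) * ((q : ℤ) + 1) ^ 2) * p3 -
      (18 * (Γ : ℤ) * ((q : ℤ) - 1) * ((q : ℤ) + 1) ^ 2) * eR -
      (9 * (q : ℤ) ^ 3 * ((q : ℤ) - 1) * ((q : ℤ) + 1) ^ 2) * pT -
      (9 * (q : ℤ) ^ 3 * ((q : ℤ) - 1) ^ 2 * ((q : ℤ) + 1) ^ 2 * (Γ : ℤ)) * eT -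
      (3 * (q : ℤ) ^ 3 * ((q : ℤ) - 1) ^ 2 * ((q : ℤ) + 1)) * pY -
      (3 * (q : ℤ) ^ 3 * ((q : ℤ) - 1) ^ 2 * ((q : ℤ) + 1) ^ 2 * (Γ : ℤ)) * eY +
      (18 * (q : ℤ) * (Γ : ℤ)) * hGcard
  · refine mul_left_cancel₀ hL ?_
    set Q : ℤ := (q : ℤ)
    set M : ℤ := Q ^ 2 - Q + 1
    set L : ℤ := Q ^ 3 * (Q - 1) ^ 2 * (Q + 1) ^ 2 * 6
    linear_combination (-3 * M * L) * hg - (18 * M * Q ^ 2 * (Q ^ 2 - 1)) * hN -
      (18 * M * (Q - 1) * (Q + 1) ^ 2) * n3 - (18 * M * (Q - 1) * (Q + 1) ^ 2 * (Γ : ℤ)) * e3 -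
      (9 * M * Q ^ 3 * (Q - 1) * (Q + 1) ^ 2) * nT -
      (9 * M * Q ^ 3 * (Q - 1) * (Q + 1) ^ 2 * (Γ : ℤ)) * eT -
      (3 * M * Q ^ 3 * (Q - 1) ^ 2 * (Q + 1)) * nY -
      (3 * M * Q ^ 3 * (Q - 1) ^ 2 * (Q + 1) * (Γ : ℤ)) * eY +
      (3 * M * L - 18 * M * Q ^ 2 * (Q ^ 2 - 1) -
        18 * M * (Q - 1) * (Q + 1) ^ 2 * (2 * Q ^ 3 - Q ^ 2 - 1) -
        9 * M * Q ^ 3 * (Q - 1) * (Q + 1) ^ 2 * (Q - 3) -
        3 * M * Q ^ 3 * (Q - 1) ^ 2 * (Q + 1) * (Q - 3) + L * (Q + 1 - M)) * hGcard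

end ReeData

end CfsgLib.Ree
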