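import Mathlib

/-!
Auxiliary facts about cyclic and Hall subgroups of finite groups.
-/

set_option autoImplicit false

namespace CfsgLib.Ree

variable {G : Type*} [Group G] [Finite G]

/-- Conjugation by an element of the normalizer of a cyclic subgroup preserves its subgroups. -/
lemma normalizer_le_of_cyclic {H H0 : Subgroup G} [IsCyclic H] (h0 : H0 ≤ H) :
    Subgroup.normalizer (H : Set G) ≤ Subgroup.normalizer (H0 : Set G) := by
  intro g hg
  refine Subgroup.mem_normalizer_fintype fun x hx => ?_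
  obtain ⟨y, hy⟩ := IsCyclic.exists_generator (α := H)
  obtain ⟨i, hi⟩ := Subgroup.mem_zpowers_iff.1 (hy ⟨x, h0 hx⟩)
  obtain ⟨k, hk⟩ := Subgroup.mem_zpowers_iff.1
    (hy ⟨g * y * g⁻¹, (Subgroup.mem_normalizer_iff.1 hg _).1 y.2⟩)
  have hi' : (y : G) ^ i = x := congrArg Subtype.val hi
  have hk' : (y : G) ^ k = g * y * g⁻¹ := congrArg Subtype.val hk
  rw [SetLike.mem_coe, show g * x * g⁻¹ = x ^ k by
    rw [← hi', ← conj_zpow, ← hk', ← zpow_mul, mul_comm, zpow_mul]]
  exact zpow_mem hx k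

/-- The centralizer of a conjugate. -/
lemma centralizer_conj_iff (g x y : G) :
    y ∈ Subgroup.centralizer {g * x * g⁻¹} ↔ g⁻¹ * y * g ∈ Subgroup.centralizer {x} := by
  rw [Subgroup.mem_centralizer_singleton_iff, Subgroup.mem_centralizer_singleton_iff]
  constructor <;> intro h
  · calc g⁻¹ * y * g * x = g⁻¹ * (y * (g * x * g⁻¹)) * g := by group
      _ = g⁻¹ * (g * x * g⁻¹ * y) * g := by rw [h]
      _ = _ := by group
  · calc y * (g * x * g⁻¹) = g * (g⁻¹ * y * g * x) * g⁻¹ := by group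
      _ = g * (x * (g⁻¹ * y * g)) * g⁻¹ := by rw [h]
      _ = _ := by group

/-- The order of the centralizer of a conjugate. -/
lemma card_centralizer_conj (g x : G) :
    Nat.card ↥(Subgroup.centralizer {g * x * g⁻¹}) = Nat.card ↥(Subgroup.centralizer {x}) :=
  Nat.card_congr ((MulAut.conj g⁻¹).toEquiv.subtypeEquiv fun y => by
    simpa using centralizer_conj_iff g x y)

/-- A Sylow subgroup for a prime of a cyclic Hall subgroup is cyclic. -/
lemma sylow_cyclic_of_hall {H : Subgroup G} [IsCyclic H] {c p : ℕ} [hp : Fact p.Prime]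
    (hG : Nat.card G = Nat.card H * c) (hc : ¬ p ∣ c) (P : Sylow p G) :
    IsCyclic ↥(P : Subgroup G) := by
  obtain ⟨Q, hQ⟩ := Sylow.exists_subgroup_card_pow_prime (G := H) p
    (Nat.ordProj_dvd (Nat.card H) p)
  have hQ' : Nat.card (Q.map H.subtype) = p ^ (Nat.card G).factorization p := by
    rw [Subgroup.card_map_of_injective H.subtype_injective, hQ, hG,
      Nat.factorization_mul Nat.card_pos.ne' (fun h => hc (by rw [h]; exact dvd_zero p)), Finsupp.add_apply,
      Nat.factorization_eq_zero_of_not_dvd hc, add_zero]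
  obtain ⟨g, hg⟩ := MulAction.exists_smul_eq G (Sylow.ofCard (Q.map H.subtype) hQ') P
  have hQH : IsCyclic ↥(Q.map H.subtype) := Subgroup.isCyclic_of_le (Subgroup.map_subtype_le Q)
  have e := congrArg (fun R : Sylow p G => (R : Subgroup G)) hg
  simp only [Sylow.coe_subgroup_smul] at e
  rw [← e]
  exact isCyclic_of_surjective _ (Subgroup.equivSMul (MulAut.conj g) (Q.map H.subtype)).surjective

/-- In an abelian subgroup, an element of order coprime to the index lies in the subgroup. -/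
lemma mem_of_coprime {C H : Subgroup G} {e : ℕ} (hHC : H ≤ C)
    (hcomm : ∀ x ∈ C, ∀ y ∈ C, x * y = y * x) (hcard : Nat.card C = Nat.card H * e)
    {x : G} (hx : x ∈ C) (hco : (orderOf x).Coprime e) : x ∈ H := by
  have : (H.subgroupOf C).Normal := ⟨fun n hn g => by
    rwa [show g * n * g⁻¹ = n from Subtype.ext (by
      simp only [Subgroup.coe_mul, Subgroup.coe_inv]
      rw [hcomm _ g.2 _ n.2, mul_inv_cancel_right])]⟩
  have hidx : (H.subgroupOf C).index = e := by
    have h := (H.subgroupOf C).card_mul_index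
    rw [Nat.card_congr (Subgroup.subgroupOfEquivOfLe hHC).toEquiv, hcard] at h
    exact Nat.eq_of_mul_eq_mul_left Nat.card_pos h
  have h1 := (H.subgroupOf C).pow_index_mem ⟨x, hx⟩
  rw [hidx, Subgroup.mem_subgroupOf, Subgroup.coe_pow] at h1
  obtain ⟨m, hm⟩ := exists_pow_eq_self_of_coprime hco.symm
  rw [← hm]
  exact pow_mem h1 m

/-- A Hall subgroup all of whose nontrivial elements have the same abelian centralizer contains a
conjugate of every element of dividing order. -/
lemma exists_conj_hall {H C : Subgroup G} {e : ℕ} (he : (Nat.card H).Coprime e) (hHC : H ≤ C)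
    (hC : Nat.card C = Nat.card H * e) (hcomm : ∀ x ∈ C, ∀ y ∈ C, x * y = y * x)
    (hcent : ∀ z ∈ H, z ≠ 1 → Subgroup.centralizer {z} = C)
    (hinto : ∀ (p : ℕ), p.Prime → p ∣ Nat.card H → ∀ z : G, orderOf z = p →
      ∃ h, h * z * h⁻¹ ∈ H)
    {x : G} (hx : orderOf x ∣ Nat.card H) : ∃ h, h * x * h⁻¹ ∈ H := by
  rcases eq_or_ne x 1 with rfl | h1
  · exact ⟨1, by simp⟩
  obtain ⟨p, hp, hpx⟩ := Nat.exists_prime_and_dvd (fun h => h1 (orderOf_eq_one_iff.1 h))
  have := Fact.mk hp
  have hzp : orderOf (x ^ (orderOf x / p)) = p := orderOf_pow_orderOf_div (orderOf_pos x).ne' hpx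
  obtain ⟨h, hh⟩ := hinto p hp (hpx.trans hx) _ hzp
  refine ⟨h, mem_of_coprime hHC hcomm hC ?_ ?_⟩
  · rw [← hcent _ hh (fun e1 => ?_), Subgroup.mem_centralizer_singleton_iff, ← conj_pow]
    · exact (Commute.self_pow _ _).eq
    · rw [conj_eq_one_iff] at e1
      rw [e1, orderOf_one] at hzp
      exact hp.ne_one hzp.symm
  · rw [← MulAut.conj_apply, MulEquiv.orderOf_eq]
    exact he.of_dvd_left hx

/-- A free action makes the number of points divisible by the group order. -/
lemma card_dvd_of_free_action {K α : Type*} [Group K] [Finite K] [MulAction K α] [Finite α]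
    (hfree : ∀ (k : K) (a : α), k • a = a → k = 1) : Nat.card K ∣ Nat.card α := by
  have hbot : ∀ a : α, MulAction.stabilizer K a = ⊥ := fun a =>
    (Subgroup.eq_bot_iff_forall _).2 fun k hk => hfree k a hk
  classical
  let _ : Fintype (MulAction.orbitRel.Quotient K α) := Fintype.ofFinite _
  rw [Nat.card_congr (MulAction.selfEquivSigmaOrbitsQuotientStabilizer K α), Nat.card_sigma]
  refine Finset.dvd_sum fun ω _ => ?_
  rw [← Subgroup.index_eq_card, hbot, Subgroup.index_bot]

/-- Double cosets outside a normalizer which meets no conjugate. -/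
lemma card_mul_dvd_sub (A N : Subgroup G)
    (h : ∀ g : G, g ∉ N → ∀ a ∈ A, g⁻¹ * a * g ∈ N → a = 1) (hAN : A ≤ N) :
    Nat.card A * Nat.card N ∣ Nat.card G - Nat.card N := by
  let α := {g : G // g ∉ N}
  let _ : MulAction (A × N) α :=
    { smul := fun k g => ⟨k.1.1 * g.1 * (k.2.1)⁻¹, fun hm => g.2 (by
        have h1 := mul_mem (mul_mem (inv_mem (hAN k.1.2)) hm) k.2.2
        rwa [show (k.1.1)⁻¹ * (k.1.1 * g.1 * (k.2.1)⁻¹) * k.2.1 = g.1 by group] at h1)⟩
      one_smul := fun g => Subtype.ext (by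
        show (1 : G) * g.1 * (1 : G)⁻¹ = g.1
        simp)
      mul_smul := fun k l g => Subtype.ext (by
        show k.1.1 * l.1.1 * g.1 * (k.2.1 * l.2.1)⁻¹ =
          k.1.1 * (l.1.1 * g.1 * (l.2.1)⁻¹) * (k.2.1)⁻¹
        group) }
  have hd := card_dvd_of_free_action (K := A × N) (α := α) fun k g e => by
    have e' : k.1.1 * g.1 * (k.2.1)⁻¹ = g.1 := congrArg Subtype.val e
    have hn : g.1⁻¹ * k.1.1 * g.1 = k.2.1 := by
      calc g.1⁻¹ * k.1.1 * g.1 = g.1⁻¹ * (k.1.1 * g.1 * (k.2.1)⁻¹) * k.2.1 := by group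
        _ = _ := by rw [e']; group
    have ha := h g.1 g.2 _ k.1.2 (hn ▸ k.2.2)
    rw [ha, mul_one, inv_mul_cancel] at hn
    exact Prod.ext (Subtype.ext ha) (Subtype.ext hn.symm)
  have hα : Nat.card α = Nat.card G - Nat.card N := by
    rw [show Nat.card α = ((N : Set G)ᶜ).ncard from Nat.card_coe_set_eq _, Set.ncard_compl,
      ← Nat.card_coe_set_eq (N : Set G)]
    rfl
  rwa [Nat.card_prod, hα] at hd

end CfsgLib.Ree
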