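import Cfsg.Agent.Lib.Ree.Hall

/-!
Elements of prime order dividing `q² - q + 1` in `GL₇(q)`, `q` a power of three: Sylow subgroups
are cyclic and automizers have exponent dividing six.
-/

set_option autoImplicit false

namespace CfsgLib.Ree.GLSeven

open Matrix Polynomial

variable {K : Type*} [Field K] [Fintype K] [CharP K 3]

lemma card_K_mod : Fintype.card K % 3 = 0 := by
  obtain ⟨n, -, hn⟩ := FiniteField.card K 3
  rw [hn]
  exact Nat.mod_eq_zero_of_dvd (dvd_pow_self 3 n.2.ne')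

/-- The order of `q` modulo a prime divisor of `q² - q + 1` is six. -/
lemma orderOf_card_eq_six {p : ℕ} (hp : p.Prime)
    (hd : p ∣ Fintype.card K ^ 2 - Fintype.card K + 1) :
    orderOf (Fintype.card K : ZMod p) = 6 := by
  have := Fact.mk hp
  have hq3 := card_K_mod (K := K)
  have hq1 : 1 < Fintype.card K := Fintype.one_lt_card
  generalize Fintype.card K = q at *
  have hle : q ≤ q ^ 2 := Nat.le_self_pow (by norm_num) _
  have hz : ((q ^ 2 - q + 1 : ℕ) : ZMod p) = 0 := (ZMod.natCast_eq_zero_iff _ _).2 hd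
  rw [Nat.cast_add, Nat.cast_sub hle, Nat.cast_pow, Nat.cast_one] at hz
  set z := (q : ZMod p)
  have hp2 : p ≠ 2 := by
    rintro rfl
    have he : Even (q ^ 2 - q) := by
      rw [pow_two, ← Nat.mul_sub_one]
      exact Nat.even_mul_pred_self q
    obtain ⟨k, hk⟩ := he
    omega
  have hp3 : p ≠ 3 := by
    rintro rfl
    have h3 : 3 ∣ q ^ 2 - q := by
      rw [pow_two, ← Nat.mul_sub_one]
      exact Dvd.dvd.mul_right (Nat.dvd_of_mod_eq_zero hq3) _
    omega
  have h2 : (2 : ZMod p) ≠ 0 := by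
    intro h
    have : ((2 : ℕ) : ZMod p) = 0 := by exact_mod_cast h
    exact hp2 ((Nat.prime_dvd_prime_iff_eq hp Nat.prime_two).1 ((ZMod.natCast_eq_zero_iff _ _).1 this))
  have h3 : (3 : ZMod p) ≠ 0 := by
    intro h
    have : ((3 : ℕ) : ZMod p) = 0 := by exact_mod_cast h
    exact hp3 ((Nat.prime_dvd_prime_iff_eq hp Nat.prime_three).1 ((ZMod.natCast_eq_zero_iff _ _).1 this))
  have hcube : z ^ 3 = -1 := by linear_combination (z + 1) * hz
  have hne2 : z ^ 2 ≠ 1 := by
    intro h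
    have hz2 : z = 2 := by linear_combination h - hz
    rw [hz2] at h
    exact h3 (by linear_combination h)
  have hne3 : z ^ 3 ≠ 1 := by
    rw [hcube]
    exact fun h => h2 (by linear_combination -h)
  have h6 : z ^ 6 = 1 := by
    rw [show (6 : ℕ) = 3 * 2 from rfl, pow_mul, hcube, neg_one_sq]
  have hd6 := orderOf_dvd_of_pow_eq_one h6
  have hle6 := Nat.le_of_dvd (by norm_num) hd6
  have hpos : 0 < orderOf z := Nat.pos_of_dvd_of_pos hd6 (by norm_num)
  have hn2 : ¬ orderOf z ∣ 2 := fun h => hne2 (orderOf_dvd_iff_pow_eq_one.1 h)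
  have hn3 : ¬ orderOf z ∣ 3 := fun h => hne3 (orderOf_dvd_iff_pow_eq_one.1 h)
  generalize orderOf z = n at *
  interval_cases n <;> omega

/-- The regular representation of `L × K`, `L` of degree six, in matrices of size seven. -/
theorem exists_rep : ∃ (L : Type) (_ : Field L) (_ : Finite L) (_ : Algebra K L)
    (φ : (L × K) →ₐ[K] Matrix (Fin 7) (Fin 7) K),
      Function.Injective φ ∧ Module.finrank K L = 6 ∧ Nat.card L = Fintype.card K ^ 6 := by
  have : Fact (Nat.Prime 3) := ⟨Nat.prime_three⟩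
  have : NeZero (6 : ℕ) := ⟨by norm_num⟩
  have hr : Module.finrank K (FiniteField.Extension K 3 6 × K) = 7 := by
    rw [Module.finrank_prod, FiniteField.finrank_extension, Module.finrank_self]
  refine ⟨FiniteField.Extension K 3 6, inferInstance, inferInstance, inferInstance,
    Algebra.leftMulMatrix (Module.finBasisOfFinrankEq K _ hr), Algebra.leftMulMatrix_injective _,
    FiniteField.finrank_extension K 3 6, ?_⟩
  rw [FiniteField.natCard_extension, Nat.card_eq_fintype_card]

/-- The multiplicative group of the extension inside `GL₇`. -/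
noncomputable def singerHom {L : Type} [Field L] [Algebra K L]
    (φ : (L × K) →ₐ[K] Matrix (Fin 7) (Fin 7) K) : Lˣ →* GL (Fin 7) K :=
  (Units.map φ.toRingHom.toMonoidHom).comp (Units.map (MonoidHom.inl L K))

lemma coe_singerHom {L : Type} [Field L] [Algebra K L]
    (φ : (L × K) →ₐ[K] Matrix (Fin 7) (Fin 7) K) (z : Lˣ) :
    ((singerHom φ z : GL (Fin 7) K) : Matrix (Fin 7) (Fin 7) K) = φ ((z : L), 1) := rfl

lemma singerHom_injective {L : Type} [Field L] [Algebra K L]
    {φ : (L × K) →ₐ[K] Matrix (Fin 7) (Fin 7) K} (hφ : Function.Injective φ) :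
    Function.Injective (singerHom φ) := fun z w h => Units.ext
  (congrArg Prod.fst (hφ ((coe_singerHom φ z).symm.trans ((congrArg Units.val h).trans
    (coe_singerHom φ w)))))

/-- The Singer cyclic subgroup is a Hall subgroup at `p`. -/
lemma card_GL_seven {p : ℕ} (hp : p.Prime) (hd : p ∣ Fintype.card K ^ 2 - Fintype.card K + 1) :
    ∃ c, Nat.card (GL (Fin 7) K) = (Fintype.card K ^ 6 - 1) * c ∧ ¬ p ∣ c := by
  have := Fact.mk hp
  have ho := orderOf_card_eq_six (K := K) hp hd
  have hq1 : 1 < Fintype.card K := Fintype.one_lt_card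
  rw [Matrix.card_GL_field]
  generalize Fintype.card K = q at *
  have hpq : ¬ p ∣ q := fun h => by
    rw [(ZMod.natCast_eq_zero_iff _ _).2 h, orderOf_zero] at ho
    omega
  have hpow : ∀ j, 0 < j → j ≤ 7 → j ≠ 6 → ¬ p ∣ q ^ j - 1 := by
    intro j h1 h2 h6 h
    have h0 : ((q ^ j - 1 : ℕ) : ZMod p) = 0 := (ZMod.natCast_eq_zero_iff _ _).2 h
    rw [Nat.cast_sub (Nat.one_le_pow _ _ (by omega)), Nat.cast_pow, Nat.cast_one, sub_eq_zero] at h0
    have h3 := orderOf_dvd_of_pow_eq_one h0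
    rw [ho] at h3
    omega
  have hfac : ∀ i : ℕ, i ≤ 6 → q ^ 7 - q ^ i = q ^ i * (q ^ (7 - i) - 1) := fun i hi => by
    rw [Nat.mul_sub, mul_one, ← pow_add, Nat.add_sub_cancel' (by omega)]
  refine ⟨q ^ 21 * ((q ^ 7 - 1) * (q ^ 5 - 1) * (q ^ 4 - 1) * (q ^ 3 - 1) * (q ^ 2 - 1) * (q - 1)),
    ?_, ?_⟩
  · simp only [Fin.prod_univ_seven, Fin.val_zero, Fin.val_one, Fin.val_two]
    rw [show ((3 : Fin 7) : ℕ) = 3 from rfl, show ((4 : Fin 7) : ℕ) = 4 from rfl,
      show ((5 : Fin 7) : ℕ) = 5 from rfl, show ((6 : Fin 7) : ℕ) = 6 from rfl,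
      hfac 0 (by omega), hfac 1 (by omega), hfac 2 (by omega), hfac 3 (by omega),
      hfac 4 (by omega), hfac 5 (by omega), hfac 6 le_rfl]
    simp only [Nat.reduceSub, pow_one, pow_zero, one_mul]
    ring
  · simp only [Nat.Prime.dvd_mul hp, not_or]
    exact ⟨fun h => hpq (hp.dvd_of_dvd_pow h), ⟨⟨⟨⟨hpow 7 (by omega) le_rfl (by omega),
      hpow 5 (by omega) (by omega) (by omega)⟩, hpow 4 (by omega) (by omega) (by omega)⟩,
      hpow 3 (by omega) (by omega) (by omega)⟩, hpow 2 (by omega) (by omega) (by omega)⟩,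
      by simpa using hpow 1 (by omega) (by omega) (by omega)⟩

/-- Some Sylow subgroup lies in the Singer subgroup. -/
lemma exists_sylow_le {p : ℕ} [hp : Fact p.Prime]
    (hd : p ∣ Fintype.card K ^ 2 - Fintype.card K + 1) {L : Type} [Field L] [Finite L] [Algebra K L]
    {φ : (L × K) →ₐ[K] Matrix (Fin 7) (Fin 7) K} (hφ : Function.Injective φ)
    (hL : Nat.card L = Fintype.card K ^ 6) :
    ∃ P : Sylow p (GL (Fin 7) K), (P : Subgroup (GL (Fin 7) K)) ≤ (singerHom φ).range := by
  obtain ⟨c, hc, hpc⟩ := card_GL_seven (K := K) hp.out hd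
  set H := (singerHom φ).range
  have hH : Nat.card H = Fintype.card K ^ 6 - 1 := by
    rw [← Nat.card_congr (MonoidHom.ofInjective (singerHom_injective hφ)).toEquiv, Nat.card_units, hL]
  obtain ⟨Q, hQ⟩ := Sylow.exists_subgroup_card_pow_prime (G := H) p
    (Nat.ordProj_dvd (Nat.card H) p)
  refine ⟨Sylow.ofCard (Q.map H.subtype) ?_, Subgroup.map_subtype_le Q⟩
  rw [Subgroup.card_map_of_injective H.subtype_injective, hQ, hc, hH,
    Nat.factorization_mul (by rw [← hH]; exact Nat.card_pos.ne') (fun h => hpc (by rw [h]; exact dvd_zero p)),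
    Finsupp.add_apply, Nat.factorization_eq_zero_of_not_dvd hpc, add_zero]

/-- Sylow subgroups of `GL₇(q)` for prime divisors of `q² - q + 1` are cyclic. -/
theorem sylow_cyclic {p : ℕ} [hp : Fact p.Prime]
    (hd : p ∣ Fintype.card K ^ 2 - Fintype.card K + 1) (P : Sylow p (GL (Fin 7) K)) :
    IsCyclic ↥(P : Subgroup (GL (Fin 7) K)) := by
  obtain ⟨L, _, _, _, φ, hφ, -, hL⟩ := exists_rep (K := K)
  obtain ⟨P0, hP0⟩ := exists_sylow_le hd hφ hL
  obtain ⟨g, rfl⟩ := MulAction.exists_smul_eq (GL (Fin 7) K) P0 P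
  have : IsCyclic ↥((singerHom φ).range) :=
    isCyclic_of_surjective _ (singerHom φ).rangeRestrict_surjective
  have : IsCyclic ↥(P0 : Subgroup (GL (Fin 7) K)) := Subgroup.isCyclic_of_le hP0
  exact isCyclic_of_surjective _ (Subgroup.equivSMul (MulAut.conj g)
    (P0 : Subgroup (GL (Fin 7) K))).surjective

omit [Fintype K] [CharP K 3] in
/-- Polynomials preserve intertwining. -/
lemma aeval_semiconj {A : Type*} [Ring A] [Algebra K A] {g a b : A} (h : g * a = b * g) (f : K[X]) :
    g * aeval a f = aeval b f * g := by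
  induction f using Polynomial.induction_on' with
  | add f1 f2 h1 h2 => rw [map_add, map_add, mul_add, add_mul, h1, h2]
  | monomial n c =>
    rw [aeval_monomial, aeval_monomial, ← mul_assoc, ← Algebra.commutes, mul_assoc, mul_assoc,
      (SemiconjBy.pow_right (show SemiconjBy g a b from h) n).eq]

/-- The automizer of an element of order `p` has exponent dividing six. -/
theorem autom {p : ℕ} [hp : Fact p.Prime]
    (hd : p ∣ Fintype.card K ^ 2 - Fintype.card K + 1) {x g : GL (Fin 7) K} (hx : orderOf x = p)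
    {i : ℕ} (hg : g * x * g⁻¹ = x ^ i) : i ^ 6 ≡ 1 [MOD p] := by
  obtain ⟨L, _, _, _, φ, hφ, hrk, hL⟩ := exists_rep (K := K)
  obtain ⟨P0, hP0⟩ := exists_sylow_le hd hφ hL
  obtain ⟨P, hP⟩ := (IsPGroup.of_card (p := p) (G := Subgroup.zpowers x) (n := 1)
    (by rw [Nat.card_zpowers, hx, pow_one])).exists_le_sylow
  obtain ⟨u, hu⟩ := MulAction.exists_smul_eq (GL (Fin 7) K) P P0
  have hux : u * x * u⁻¹ ∈ (P0 : Subgroup (GL (Fin 7) K)) := by
    rw [← hu]
    exact Subgroup.smul_mem_pointwise_smul x (MulAut.conj u) _ (hP (Subgroup.mem_zpowers x))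
  obtain ⟨z, hz⟩ := hP0 hux
  set g' := u * g * u⁻¹
  have hg' : g' * singerHom φ z = singerHom φ (z ^ i) * g' := by
    rw [map_pow, hz, conj_pow, ← hg]
    simp only [g']
    group
  set f : K[X] := minpoly K (z : L) * (X - 1)
  have hf : ∀ w : L, aeval ((w, (1 : K)) : L × K) f = (aeval w (minpoly K (z : L)) * (w - 1), 0) := by
    intro w
    rw [map_mul, map_sub, aeval_X, map_one]
    refine Prod.ext ?_ ?_
    · show (aeval ((w, (1 : K)) : L × K) (minpoly K (z : L))).1 * (w - 1) = _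
      rw [show (aeval ((w, (1 : K)) : L × K) (minpoly K (z : L))).1 =
        aeval w (minpoly K (z : L)) from
          (aeval_algHom_apply (AlgHom.fst K L K) _ _).symm]
    · show _ * ((1 : K) - 1) = 0
      rw [sub_self, mul_zero]
  have h0 : φ (aeval ((((z ^ i : Lˣ) : L)), (1 : K)) f) * (g' : Matrix (Fin 7) (Fin 7) K) = 0 := by
    have e := aeval_semiconj (K := K) (congrArg Units.val hg' :
      (g' : Matrix (Fin 7) (Fin 7) K) * φ ((z : L), 1) = φ (((z ^ i : Lˣ) : L), 1) * g') f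
    simp only [coe_singerHom] at e
    rw [aeval_algHom_apply, aeval_algHom_apply, hf (z : L), minpoly.aeval, zero_mul,
      Prod.mk_zero_zero, map_zero, mul_zero] at e
    exact e.symm
  have h1 : aeval ((((z ^ i : Lˣ) : L)), (1 : K)) f = 0 :=
    hφ (by rw [map_zero]; exact (Units.mul_left_eq_zero g').1 h0)
  rw [hf] at h1
  have h2 : aeval ((z ^ i : Lˣ) : L) (minpoly K (z : L)) * (((z ^ i : Lˣ) : L) - 1) = 0 :=
    congrArg Prod.fst h1
  have hzo : orderOf z = p := by
    rw [← orderOf_injective _ (singerHom_injective hφ) z, hz, ← MulAut.conj_apply,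
      MulEquiv.orderOf_eq, hx]
  have hzi : (((z ^ i : Lˣ) : L) - 1) ≠ 0 := by
    intro h
    have e : z ^ i = 1 := Units.ext (by rw [sub_eq_zero] at h; exact h)
    have e' : x ^ i = 1 := by
      rw [← conj_eq_one_iff (a := u), ← conj_pow, ← hz, ← map_pow, e, map_one]
    rw [← hg, conj_eq_one_iff] at e'
    rw [e', orderOf_one] at hx
    exact hp.out.ne_one hx.symm
  have h3 := (mul_eq_zero.1 h2).resolve_right hzi
  have : FiniteDimensional K L := Module.Finite.of_finite
  obtain ⟨σ0, hσ0⟩ := minpoly.exists_algEquiv_of_root (K := K)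
    (Algebra.IsAlgebraic.isAlgebraic (z : L)) h3
  set σ : L ≃ₐ[K] L := σ0⁻¹
  have hσ : σ (z : L) = ((z ^ i : Lˣ) : L) := by
    rw [← hσ0]
    exact σ0.symm_apply_apply _
  have hcard : Nat.card (L ≃ₐ[K] L) = 6 := by rw [IsGalois.card_aut_eq_finrank, hrk]
  have hσ6 : σ ^ 6 = 1 := hcard ▸ pow_card_eq_one'
  have hpow : ∀ n : ℕ, (σ ^ n) (z : L) = (z : L) ^ i ^ n := by
    intro n
    induction n with
    | zero => simp
    | succ n ih =>
      have hσ' : σ (z : L) = (z : L) ^ i := by rw [hσ, Units.val_pow_eq_pow_val]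
      rw [pow_succ', AlgEquiv.mul_apply, ih, map_pow, hσ', ← pow_mul, pow_succ, mul_comm]
  have h6 := hpow 6
  rw [hσ6, AlgEquiv.one_apply] at h6
  have h7 : z ^ i ^ 6 = z ^ 1 := Units.ext (by
    rw [Units.val_pow_eq_pow_val, pow_one]; exact h6.symm)
  rw [← hzo]
  exact pow_eq_pow_iff_modEq.1 h7

end CfsgLib.Ree.GLSeven
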