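import Cfsg.Agent.Lib.Chev.TwistG2Sylow2
import Cfsg.Agent.Lib.SL2.Torus

/-!
The torus of order `q + 1` in `SL₂(q)`, `q ≡ 3 mod 4`, and its image in the small Ree group.
-/

set_option autoImplicit false
set_option linter.unusedSectionVars false

open scoped IsMulCommutative MatrixGroups

namespace CfsgLib.Ree

open Matrix CfsgLib.Chev

variable {K : Type*} [Field K] [Fintype K] [CharP K 3]

/-- The non-split torus through the element of order four. -/
noncomputable def rotG2 (K : Type*) [Field K] [Fintype K] [CharP K 3] : Subgroup SL(2, K) :=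
  SL2.cent (quatI : SL(2, K))

lemma mem_rotG2 {g : SL(2, K)} : g ∈ rotG2 K ↔ quatI * g = g * quatI := SL2.mem_cent_iff

lemma quatI_nonScalar : SL2.NonScalar ((quatI : SL(2, K)) : Matrix (Fin 2) (Fin 2) K) := by
  rw [SL2.nonScalar_iff, coe_quatI]
  simp

lemma trace_quatI : ((quatI : SL(2, K)) : Matrix (Fin 2) (Fin 2) K).trace = 0 := by
  rw [coe_quatI, Matrix.trace_fin_two]; simp

lemma rotG2_cyclic_card (h4 : Fintype.card K % 4 = 3) :
    IsCyclic (rotG2 K) ∧ Nat.card (rotG2 K) = Fintype.card K + 1 := by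
  obtain ⟨h1, h2⟩ := SL2.cent_nonsplit (g := (quatI : SL(2, K))) fun c hc => by
    rw [trace_quatI] at hc
    exact (FiniteField.isSquare_neg_one_iff.1 ⟨c, by linear_combination -hc⟩) h4
  exact ⟨h1, h2.trans (by rw [Nat.card_eq_fintype_card])⟩

lemma rotG2_comm {g h : SL(2, K)} (hg : g ∈ rotG2 K) (hh : h ∈ rotG2 K) : g * h = h * g :=
  SL2.cent_comm quatI_nonScalar hg hh

lemma neg_one_mem_rotG2 : (-1 : SL(2, K)) ∈ rotG2 K := by
  rw [mem_rotG2, mul_neg, mul_one, neg_mul, one_mul]

lemma quatJ_inv_rot {g : SL(2, K)} (hg : g ∈ rotG2 K) : quatJ * g * quatJ⁻¹ = g⁻¹ := by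
  rw [mul_inv_eq_iff_eq_mul]
  obtain ⟨a, b, hab, -⟩ := SL2.exists_coords quatI_nonScalar hg
  refine Subtype.ext ?_
  rw [Matrix.SpecialLinearGroup.coe_mul, Matrix.SpecialLinearGroup.coe_mul, SL2.coe_inv_eq, hab,
    coe_quatI, coe_quatJ]
  ext i j
  fin_cases i <;> fin_cases j <;> simp [Matrix.mul_apply, Matrix.trace_fin_two] <;> ring

lemma quatJ_not_rot : (quatJ : SL(2, K)) ∉ rotG2 K := fun h => by
  have e := congrArg (fun m : SL(2, K) => (m : Matrix (Fin 2) (Fin 2) K) 0 0) (mem_rotG2.1 h)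
  simp [Matrix.SpecialLinearGroup.coe_mul, coe_quatI, coe_quatJ] at e
  exact two_ne_zeroG2 (K := K) (by linear_combination e)

/-- The elements commuting with the element of order four up to sign. -/
lemma comm_mk_iff (g : SL(2, K)) :
    (g : SL(2, K) ⧸ Subgroup.center SL(2, K)) ∈ Subgroup.centralizer
      {((quatI : SL(2, K)) : SL(2, K) ⧸ Subgroup.center SL(2, K))} ↔
      g ∈ rotG2 K ∨ g * quatJ ∈ rotG2 K := by
  rw [Subgroup.mem_centralizer_singleton_iff, ← QuotientGroup.mk_mul, ← QuotientGroup.mk_mul,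
    eq_mk_iff, mem_rotG2, mem_rotG2]
  refine or_congr ⟨Eq.symm, Eq.symm⟩ ?_
  constructor
  · intro h
    calc quatI * (g * quatJ) = -1 * (-1 * (quatI * g)) * quatJ := by simp [mul_assoc]
      _ = -1 * (g * quatI) * quatJ := by rw [← h]
      _ = -1 * (g * (quatI * quatJ)) := by simp [mul_assoc]
      _ = -1 * (g * (-1 * (quatJ * quatI))) := by rw [quat_anticomm]
      _ = _ := by simp [mul_assoc]
  · intro h
    have e : quatI * g * quatJ = -1 * (g * quatI) * quatJ := by
      calc quatI * g * quatJ = g * quatJ * quatI := by rw [mul_assoc, h]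
        _ = g * (-1 * (-1 * (quatJ * quatI))) := by simp [mul_assoc]
        _ = g * (-1 * (quatI * quatJ)) := by rw [quat_anticomm]
        _ = _ := by simp [mul_assoc]
    rw [mul_right_cancel e]
    simp

lemma card_comap_cent (h4 : Fintype.card K % 4 = 3) :
    Nat.card ↥((Subgroup.centralizer
      {((quatI : SL(2, K)) : SL(2, K) ⧸ Subgroup.center SL(2, K))}).comap
        (QuotientGroup.mk' (Subgroup.center SL(2, K)))) = 2 * (Fintype.card K + 1) := by
  set C := (Subgroup.centralizer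
      {((quatI : SL(2, K)) : SL(2, K) ⧸ Subgroup.center SL(2, K))}).comap
        (QuotientGroup.mk' (Subgroup.center SL(2, K)))
  have he : (C : Set SL(2, K)) = (rotG2 K : Set SL(2, K)) ∪ (· * quatJ⁻¹) '' (rotG2 K : Set SL(2, K)) := by
    ext g
    rw [SetLike.mem_coe, Subgroup.mem_comap, QuotientGroup.mk'_apply, comm_mk_iff]
    refine or_congr Iff.rfl ⟨fun h => ⟨g * quatJ, h, mul_inv_cancel_right g quatJ⟩, ?_⟩
    rintro ⟨x, hx, rfl⟩
    rwa [inv_mul_cancel_right]
  have hd : Disjoint (rotG2 K : Set SL(2, K)) ((· * quatJ⁻¹) '' (rotG2 K : Set SL(2, K))) := by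
    rw [Set.disjoint_left]
    rintro g hg ⟨x, hx, rfl⟩
    exact quatJ_not_rot (inv_mem_iff.1 (by
      simpa using mul_mem (inv_mem hx) hg : (quatJ : SL(2, K))⁻¹ ∈ rotG2 K))
  have h1 : (C : Set SL(2, K)).ncard = 2 * (Fintype.card K + 1) := by
    rw [he, Set.ncard_union_eq hd, Set.ncard_image_of_injective _ (mul_left_injective _),
      ← Nat.card_coe_set_eq]
    show Nat.card (rotG2 K) + Nat.card (rotG2 K) = _
    rw [(rotG2_cyclic_card h4).2, two_mul]
  rw [← Nat.card_coe_set_eq] at h1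
  exact h1

lemma card_cent_mk (h4 : Fintype.card K % 4 = 3) :
    Nat.card ↥(Subgroup.centralizer
      {((quatI : SL(2, K)) : SL(2, K) ⧸ Subgroup.center SL(2, K))}) = Fintype.card K + 1 := by
  set C := Subgroup.centralizer {((quatI : SL(2, K)) : SL(2, K) ⧸ Subgroup.center SL(2, K))}
  set P := C.comap (QuotientGroup.mk' (Subgroup.center SL(2, K)))
  let φ : P →* C := (QuotientGroup.mk' (Subgroup.center SL(2, K))).subgroupComap C
  have hsurj : Function.Surjective φ := by
    rintro ⟨p, hp⟩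
    induction p using QuotientGroup.induction_on with | H g => ?_
    exact ⟨⟨g, hp⟩, rfl⟩
  have hker : φ.ker = (Subgroup.center SL(2, K)).subgroupOf P := by
    ext ⟨g, hg⟩
    rw [MonoidHom.mem_ker, Subgroup.mem_subgroupOf]
    exact ⟨fun h => (QuotientGroup.eq_one_iff g).1 (congrArg Subtype.val h),
      fun h => Subtype.ext ((QuotientGroup.eq_one_iff g).2 h)⟩
  have hle : Subgroup.center SL(2, K) ≤ P := fun z hz => by
    show (z : SL(2, K) ⧸ Subgroup.center SL(2, K)) ∈ C
    rw [(QuotientGroup.eq_one_iff z).2 hz]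
    exact one_mem _
  have hz : Nat.card (Subgroup.center SL(2, K)) = 2 := by
    rw [Nat.card_eq_two_iff' (1 : Subgroup.center SL(2, K))]
    refine ⟨⟨-1, SL2.neg_one_mem_center⟩, ?_, ?_⟩
    · exact fun h => SL2.neg_one_ne_one (two_ne_zeroG2 (K := K)) (congrArg Subtype.val h)
    · rintro ⟨x, hx⟩ hne
      exact Subtype.ext ((SL2.eq_one_or_eq_neg_one_of_mem_center x hx).resolve_left
        fun h => hne (Subtype.ext h))
  have h := Subgroup.card_eq_card_quotient_mul_card_subgroup φ.ker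
  rw [Nat.card_congr (QuotientGroup.quotientKerEquivOfSurjective φ hsurj).toEquiv, hker,
    Nat.card_congr (Subgroup.subgroupOfEquivOfLe hle).toEquiv, hz] at h
  have hP : Nat.card P = 2 * (Fintype.card K + 1) := card_comap_cent h4
  omega

variable {e : ℕ} (f : K →+* K) (hf : ∀ t, f t = t ^ e)

include hf

/-- The embedded squares of the torus. -/
noncomputable def rotSqHom (hK : Fintype.card K = 3 * e ^ 2) :
    ↥(rotG2 K) →* ↥(endoG2 f).fix :=
  MonoidHom.mk' (fun g => ⟨psiG2 f (g.1 * g.1), psiG2_mem_fix f hf hK _⟩) fun g h => by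
    refine Subtype.ext ?_
    show psiG2 f (g.1 * h.1 * (g.1 * h.1)) = psiG2 f (g.1 * g.1) * psiG2 f (h.1 * h.1)
    rw [← map_mul]
    congr 1
    exact Commute.mul_mul_mul_comm (rotG2_comm h.2 g.2 : Commute h.1 g.1) g.1 h.1

lemma coe_rotSqHom (hK : Fintype.card K = 3 * e ^ 2) (g : ↥(rotG2 K)) :
    ((rotSqHom f hf hK g : ↥(endoG2 f).fix) : GL Cfsg.Lie.chevG2.Idx K) =
      psiG2 f (g.1 * g.1) := rfl

lemma card_range_rotSqHom (hK : Fintype.card K = 3 * e ^ 2) (h4 : Fintype.card K % 4 = 3) :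
    4 * Nat.card (rotSqHom f hf hK).range = Fintype.card K + 1 := by
  obtain ⟨hcyc, hcard⟩ := rotG2_cyclic_card (K := K) h4
  have hker : (rotSqHom f hf hK).ker = (powMonoidHom 4 : ↥(rotG2 K) →* ↥(rotG2 K)).ker := by
    ext ⟨g, hg⟩
    rw [MonoidHom.mem_ker, MonoidHom.mem_ker, powMonoidHom_apply]
    constructor
    · intro h
      refine Subtype.ext ?_
      show g ^ 4 = 1
      rw [show g ^ 4 = (g * g) * (g * g) by simp [pow_succ, mul_assoc]]
      rcases psiG2_ker f hf hK (congrArg Subtype.val h) with h1 | h1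
      · simp only at h1; rw [h1, one_mul]
      · simp only at h1; rw [h1]; simp
    · intro h
      have h1 : g ^ 4 = 1 := congrArg Subtype.val h
      refine Subtype.ext ?_
      show psiG2 f (g * g) = 1
      by_cases h2 : g * g = 1
      · rw [h2, map_one]
      · rw [SL2.eq_neg_one_of_mul_self (two_ne_zeroG2 (K := K))
          (by rw [← h1]; simp [pow_succ, mul_assoc]) h2, psiG2_neg_one f hf]
  have hd : (Nat.card (rotG2 K)).gcd 4 = 4 := Nat.gcd_eq_right (by rw [hcard]; omega)
  have h := Subgroup.card_eq_card_quotient_mul_card_subgroup (rotSqHom f hf hK).ker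
  rw [Nat.card_congr (QuotientGroup.quotientKerEquivRange _).toEquiv, hker,
    IsCyclic.card_powMonoidHom_ker, hd, hcard] at h
  omega

/-- Odd order elements of the centralizer of the involution commuting with the torus. -/
lemma mem_rotSq_of_odd (hK : Fintype.card K = 3 * e ^ 2) (h4 : Fintype.card K % 4 = 3)
    {y : ↥(endoG2 f).fix} (hy : y ∈ (rotSqHom f hf hK).range) (hy1 : y ≠ 1)
    {x : ↥(endoG2 f).fix}
    (hax : invG2 (K := K) e * (x : GL Cfsg.Lie.chevG2.Idx K) =
      (x : GL Cfsg.Lie.chevG2.Idx K) * invG2 e)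
    (hyx : y * x = x * y) (hodd : Odd (orderOf x)) : x ∈ (rotSqHom f hf hK).range := by
  set m := orderOf x with hm
  have hxc : x ∈ (centHomG2 f hf hK).range := by
    rw [range_centHomG2 f hf hK (invEltG2 f hf hK) rfl, Subgroup.mem_centralizer_singleton_iff]
    exact Subtype.ext hax.symm
  obtain ⟨⟨v, p⟩, hvp⟩ := hxc
  induction p using QuotientGroup.induction_on with | H g => ?_
  have hpow : ((v, (g : SL(2, K) ⧸ Subgroup.center SL(2, K)))) ^ m = 1 :=
    centHomG2_injective f hf hK (by rw [map_pow, hvp, hm, pow_orderOf_eq_one, map_one])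
  have hv : v = 1 := by
    have h1 : v ^ m = 1 := congrArg Prod.fst hpow
    have h2 : ∀ v : Multiplicative (ZMod 2), v * v = 1 := by decide
    obtain ⟨k, hk⟩ := hodd
    rw [hk, pow_succ, pow_mul, pow_two, h2, one_pow, one_mul] at h1
    exact h1
  have hgm : g ^ m = 1 ∨ g ^ m = -1 := by
    have h1 : (g : SL(2, K) ⧸ Subgroup.center SL(2, K)) ^ m = 1 := congrArg Prod.snd hpow
    rw [← QuotientGroup.mk_pow, QuotientGroup.eq_one_iff] at h1
    exact SL2.eq_one_or_eq_neg_one_of_mem_center _ h1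
  have hxg : (x : GL Cfsg.Lie.chevG2.Idx K) = psiG2 f g := by
    rw [← hvp, hv, centHomG2_apply f hf hK, if_pos rfl, one_mul]
  obtain ⟨⟨r, hr⟩, rfl⟩ := hy
  set h := r * r with hh
  have hhR : h ∈ rotG2 K := mul_mem hr hr
  have hne : ¬ (h = 1 ∨ h = -1) := by
    intro h'
    refine hy1 (Subtype.ext ?_)
    show psiG2 f h = 1
    rcases h' with h' | h' <;> rw [h']
    · exact map_one _
    · exact psiG2_neg_one f hf
  have hns : SL2.NonScalar (h : Matrix (Fin 2) (Fin 2) K) := by
    by_contra hc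
    exact hne (SL2.eq_one_or_eq_neg_one_of_mem_center h ((SL2.mem_center_iff_not_nonScalar h).2 hc))
  -- `g` commutes with `h`
  have hgh : g * h = h * g := by
    have hyx' : psiG2 f h * psiG2 f g = psiG2 f g * psiG2 f h := by
      rw [← hxg]
      exact congrArg Subtype.val hyx
    rw [← map_mul, ← map_mul] at hyx'
    rcases psiG2_ker f hf hK (g := g * h * (h * g)⁻¹)
      (by rw [map_mul, map_inv, ← hyx', mul_inv_cancel]) with h' | h'
    · exact mul_inv_eq_one.1 h'
    exfalso
    have hneg : g * h = -1 * (h * g) := mul_inv_eq_iff_eq_mul.1 h'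
    have hrec : ∀ n : ℕ, g ^ n * h = (-1) ^ n * (h * g ^ n) := by
      intro n
      induction n with
      | zero => simp
      | succ n ih =>
        rw [pow_succ g n, mul_assoc, hneg, pow_succ (-1 : SL(2, K)) n]
        calc g ^ n * (-1 * (h * g)) = -1 * (g ^ n * h * g) := by simp [mul_assoc]
          _ = -1 * ((-1) ^ n * (h * g ^ n) * g) := by rw [ih]
          _ = _ := by simp [mul_assoc]
    have h5 := hrec m
    rw [hodd.neg_one_pow] at h5
    have hcomm : g ^ m * h = h * g ^ m := by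
      rcases hgm with e | e <;> rw [e] <;> simp
    rw [hcomm] at h5
    have h6 : (-1 : SL(2, K)) = 1 :=
      (mul_right_cancel (b := h * g ^ m) (h5.symm.trans (one_mul _).symm))
    exact SL2.neg_one_ne_one (two_ne_zeroG2 (K := K)) h6
  have hgR : g ∈ rotG2 K := by
    rw [rotG2, ← SL2.cent_eq_of_mem quatI_nonScalar hns hhR, SL2.mem_cent_iff]
    exact hgh.symm
  -- an odd power
  obtain ⟨k, hk⟩ := hodd
  refine ⟨⟨g ^ (k + 1), pow_mem hgR _⟩, Subtype.ext ?_⟩
  rw [coe_rotSqHom, ← pow_add, map_pow, ← hxg, ← Subgroup.coe_pow,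
    show k + 1 + (k + 1) = m + 1 by omega, pow_succ, hm, pow_orderOf_eq_one, one_mul]

end CfsgLib.Ree
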