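import Cfsg.Agent.Lib.Chev.TwistG2Rank1
import Cfsg.Prelude.Def_ChevG2

/-!
In characteristic three the short roots span an invariant subspace of dimension seven, giving a
representation of `G₂(K)` of degree seven.
-/

set_option autoImplicit false
set_option maxRecDepth 100000
set_option linter.unusedSectionVars false

namespace CfsgLib.Ree

open Cfsg.Lie Matrix
open CfsgLib.Chev

/-- The coordinates of the short part. -/
def shortCoord : Fin 7 → chevG2.Idx :=
  ![Sum.inl ⟨0, by decide⟩, Sum.inr ⟨2, by decide⟩, Sum.inr ⟨3, by decide⟩, Sum.inr ⟨4, by decide⟩,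
    Sum.inr ⟨7, by decide⟩, Sum.inr ⟨8, by decide⟩, Sum.inr ⟨9, by decide⟩]

theorem shortCoord_injective : Function.Injective shortCoord := by decide +kernel

/-- The coordinates outside the short part. -/
def longRow : chevG2.Idx → Bool
  | Sum.inl i => i.val == 1
  | Sum.inr u => u.val ∈ [0, 1, 5, 6, 10, 11]

theorem cover_rows : ∀ row : chevG2.Idx, (∃ i, shortCoord i = row) ∨ longRow row = true := by
  decide +kernel

theorem not_short_of_long : ∀ row, longRow row = true → ∀ i, shortCoord i ≠ row := by decide +kernel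

/-- The check of one entry. -/
def shortChk (r : Fin chevG2.nroots) (c row : chevG2.Idx) : Bool :=
  match c, row with
  | Sum.inl _, Sum.inl _ => true
  | Sum.inl i, Sum.inr u =>
      decide (u ≠ r ∨ (3 : ℤ) ∣ (chevG2.cartanSR.getD i.val #[]).getD r.val 0)
  | Sum.inr s, Sum.inl i => decide (s = r ∨ s.val ≠ chevG2.negIdx.getD r.val 0 ∨
      (3 : ℤ) ∣ (chevG2.coroot.getD r.val #[]).getD i.val 0)
  | Sum.inr s, Sum.inr u => decide (s = r ∨ (u ≠ s ∧
      (if s.val = chevG2.negIdx.getD r.val 0 then u ≠ r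
       else ∀ km ∈ chevG2.chainCoeff r.val s.val u.val, (3 : ℤ) ∣ km.2)))

/-- The table check: the short part is invariant modulo three. -/
theorem short_invariant_table : ∀ r : Fin chevG2.nroots, ∀ j : Fin 7, ∀ row,
    longRow row = true → shortChk r (shortCoord j) row = true := by
  decide +kernel

variable {K : Type*} [Field K] [Fintype K] [CharP K 3]

lemma intCast_eq_zero_of_three {z : ℤ} (h : (3 : ℤ) ∣ z) : (z : K) = 0 :=
  (CharP.intCast_eq_zero_iff K 3 z).2 (by exact_mod_cast h)

lemma xMat_short (r : Fin chevG2.nroots) (t : K) (j : Fin 7) {row : chevG2.Idx}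
    (hrow : longRow row = true) : chevG2.xMat K r t row (shortCoord j) = 0 := by
  have h := short_invariant_table r j row hrow
  have hne : row ≠ shortCoord j := fun e => not_short_of_long row hrow j e.symm
  rw [ChevalleyDatum.xMat, Matrix.of_apply]
  generalize shortCoord j = c at h hne
  rcases c with i | s <;> rcases row with i' | u <;> simp only [shortChk, decide_eq_true_eq] at h ⊢
  · exact if_neg fun e => hne (by rw [e])
  · by_cases hu : u = r
    · rw [if_pos hu, intCast_eq_zero_of_three (h.resolve_left (not_not_intro hu)), neg_zero,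
        zero_mul]
    · exact if_neg hu
  · by_cases hs : s = r
    · rw [if_pos hs]
    rw [if_neg hs]
    by_cases hn : s.val = chevG2.negIdx.getD r.val 0
    · rw [if_pos hn]
      exact mul_eq_zero_of_left (intCast_eq_zero_of_three
        ((h.resolve_left hs).resolve_left (not_not_intro hn))) t
    · rw [if_neg hn]
  · by_cases hs : s = r
    · rw [if_pos hs]
      exact if_neg fun e => hne (by rw [hs, e])
    rw [if_neg hs]
    obtain ⟨h1, h2⟩ := h.resolve_left hs
    by_cases hn : s.val = chevG2.negIdx.getD r.val 0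
    · rw [if_pos hn] at h2 ⊢
      rw [if_neg h1, if_neg h2]
    · rw [if_neg hn] at h2 ⊢
      rw [if_neg h1, zero_add]
      refine List.sum_eq_zero fun x hx => ?_
      obtain ⟨km, hkm, rfl⟩ := List.mem_map.1 hx
      rw [intCast_eq_zero_of_three (h2 km hkm), zero_mul]

/-- The stabilizer of the short part. -/
def shortStab : Submonoid (GL chevG2.Idx K) where
  carrier := {g | ∀ j : Fin 7, ∀ row, longRow row = true →
    (g : Matrix chevG2.Idx chevG2.Idx K) row (shortCoord j) = 0}
  one_mem' := fun j row hrow => by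
    rw [Units.val_one, Matrix.one_apply_ne fun e => not_short_of_long row hrow j e.symm]
  mul_mem' := fun {g h} hg hh j row hrow => by
    rw [Units.val_mul, Matrix.mul_apply]
    refine Finset.sum_eq_zero fun k _ => ?_
    rcases cover_rows k with ⟨i, rfl⟩ | hk
    · rw [hg i row hrow, zero_mul]
    · rw [hh j k hk, mul_zero]

lemma group_le_shortStab {g : GL chevG2.Idx K} (hg : g ∈ chevG2.group K) :
    g ∈ shortStab (K := K) := by
  refine Subgroup.closure_induction (p := fun x _ => x ∈ shortStab (K := K)) ?_ (one_mem _)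
    (fun x y _ _ => mul_mem) ?_ hg
  · rintro x ⟨r, t, e⟩ j row hrow
    rw [e]
    exact xMat_short r t j hrow
  · intro x _ hx
    have : x⁻¹ = x ^ (orderOf x - 1) := by
      rw [eq_comm, eq_inv_iff_mul_eq_one, ← pow_succ, Nat.sub_add_cancel (orderOf_pos x),
        pow_orderOf_eq_one]
    rw [this]
    exact pow_mem hx _

/-- The restriction to the short part, as a monoid map. -/
noncomputable def shortRep : ↥(chevG2.group K) →* Matrix (Fin 7) (Fin 7) K where
  toFun g := Matrix.submatrix (g.1 : Matrix chevG2.Idx chevG2.Idx K) shortCoord shortCoord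
  map_one' := by
    rw [Subgroup.coe_one, Units.val_one, Matrix.submatrix_one _ shortCoord_injective]
  map_mul' g h := by
    refine Matrix.ext fun i j => ?_
    rw [Subgroup.coe_mul, Units.val_mul, Matrix.submatrix_apply, Matrix.mul_apply, Matrix.mul_apply]
    refine (Fintype.sum_of_injective shortCoord shortCoord_injective _ _ (fun k hk => ?_)
      fun _ => rfl).symm
    rcases cover_rows k with ⟨i', rfl⟩ | hk'
    · exact absurd ⟨i', rfl⟩ hk
    · rw [group_le_shortStab h.2 j k hk', mul_zero]

/-- The representation of degree seven. -/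
noncomputable def sevenRep : ↥(chevG2.group K) →* GL (Fin 7) K := shortRep.toHomUnits

variable {e : ℕ} (f : K →+* K) (hf : ∀ t, f t = t ^ e)
include hf

/-- The representation of the small Ree group. -/
noncomputable def sevenFix : ↥(endoG2 f).fix →* GL (Fin 7) K :=
  sevenRep.comp (Subgroup.inclusion (endoG2 f).fix_le_group)

lemma sevenFix_ne_one (hK : Fintype.card K = 3 * e ^ 2) :
    ∃ g : ↥(endoG2 f).fix, sevenFix f g ≠ 1 := by
  refine ⟨⟨reeElt e (0, 1, 0), (reeElt_mem f hf hK _).1⟩, fun h => ?_⟩
  have hmem : ∀ {r : ℕ}, r < tabG2.n → ∀ t : K, X chevG2 r t ∈ chevG2.group K :=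
    fun hr t => certG2.X_mem_group hr t
  have h8 : 8 < tabG2.n := by decide +kernel
  have h10 : 10 < tabG2.n := by decide +kernel
  have e1 : (Subgroup.inclusion (endoG2 f).fix_le_group
      ⟨reeElt e (0, 1, 0), (reeElt_mem f hf hK _).1⟩ : ↥(chevG2.group K)) =
      ⟨X chevG2 8 1, hmem h8 1⟩ * ⟨X chevG2 10 1, hmem h10 1⟩ := by
    refine Subtype.ext ?_
    show reeElt e (0, 1, 0) = _
    rw [reeElt_eq f hf]
    simp [lowG2, zero_pow (e_ne_zero_G2 f hf), X_zeroG2]
  rw [sevenFix, MonoidHom.comp_apply, e1, map_mul] at h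
  have hc : ∀ (g : ↥(chevG2.group K)) (i j : Fin 7), (sevenRep g : Matrix (Fin 7) (Fin 7) K) i j =
      (g.1 : Matrix chevG2.Idx chevG2.Idx K) (shortCoord i) (shortCoord j) := fun _ _ _ => rfl
  have hB : ∀ k : Fin 7, (sevenRep (⟨X chevG2 10 1, hmem h10 1⟩ : ↥(chevG2.group K)) :
      Matrix (Fin 7) (Fin 7) K) k 0 = if k = 0 then 1 else 0 := by
    intro k
    rw [hc]
    show ((X chevG2 10 (1 : K) : GL chevG2.Idx K) : Matrix chevG2.Idx chevG2.Idx K) _ (Sum.inl _) = _
    rw [certG2.coe_X]
    fin_cases k <;>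
      simp [shortCoord, ChevalleyDatum.x, ChevalleyDatum.xMat, show 10 < chevG2.nroots by decide]
  have hA : (sevenRep (⟨X chevG2 8 1, hmem h8 1⟩ : ↥(chevG2.group K)) :
      Matrix (Fin 7) (Fin 7) K) 5 0 = 1 := by
    rw [hc]
    show ((X chevG2 8 (1 : K) : GL chevG2.Idx K) : Matrix chevG2.Idx chevG2.Idx K) (Sum.inr ⟨8, by decide⟩) (Sum.inl ⟨0, by decide⟩) = _
    rw [certG2.coe_X]
    simp [ChevalleyDatum.x, ChevalleyDatum.xMat, show 8 < chevG2.nroots by decide,
      -Array.getD_eq_getD_getElem?]
    rw [show (chevG2.cartanSR.getD 0 #[]).getD 8 0 = (-1 : ℤ) by decide +kernel]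
    simp
  have h1 := congrArg (fun g : GL (Fin 7) K => (g : Matrix (Fin 7) (Fin 7) K) 5 0) h
  simp only [Units.val_mul, Units.val_one, Matrix.mul_apply, hB, mul_ite, mul_one, mul_zero,
    Finset.sum_ite_eq', Finset.mem_univ, if_true, hA,
    Matrix.one_apply_ne (show (5 : Fin 7) ≠ 0 by decide)] at h1
  exact one_ne_zero h1

end CfsgLib.Ree
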