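import Cfsg.Agent.Lib.Ree.Data
import Cfsg.Agent.Lib.Ree.Seven
import Cfsg.Agent.Lib.Ree.GLSeven
import Cfsg.Agent.Lib.Ree.InstTorus
import Cfsg.Agent.Lib.Chev.TwistFinal

/-!
The small Ree groups satisfy the axioms of `ReeData`.
-/

set_option autoImplicit false
set_option maxRecDepth 100000
set_option linter.unusedSectionVars false

open scoped IsMulCommutative MatrixGroups Pointwise

namespace CfsgLib.Ree

open Cfsg.Lie Matrix CfsgLib.Chev
open Cert (torusHom extC extC_ne_zero)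

theorem weylNegG2 : ∀ r ∈ [6, 7], rword tabG2 [0, 1, 0, 1, 0, 1] r < 12 ∧
    tabG2.car 0 (rword tabG2 [0, 1, 0, 1, 0, 1] r) = -tabG2.car 0 r ∧
    tabG2.car 1 (rword tabG2 [0, 1, 0, 1, 0, 1] r) = -tabG2.car 1 r := by
  decide +kernel

theorem carSimpleG2 : tabG2.car 0 6 = -3 ∧ tabG2.car 1 6 = 2 ∧ tabG2.car 0 7 = 2 ∧
    tabG2.car 1 7 = -1 := by decide +kernel

variable {K : Type*} [Field K] [Fintype K] [CharP K 3] {e : ℕ} (f : K →+* K)
  (hf : ∀ t, f t = t ^ e)

include hf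

/-- The exchanging element inverts the torus. -/
lemma n0G2_conj_tor (hK : Fintype.card K = 3 * e ^ 2) (v : Kˣ) :
    n0G2 K * torG2Hom e v * (n0G2 K)⁻¹ = torG2Hom e v⁻¹ := by
  obtain ⟨v', hv'⟩ := (range_torG2Hom f hf hK).ge
    (show n0G2 K * torG2Hom e v * (n0G2 K)⁻¹ ∈ (endoG2 f).fix ⊓ chevG2.diagonalSubgroup K from
      ⟨mul_mem (mul_mem (n0G2_mem f hf hK) ((range_torG2Hom f hf hK).le ⟨v, rfl⟩).1)
        ((endoG2 f).fix.inv_mem (n0G2_mem f hf hK)),
        Endo.diag_conj (h := certG2) n0G2_monomial ((range_torG2Hom f hf hK).le ⟨v, rfl⟩).2⟩)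
  rw [← hv']
  congr 1
  have key : ∀ r ∈ [6, 7], r < 12 →
      ((v' : K) ^ e) ^ (-tabG2.car 0 r) * (v' : K) ^ (-tabG2.car 1 r) =
        ((v : K) ^ e) ^ tabG2.car 0 r * (v : K) ^ tabG2.car 1 r := by
    intro r hr hr12
    obtain ⟨hs, h0, h1⟩ := weylNegG2 r hr
    have hn : r < tabG2.n := lt_of_lt_of_le hr12 (by decide +kernel)
    obtain ⟨c, hc, hmap⟩ := n0G2_maps (K := K) r hn
    set s := rword tabG2 [0, 1, 0, 1, 0, 1] r
    have e1 : torG2Hom e v' * X chevG2 s (c * 1) * (torG2Hom e v')⁻¹ =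
        X chevG2 s (c * (((v : K) ^ e) ^ tabG2.car 0 r * (v : K) ^ tabG2.car 1 r * 1)) := by
      rw [← hmap 1, hv', ← hmap, ← torG2Hom_conj f hf v hr12]
      group
    rw [torG2Hom_conj f hf v' hs, h0, h1] at e1
    have e2 := certG2.X_inj (certG2.rword_lt long_word_okG2 hn) e1
    rw [mul_one, mul_one, mul_comm c] at e2
    exact mul_right_cancel₀ hc e2
  have k6 := key 6 (by simp) (by norm_num)
  have k7 := key 7 (by simp) (by norm_num)
  obtain ⟨c06, c16, c07, c17⟩ := carSimpleG2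
  rw [c06, c16, neg_neg, show (-(2 : ℤ)) = -((2 : ℕ) : ℤ) from rfl, show (-3 : ℤ) = -((3 : ℕ) : ℤ) from rfl,
    show (2 : ℤ) = ((2 : ℕ) : ℤ) from rfl, show (3 : ℤ) = ((3 : ℕ) : ℤ) from rfl,
    _root_.zpow_neg, _root_.zpow_neg, zpow_natCast, zpow_natCast, zpow_natCast, zpow_natCast] at k6
  rw [c07, c17, neg_neg, show (-(2 : ℤ)) = -((2 : ℕ) : ℤ) from rfl,
    show (2 : ℤ) = ((2 : ℕ) : ℤ) from rfl, _root_.zpow_neg, _root_.zpow_neg_one, zpow_natCast,
    zpow_natCast, zpow_one] at k7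
  have hv0 : (v : K) ≠ 0 := v.ne_zero
  have hv0' : (v' : K) ≠ 0 := v'.ne_zero
  have hz : (v : K) ^ e ≠ 0 := pow_ne_zero _ hv0
  have hz' : (v' : K) ^ e ≠ 0 := pow_ne_zero _ hv0'
  field_simp at k6 k7
  -- `w = v v'` has trivial root values
  set w : K := (v : K) * (v' : K) with hw
  have hw0 : w ≠ 0 := mul_ne_zero hv0 hv0'
  have a1 : (w ^ e) ^ 3 = w ^ 2 := by rw [hw, mul_pow, mul_pow, mul_pow]; grind
  have a2 : (w ^ e) ^ 2 = w := by rw [hw, mul_pow, mul_pow]; grind
  have hone : w = 1 := by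
    have h4 : w ^ 4 = w ^ 3 := by
      rw [show w ^ 4 = (w ^ 2) ^ 2 by ring, ← a1, show ((w ^ e) ^ 3) ^ 2 = ((w ^ e) ^ 2) ^ 3 by ring,
        a2]
    exact mul_left_cancel₀ (pow_ne_zero 3 hw0) (by rw [mul_one, ← pow_succ]; exact h4)
  exact eq_inv_of_mul_eq_one_left (Units.ext (by
    rw [Units.val_mul, mul_comm, ← hw, hone, Units.val_one]))

/-- The cube of a fixed unipotent element lies in the deeper part. -/
lemma reeElt_cube (hK : Fintype.card K = 3 * e ^ 2) (p : K × K × K) :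
    ∃ p', reeElt e p ^ 3 = reeElt e p' ∧ p'.1 = 0 := by
  obtain ⟨p', hp'⟩ := (reeEquiv f hf hK).surjective
    ⟨reeElt e p ^ 3, pow_mem (reeElt_mem f hf hK p) 3⟩
  have hp : reeElt e p ^ 3 = reeElt e p' := (congrArg Subtype.val hp').symm
  refine ⟨p', hp, ?_⟩
  rw [reeElt_eq f hf, reeElt_eq f hf, pow_succ, pow_two, mul_coordG2, mul_coordG2] at hp
  obtain ⟨-, h2, -⟩ := coordG2_inj hp
  rw [← h2]
  linear_combination p.1 * natCast3G2 (K := K)

lemma reeElt_nine (hK : Fintype.card K = 3 * e ^ 2) {x : GL chevG2.Idx K}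
    (hx : x ∈ (endoG2 f).fix ⊓ chevG2.posUnipotent K) : x ^ 9 = 1 := by
  obtain ⟨p, hp⟩ := (reeEquiv f hf hK).surjective ⟨x, hx⟩
  obtain rfl : reeElt e p = x := congrArg Subtype.val hp
  obtain ⟨p', h1, h2⟩ := reeElt_cube f hf hK p
  rw [show (9 : ℕ) = 3 * 3 from rfl, pow_mul, h1, reeElt_cube_eq_one f hf]
  exact h2

variable (hK : Fintype.card K = 3 * e ^ 2)

/-- The Borel subgroup. -/
noncomputable def borelR : Subgroup ↥(endoG2 f).fix :=
  ((endoG2 f).fix ⊓ chevG2.borelSubgroup K).subgroupOf (endoG2 f).fix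

/-- The unipotent radical. -/
noncomputable def unipR : Subgroup ↥(endoG2 f).fix :=
  ((endoG2 f).fix ⊓ chevG2.posUnipotent K).subgroupOf (endoG2 f).fix

/-- The split torus. -/
noncomputable def torR : Subgroup ↥(endoG2 f).fix :=
  ((endoG2 f).fix ⊓ chevG2.diagonalSubgroup K).subgroupOf (endoG2 f).fix

lemma mem_borelR {x : ↥(endoG2 f).fix} :
    x ∈ borelR f ↔ (x : GL chevG2.Idx K) ∈ chevG2.borelSubgroup K :=
  ⟨fun h => (Subgroup.mem_subgroupOf.1 h).2, fun h => Subgroup.mem_subgroupOf.2 ⟨x.2, h⟩⟩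

lemma mem_unipR {x : ↥(endoG2 f).fix} :
    x ∈ unipR f ↔ (x : GL chevG2.Idx K) ∈ chevG2.posUnipotent K :=
  ⟨fun h => (Subgroup.mem_subgroupOf.1 h).2, fun h => Subgroup.mem_subgroupOf.2 ⟨x.2, h⟩⟩

lemma mem_torR {x : ↥(endoG2 f).fix} :
    x ∈ torR f ↔ (x : GL chevG2.Idx K) ∈ chevG2.diagonalSubgroup K :=
  ⟨fun h => (Subgroup.mem_subgroupOf.1 h).2, fun h => Subgroup.mem_subgroupOf.2 ⟨x.2, h⟩⟩

include hK

/-- The second generator of the Sylow 2-subgroup. -/
noncomputable def bR : ↥(endoG2 f).fix :=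
  sylowHomG2 f hf hK (1, (Multiplicative.ofAdd 1, 1))

/-- The third generator of the Sylow 2-subgroup. -/
noncomputable def jR : ↥(endoG2 f).fix :=
  sylowHomG2 f hf hK (1, (1, Multiplicative.ofAdd 1))

lemma coe_bR : ((bR f hf hK : ↥(endoG2 f).fix) : GL chevG2.Idx K) = psiG2 f quatI := by
  have hg : bR f hf hK = centHomG2 f hf hK (1, kleinHom (Multiplicative.ofAdd 1, 1)) := rfl
  rw [hg, kleinHom_apply, if_neg (by decide : ¬Multiplicative.ofAdd (1 : ZMod 2) = 1), if_pos rfl,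
    mul_one, centHomG2_apply f hf hK, if_pos rfl, one_mul]

lemma coe_jR : ((jR f hf hK : ↥(endoG2 f).fix) : GL chevG2.Idx K) = psiG2 f quatJ := by
  have hg : jR f hf hK = centHomG2 f hf hK (1, kleinHom (1, Multiplicative.ofAdd 1)) := rfl
  rw [hg, kleinHom_apply, if_neg (by decide : ¬Multiplicative.ofAdd (1 : ZMod 2) = 1), if_pos rfl,
    one_mul, centHomG2_apply f hf hK, if_pos rfl, one_mul]

lemma coe_bR_n0 : ((bR f hf hK : ↥(endoG2 f).fix) : GL chevG2.Idx K) = n0G2 K := by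
  rw [coe_bR f hf hK]; exact psiG2_weyl f hf

lemma quat_sq_one (d : EightG2) : sylowHomG2 f hf hK d * sylowHomG2 f hf hK d = 1 := by
  rw [← map_mul, eight_sq, map_one]

lemma genA_eq_invElt : sylowHomG2 f hf hK genA = invEltG2 f hf hK :=
  Subtype.ext (sylowHomG2_genA f hf hK)

lemma mem_cent_invElt {x : ↥(endoG2 f).fix} :
    x ∈ Subgroup.centralizer {sylowHomG2 f hf hK genA} ↔
      invG2 (K := K) e * (x : GL chevG2.Idx K) = (x : GL chevG2.Idx K) * invG2 e := by
  rw [Subgroup.mem_centralizer_singleton_iff, genA_eq_invElt f hf hK]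
  exact ⟨fun h => (congrArg Subtype.val h).symm, fun h => Subtype.ext h.symm⟩

lemma card_ab_cent (h4 : Fintype.card K % 4 = 3) :
    Nat.card ↥(Subgroup.centralizer {sylowHomG2 f hf hK genA} ⊓
      Subgroup.centralizer {bR f hf hK}) = 2 * (Fintype.card K + 1) := by
  set C := Subgroup.centralizer {((quatI : SL(2, K)) : SL(2, K) ⧸ Subgroup.center SL(2, K))}
  have hb : bR f hf hK =
      centHomG2 f hf hK (1, ((quatI : SL(2, K)) : SL(2, K) ⧸ Subgroup.center SL(2, K))) :=
    Subtype.ext (by rw [coe_bR f hf hK, centHomG2_apply f hf hK, if_pos rfl, one_mul])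
  have he : Subgroup.centralizer {sylowHomG2 f hf hK genA} ⊓ Subgroup.centralizer {bR f hf hK} =
      ((⊤ : Subgroup (Multiplicative (ZMod 2))).prod C).map (centHomG2 f hf hK) := by
    rw [← range_centHomG2 f hf hK _ (sylowHomG2_genA f hf hK)]
    ext x
    rw [Subgroup.mem_inf, Subgroup.mem_centralizer_singleton_iff, Subgroup.mem_map, hb]
    constructor
    · rintro ⟨⟨⟨v, p⟩, rfl⟩, h⟩
      rw [← map_mul, ← map_mul] at h
      exact ⟨(v, p), ⟨Subgroup.mem_top v, Subgroup.mem_centralizer_singleton_iff.2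
        (congrArg Prod.snd (centHomG2_injective f hf hK h))⟩, rfl⟩
    · rintro ⟨⟨v, p⟩, ⟨-, hp⟩, rfl⟩
      refine ⟨⟨_, rfl⟩, ?_⟩
      rw [← map_mul, ← map_mul, Prod.mk_mul_mk, Prod.mk_mul_mk, mul_one, one_mul,
        Subgroup.mem_centralizer_singleton_iff.1 hp]
  rw [he, Subgroup.card_map_of_injective (centHomG2_injective f hf hK),
    Nat.card_congr (Subgroup.prodEquiv _ _).toEquiv, Nat.card_prod, Subgroup.card_top,
    card_cent_mk h4, Nat.card_eq_fintype_card, Fintype.card_multiplicative, ZMod.card]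

lemma card_cent_a : Nat.card ↥(Subgroup.centralizer {sylowHomG2 f hf hK genA}) =
    Fintype.card K * (Fintype.card K ^ 2 - 1) := by
  rw [← range_centHomG2 f hf hK _ (sylowHomG2_genA f hf hK),
    ← Nat.card_congr (MonoidHom.ofInjective (centHomG2_injective f hf hK)).toEquiv, Nat.card_prod,
    Nat.card_eq_fintype_card (α := Multiplicative (ZMod 2)), Fintype.card_multiplicative, ZMod.card]
  have hz : Nat.card (Subgroup.center SL(2, K)) = 2 := by
    rw [Nat.card_eq_two_iff' (1 : Subgroup.center SL(2, K))]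
    refine ⟨⟨-1, SL2.neg_one_mem_center⟩, ?_, ?_⟩
    · exact fun h => SL2.neg_one_ne_one (two_ne_zeroG2 (K := K)) (congrArg Subtype.val h)
    · rintro ⟨x, hx⟩ hne
      exact Subtype.ext ((SL2.eq_one_or_eq_neg_one_of_mem_center x hx).resolve_left
        fun h => hne (Subtype.ext h))
  have h := Subgroup.card_eq_card_quotient_mul_card_subgroup (Subgroup.center SL(2, K))
  rw [hz, SL2.card_SL_two' (F := K)] at h
  rw [mul_comm 2, ← h, Nat.card_eq_fintype_card,
    show Fintype.card K ^ 2 - 1 = (Fintype.card K + 1) * (Fintype.card K - 1) by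
      simpa using Nat.sq_sub_sq (Fintype.card K) 1]
  ring

lemma sevenFix_injective (he : 3 ≤ e) : Function.Injective (sevenFix (K := K) f) := by
  have := ((endoG2 f).simple_of_eq rfl (std_fixG2 f hf hK) Fintype.one_lt_card
    (hcardG2 f hf hK) chkLinkTwG2 (perfectTwG2 f hf hK he) (by simp [dataTwG2])).1
  rw [← MonoidHom.ker_eq_bot_iff]
  refine ((MonoidHom.normal_ker (sevenFix (K := K) f)).eq_bot_or_eq_top).resolve_right fun h => ?_
  obtain ⟨g, hg⟩ := sevenFix_ne_one f hf hK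
  exact hg (MonoidHom.mem_ker.1 (h ▸ Subgroup.mem_top g))

lemma sylow_cyclic_seven (he : 3 ≤ e) {p : ℕ} [Fact p.Prime]
    (hd : p ∣ Fintype.card K ^ 2 - Fintype.card K + 1) (P : Sylow p ↥(endoG2 f).fix) :
    IsCyclic ↥(P : Subgroup ↥(endoG2 f).fix) := by
  obtain ⟨Q, hQ⟩ := (P.isPGroup'.map (sevenFix (K := K) f)).exists_le_sylow
  have := GLSeven.sylow_cyclic hd Q
  have : IsCyclic ↥((P : Subgroup ↥(endoG2 f).fix).map (sevenFix (K := K) f)) :=
    Subgroup.isCyclic_of_le hQ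
  exact isCyclic_of_surjective _ ((P : Subgroup ↥(endoG2 f).fix).equivMapOfInjective _
    (sevenFix_injective f hf hK he)).symm.surjective

lemma autom_seven (he : 3 ≤ e) {p : ℕ} [Fact p.Prime]
    (hd : p ∣ Fintype.card K ^ 2 - Fintype.card K + 1) {x g : ↥(endoG2 f).fix}
    (hx : orderOf x = p) {i : ℕ} (hg : g * x * g⁻¹ = x ^ i) : i ^ 6 ≡ 1 [MOD p] :=
  GLSeven.autom hd (g := sevenFix (K := K) f g)
    (by rw [orderOf_injective _ (sevenFix_injective f hf hK he), hx])
    (by rw [← map_inv, ← map_mul, ← map_mul, hg, map_pow])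

lemma q_mod_eight : Fintype.card K % 8 = 3 := by
  obtain ⟨k, hk⟩ := odd_e_G2 hK
  rw [hK, hk]
  have : k % 4 = 0 ∨ k % 4 = 1 ∨ k % 4 = 2 ∨ k % 4 = 3 := by omega
  rw [Nat.mul_mod, Nat.pow_mod]
  rcases this with h | h | h | h <;>
    rw [show (2 * k + 1) % 8 = 2 * (k % 4) + 1 by omega, h] <;> rfl

/-- The small Ree group with the local data. -/
noncomputable def reeData (he : 3 ≤ e) : ReeData ↥(endoG2 f).fix where
  q := Fintype.card K
  B := borelR f
  U := unipR f
  T := torR f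
  Y := (rotSqHom f hf hK).range
  n := bR f hf hK
  a := sylowHomG2 f hf hK genA
  b := bR f hf hK
  j := jR f hf hK
  S0 := sylowTwoG2 f hf hK
  q_mod := q_mod_eight f hf hK
  q_pow := by
    obtain ⟨n, -, hn⟩ := FiniteField.card K 3
    exact ⟨n, hn⟩
  q_ge := by
    rw [hK]
    nlinarith
  card_G := card_twistG2 f hf hK
  card_U := by
    rw [unipR, Nat.card_congr (Subgroup.subgroupOfEquivOfLe inf_le_left).toEquiv,
      card_posG2 f hf hK]
  T_cyclic := by
    have : IsCyclic ↥((endoG2 f).fix ⊓ chevG2.diagonalSubgroup K) :=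
      isCyclic_of_surjective _ (torG2Equiv f hf hK).surjective
    exact isCyclic_of_surjective _
      (Subgroup.subgroupOfEquivOfLe (inf_le_left : (endoG2 f).fix ⊓ chevG2.diagonalSubgroup K ≤ _)).symm.surjective
  card_T := by
    rw [torR, Nat.card_congr (Subgroup.subgroupOfEquivOfLe inf_le_left).toEquiv,
      ← Nat.card_congr (torG2Equiv f hf hK).toEquiv, Nat.card_units, Nat.card_eq_fintype_card]
  T_norm := fun t ht x hx => (mem_unipR f hf).2
    (borel_conj_posG2 (Subgroup.mem_sup_right ((mem_torR f hf).1 ht)) ((mem_unipR f hf).1 hx))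
  mem_B := fun g => by
    constructor
    · intro hg
      obtain ⟨u, hu, t, ht, e1⟩ := (endoG2 f).borel_fix.1 ⟨g.2, (mem_borelR f hf).1 hg⟩
      exact ⟨⟨u, hu.1⟩, (mem_unipR f hf).2 hu.2, ⟨t, ht.1⟩, (mem_torR f hf).2 ht.2, Subtype.ext e1⟩
    · rintro ⟨x, hx, t, ht, rfl⟩
      exact (mem_borelR f hf).2 (mul_mem (Subgroup.mem_sup_left ((mem_unipR f hf).1 hx))
        (Subgroup.mem_sup_right ((mem_torR f hf).1 ht)))
  UT := (Subgroup.eq_bot_iff_forall _).2 fun x hx => by
    have h : (x : GL chevG2.Idx K) ∈ chevG2.posUnipotent K ⊓ chevG2.diagonalSubgroup K :=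
      ⟨(mem_unipR f hf).1 (Subgroup.mem_inf.1 hx).1, (mem_torR f hf).1 (Subgroup.mem_inf.1 hx).2⟩
    rw [certG2.posUnipotent_inf_diagonal, Subgroup.mem_bot] at h
    exact Subtype.ext h
  cells := fun g => by
    rcases cellsG2 f hf hK g.2 with h | ⟨c, hc, u, hu, e1⟩
    · exact Or.inl ((mem_borelR f hf).2 h)
    · exact Or.inr ⟨⟨c, hc.1⟩, (mem_borelR f hf).2 hc.2, ⟨u, hu.1⟩, (mem_unipR f hf).2 hu.2,
        Subtype.ext (e1.trans (by rw [← coe_bR_n0 f hf hK]; rfl))⟩
  free := fun x hx t ht h => Subtype.ext (freeG2 f hf ((mem_unipR f hf).1 hx)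
    ((mem_torR f hf).1 ht) (by
      have h' := (mem_borelR f hf).1 h
      simp only [Subgroup.coe_mul, Subgroup.coe_inv, coe_bR_n0 f hf hK] at h'
      exact h'))
  n_inv := fun t ht => by
    obtain ⟨v, hv⟩ := (range_torG2Hom f hf hK).ge
      (show (t : GL chevG2.Idx K) ∈ _ from ⟨t.2, (mem_torR f hf).1 ht⟩)
    refine Subtype.ext ?_
    simp only [Subgroup.coe_mul, Subgroup.coe_inv, coe_bR_n0 f hf hK]
    rw [← hv, n0G2_conj_tor f hf hK, map_inv]
  n_sq := quat_sq_one f hf hK _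
  fpf := fun v hv h2 x hx hc => by
    obtain ⟨w, hw⟩ := (range_torG2Hom f hf hK).ge
      (show (v : GL chevG2.Idx K) ∈ _ from ⟨v.2, (mem_torR f hf).1 hv⟩)
    by_contra hne
    refine h2 (Subtype.ext ?_)
    have h1 := sq_eq_one_of_commG2 f hf hK ⟨x.2, (mem_unipR f hf).1 hx⟩
      (fun h => hne (Subtype.ext h)) (v := w) (by rw [hw]; exact congrArg Subtype.val hc)
    show (v : GL chevG2.Idx K) * v = 1
    rw [← hw, ← map_mul, ← pow_two, h1, map_one]
  a_mem := (mem_torR f hf).2 (by rw [sylowHomG2_genA f hf hK]; exact (invG2_mem f hf hK).2)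
  a_ne := fun h => genA_ne_one (sylowHomG2_injective f hf hK (h.trans (map_one _).symm))
  a_sq := quat_sq_one f hf hK _
  card_CUa := by
    have he' : ((unipR f ⊓ Subgroup.centralizer {sylowHomG2 f hf hK genA} :
        Subgroup ↥(endoG2 f).fix) : Set ↥(endoG2 f).fix) =
        Set.range (fun t : K => (⟨reeElt e (0, t, 0), (reeElt_mem f hf hK _).1⟩ : ↥(endoG2 f).fix)) := by
      ext x
      rw [SetLike.mem_coe, Subgroup.mem_inf, mem_unipR f hf, mem_cent_invElt f hf hK, Set.mem_range]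
      constructor
      · rintro ⟨h1, h2⟩
        obtain ⟨t, ht⟩ := eq_middle_of_commG2 f hf hK ⟨x.2, h1⟩ h2
        exact ⟨t, Subtype.ext ht.symm⟩
      · rintro ⟨t, rfl⟩
        refine ⟨(reeElt_mem f hf hK _).2, ?_⟩
        show invG2 e * reeElt e (0, t, 0) = reeElt e (0, t, 0) * invG2 e
        rw [← psiG2_up f hf t]
        exact invG2_comm_psi f hf _
    rw [← Nat.card_eq_fintype_card]
    show Nat.card (((unipR f ⊓ Subgroup.centralizer {sylowHomG2 f hf hK genA} :
        Subgroup ↥(endoG2 f).fix) : Set ↥(endoG2 f).fix)) = _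
    rw [he', Nat.card_range_of_injective fun t t' h =>
      congrArg (fun p => p.2.1) (reeElt_injective f hf (congrArg Subtype.val h))]
  card_Ca := card_cent_a f hf hK
  a_mem_S := ⟨genA, rfl⟩
  b_mem_S := ⟨_, rfl⟩
  b_ne := fun h => by
    have := sylowHomG2_injective f hf hK (h.trans (map_one _).symm)
    exact absurd this (by decide)
  b_ne_a := fun h => by
    have := sylowHomG2_injective f hf hK h
    exact absurd this (by decide)
  S_sq := fun x hx => by
    obtain ⟨d, rfl⟩ := hx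
    exact quat_sq_one f hf hK d
  card_S := range_sylowHomG2_card f hf hK
  card_NS := card_normalizerG2 f hf hK (perfectTwG2 f hf hK he)
  card_NSa := card_normalizer_centG2 f hf hK
  cent_S := centralizer_range_sylowHomG2 f hf hK
  card_CV := card_ab_cent f hf hK (by have := q_mod_eight f hf hK; omega)
  Y_cyclic := by
    have := (rotG2_cyclic_card (K := K) (by have := q_mod_eight f hf hK; omega)).1
    exact isCyclic_of_surjective _ (rotSqHom f hf hK).rangeRestrict_surjective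
  card_Y := card_range_rotSqHom f hf hK (by have := q_mod_eight f hf hK; omega)
  Y_le := by
    rintro _ ⟨⟨g, hg⟩, rfl⟩
    refine Subgroup.mem_inf.2 ⟨(mem_cent_invElt f hf hK).2 (invG2_comm_psi f hf _), ?_⟩
    rw [Subgroup.mem_centralizer_singleton_iff]
    refine Subtype.ext ?_
    rw [Subgroup.coe_mul, Subgroup.coe_mul, coe_rotSqHom, coe_bR f hf hK, ← map_mul, ← map_mul]
    congr 1
    exact (((show Commute g quatI from (mem_rotG2.1 hg).symm)).mul_left
      (mem_rotG2.1 hg).symm).eq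
  j_mem := by
    refine Subgroup.mem_inf.2 ⟨?_, ?_⟩ <;>
      rw [Subgroup.mem_centralizer_singleton_iff, jR] <;>
      first
        | rw [← map_mul, ← map_mul, mul_comm]
        | rw [bR, ← map_mul, ← map_mul, mul_comm]
  j_sq := quat_sq_one f hf hK _
  j_inv := by
    rintro _ ⟨⟨g, hg⟩, rfl⟩
    refine Subtype.ext ?_
    simp only [Subgroup.coe_mul, Subgroup.coe_inv, coe_rotSqHom, coe_jR f hf hK]
    rw [← map_inv, ← map_mul, ← map_mul, ← map_inv, quatJ_inv_rot (mul_mem hg hg)]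
  cent_aY := fun y hy hy1 x hax hyx hodd =>
    mem_rotSq_of_odd f hf hK (by have := q_mod_eight f hf hK; omega) hy hy1
      ((mem_cent_invElt f hf hK).1 (Subgroup.mem_centralizer_singleton_iff.2 hax.symm)) hyx hodd
  card_U_cube := by
    have he' : {x : ↥(endoG2 f).fix | x ∈ unipR f ∧ x ^ 3 = 1} =
        Set.range (fun p : K × K =>
          (⟨reeElt e (0, p.1, p.2), (reeElt_mem f hf hK _).1⟩ : ↥(endoG2 f).fix)) := by
      ext x
      constructor
      · rintro ⟨h1, h2⟩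
        obtain ⟨p, hp⟩ := (reeEquiv f hf hK).surjective ⟨x, x.2, (mem_unipR f hf).1 h1⟩
        have hpx : reeElt e p = (x : GL chevG2.Idx K) := congrArg Subtype.val hp
        have h3 : p.1 = 0 := (reeElt_cube_eq_one f hf p).1 (by
          rw [hpx, ← Subgroup.coe_pow, h2, Subgroup.coe_one])
        refine ⟨p.2, Subtype.ext ?_⟩
        show reeElt e (0, p.2.1, p.2.2) = (x : GL chevG2.Idx K)
        rw [← hpx, show ((0 : K), p.2.1, p.2.2) = p from Prod.ext h3.symm rfl]
      · rintro ⟨p, rfl⟩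
        exact ⟨(mem_unipR f hf).2 (reeElt_mem f hf hK _).2,
          Subtype.ext ((reeElt_cube_eq_one f hf _).2 rfl)⟩
    rw [he', ← Nat.card_coe_set_eq, Nat.card_range_of_injective fun p p' h =>
      congrArg Prod.snd (reeElt_injective f hf (congrArg Subtype.val h)),
      Nat.card_prod, Nat.card_eq_fintype_card, pow_two]
  U_nine := fun x hx => Subtype.ext (reeElt_nine f hf hK ⟨x.2, (mem_unipR f hf).1 hx⟩)
  CUa_cube := fun x hx h => by
    obtain ⟨t, ht⟩ := eq_middle_of_commG2 f hf hK ⟨x.2, (mem_unipR f hf).1 hx⟩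
      ((mem_cent_invElt f hf hK).1 (Subgroup.mem_centralizer_singleton_iff.2 h.symm))
    refine Subtype.ext ?_
    rw [Subgroup.coe_pow, Subgroup.coe_one, ht, reeElt_cube_eq_one f hf]
  sylow_cyclic := fun p hp hd P => by
    have := Fact.mk hp
    exact sylow_cyclic_seven f hf hK he hd P
  autom := fun p hp hd x g hx i hg => by
    have := Fact.mk hp
    exact autom_seven f hf hK he hd hx hg

end CfsgLib.Ree
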