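import Cfsg.Agent.Lib.Ree.Solvable
import Cfsg.Agent.Lib.Ree.Instance

/-!
The statements on the local structure of the small Ree groups.
-/

set_option autoImplicit false
set_option linter.unusedSectionVars false

open scoped IsMulCommutative

namespace CfsgLib.Ree

namespace ReeData

variable {G : Type*} [Group G] [Finite G] (D : ReeData G)

lemma card_T2_half : Nat.card D.T2 = (D.q - 1) / 2 := by have := D.card_T2; omega

lemma card_Y_quarter : Nat.card D.Y = (D.q + 1) / 4 := by have := D.card_Y; omega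

theorem hall_list {r : ℕ} (hr : r * r = 3 * D.q) :
    ∀ kn ∈ ({((D.q - 1) / 2, 2 * (D.q - 1)), ((D.q + 1) / 4, 6 * (D.q + 1)),
        (D.q - r + 1, 6 * (D.q - r + 1)), (D.q + r + 1, 6 * (D.q + r + 1))} : Set (ℕ × ℕ)),
      ∃ A : Subgroup G, IsCyclic A ∧ Nat.card A = kn.1 ∧
        Nat.card (Subgroup.normalizer (A : Set G)) = kn.2 ∧
        ∀ A₀ : Subgroup G, A₀ ≤ A → A₀ ≠ ⊥ →
          Subgroup.normalizer (A₀ : Set G) = Subgroup.normalizer (A : Set G) := by
  obtain ⟨A, B, hA, hB, cA, cB, nA, nB, -, -⟩ := D.exists_tori_r hr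
  intro kn hkn
  simp only [Set.mem_insert_iff, Set.mem_singleton_iff] at hkn
  rcases hkn with rfl | rfl | rfl | rfl
  · exact ⟨D.T2, D.T2_cyclic, D.card_T2_half, D.card_normalizer_T2,
      fun A₀ h1 h2 => D.torus_T.normalizer_sub h1 h2⟩
  · exact ⟨D.Y, D.Y_cyclic, D.card_Y_quarter, D.card_normalizer_Y,
      fun A₀ h1 h2 => D.torus_Y.normalizer_sub h1 h2⟩
  · exact ⟨A, hA.cyclic, cA, nA, fun A₀ h1 h2 => hA.normalizer_sub h1 h2⟩
  · exact ⟨B, hB.cyclic, cB, nB, fun A₀ h1 h2 => hB.normalizer_sub h1 h2⟩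

theorem orders_iff {r : ℕ} (hr : r * r = 3 * D.q) (d : ℕ) :
    (∃ g : G, orderOf g = d) ↔ (d ∣ 6 ∨ d ∣ 9 ∨ d ∣ D.q - 1 ∨ d ∣ (D.q + 1) / 2 ∨
      d ∣ D.q - r + 1 ∨ d ∣ D.q + r + 1) :=
  ⟨fun ⟨g, hg⟩ => hg ▸ D.orders_dvd hr g, D.exists_order hr⟩

theorem order_counts {r : ℕ} (hr : r * r = 3 * D.q) :
    Nat.card {g : G // orderOf g = 2} = D.q ^ 2 * (D.q ^ 2 - D.q + 1) ∧
    Nat.card {g : G // orderOf g = 3} = (D.q ^ 2 - 1) * (D.q ^ 3 + 1) ∧
    Nat.card {g : G // orderOf g = 6} = D.q ^ 2 * (D.q - 1) * (D.q ^ 3 + 1) ∧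
    Nat.card {g : G // orderOf g = 9} = D.q ^ 2 * (D.q - 1) * (D.q ^ 3 + 1) ∧
    (∀ i : ℕ, 2 < i → i ∣ D.q - 1 →
      2 * Nat.card {g : G // orderOf g = i} = Nat.totient i * D.q ^ 3 * (D.q ^ 3 + 1)) ∧
    (∀ i : ℕ, 1 < i → i ∣ (D.q + 1) / 4 →
      6 * Nat.card {g : G // orderOf g = i} =
          Nat.totient i * D.q ^ 3 * (D.q - 1) * (D.q ^ 2 - D.q + 1) ∧
        2 * Nat.card {g : G // orderOf g = 2 * i} =
          Nat.totient i * D.q ^ 3 * (D.q - 1) * (D.q ^ 2 - D.q + 1)) ∧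
    (∀ i : ℕ, 1 < i → i ∣ D.q - r + 1 →
      6 * Nat.card {g : G // orderOf g = i} =
        Nat.totient i * D.q ^ 3 * (D.q ^ 2 - 1) * (D.q + r + 1)) ∧
    (∀ i : ℕ, 1 < i → i ∣ D.q + r + 1 →
      6 * Nat.card {g : G // orderOf g = i} =
        Nat.totient i * D.q ^ 3 * (D.q ^ 2 - 1) * (D.q - r + 1)) := by
  have hc : ∀ i, Nat.card {g : G // orderOf g = i} = {g : G | orderOf g = i}.ncard :=
    fun i => Nat.card_coe_set_eq _
  simp only [hc]
  obtain ⟨e2, e3, e6, e9⟩ := D.card_small_orders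
  obtain ⟨A, B, hA, hB, cA, cB, nA, nB, hAB, -⟩ := D.exists_tori_r hr
  have h27 := D.q_ge
  have hG := D.card_G_M
  refine ⟨e2, e3, e6, e9, fun i h2 hi => D.card_order_T h2 hi, fun i h1 hi => ⟨?_, ?_⟩,
    fun i h1 hi => ?_, fun i h1 hi => ?_⟩
  · have h := D.torus_Y.card_order h1 (D.card_Y_quarter ▸ hi)
    rw [D.card_normalizer_Y, hG, D.sq_sub_one, M] at h
    apply Nat.eq_of_mul_eq_mul_right (show 0 < D.q + 1 by omega)
    linarith
  · have h := D.card_order_two_Y h1 (D.card_Y_quarter ▸ hi)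
    rw [hG, D.sq_sub_one, M] at h
    apply Nat.eq_of_mul_eq_mul_right (show 0 < 3 * (D.q + 1) by omega)
    linarith
  · have h := hA.card_order h1 (cA ▸ hi)
    rw [nA, hG, ← hAB, cA, cB] at h
    apply Nat.eq_of_mul_eq_mul_right (show 0 < D.q - r + 1 by omega)
    linarith
  · have h := hB.card_order h1 (cB ▸ hi)
    rw [nB, hG, ← hAB, cA, cB] at h
    apply Nat.eq_of_mul_eq_mul_right (show 0 < D.q + r + 1 by omega)
    linarith

theorem toral_conj {r : ℕ} (hr : r * r = 3 * D.q) (d : ℕ)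
    (hd : d ∣ (D.q - 1) / 2 ∨ d ∣ (D.q + 1) / 4 ∨ d ∣ D.q - r + 1 ∨ d ∣ D.q + r + 1)
    (A B : Subgroup G) (hA : IsCyclic A) (hB : IsCyclic B)
    (hAd : Nat.card A = d) (hBd : Nat.card B = d) :
    ∃ g : G, B = A.map (MulAut.conj g).toMonoidHom := by
  obtain ⟨P, R, hP, hR, cP, cR, -, -, -, -⟩ := D.exists_tori_r hr
  have e := hAd.trans hBd.symm
  rcases hd with h | h | h | h
  · exact D.torus_T.conj_subgroups hA hB e (by rw [hAd, D.card_T2_half]; exact h)
  · exact D.torus_Y.conj_subgroups hA hB e (by rw [hAd, D.card_Y_quarter]; exact h)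
  · exact hP.conj_subgroups hA hB e (by rw [hAd, cP]; exact h)
  · exact hR.conj_subgroups hA hB e (by rw [hAd, cR]; exact h)

theorem split_quarter_centralizers (H : Subgroup G) (hH : IsCyclic H) :
    (Nat.card H = (D.q - 1) / 2 →
      IsCyclic ↥(Subgroup.centralizer (H : Set G)) ∧
        Nat.card ↥(Subgroup.centralizer (H : Set G)) = D.q - 1 ∧
        ∀ A : Subgroup G, A ≤ H → A ≠ ⊥ →
          Subgroup.centralizer (A : Set G) = Subgroup.centralizer (H : Set G)) ∧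
    (Nat.card H = (D.q + 1) / 4 →
      IsMulCommutative ↥(Subgroup.centralizer (H : Set G)) ∧
        Nat.card ↥(Subgroup.centralizer (H : Set G)) = D.q + 1 ∧
        (∀ x ∈ Subgroup.centralizer (H : Set G), orderOf x ≠ 4) ∧
        ∀ A : Subgroup G, A ≤ H → A ≠ ⊥ →
          Subgroup.centralizer (A : Set G) = Subgroup.centralizer (H : Set G)) := by
  have h27 := D.q_ge
  constructor
  · intro hc
    obtain ⟨g, hg, hA⟩ := D.torus_T.cent_of_card hH (hc.trans D.card_T2_half.symm)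
      (by rw [D.card_T2_half]; omega)
    refine ⟨?_, ?_, hA⟩
    · rw [hg]
      have := D.T_cyclic
      exact isCyclic_of_surjective _
        (D.T.equivMapOfInjective _ (MulAut.conj g).injective).surjective
    · rw [hg, Subgroup.card_map_of_injective (MulAut.conj g).injective, D.card_T]
  · intro hc
    obtain ⟨g, hg, hA⟩ := D.torus_Y.cent_of_card hH (hc.trans D.card_Y_quarter.symm)
      (by rw [D.card_Y_quarter]; omega)
    refine ⟨?_, ?_, ?_, hA⟩
    · rw [hg]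
      refine ⟨⟨?_⟩⟩
      rintro ⟨_, x, hx, rfl⟩ ⟨_, y, hy, rfl⟩
      refine Subtype.ext ?_
      show (MulAut.conj g).toMonoidHom x * (MulAut.conj g).toMonoidHom y =
        (MulAut.conj g).toMonoidHom y * (MulAut.conj g).toMonoidHom x
      rw [← map_mul, ← map_mul, D.VY_abelian hx hy]
    · rw [hg, Subgroup.card_map_of_injective (MulAut.conj g).injective, D.card_VY]
    · rw [hg]
      rintro _ ⟨x, hx, rfl⟩ h4
      change orderOf (MulAut.conj g x) = 4 at h4
      rw [MulEquiv.orderOf_eq] at h4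
      have h1 : (x * x) * (x * x) = 1 := by
        rw [← pow_two x, ← pow_add, show 2 + 2 = orderOf x from h4.symm]; exact pow_orderOf_eq_one x
      have h2 := D.Y_sq (D.sq_mem_Y hx) h1
      have h3 := orderOf_dvd_of_pow_eq_one (show x ^ 2 = 1 by rw [pow_two]; exact h2)
      rw [h4] at h3
      exact absurd h3 (by decide)

end ReeData

/-- The numerical relation between `q = 3^(2m+1)` and `r = 3^(m+1)`. -/
lemma three_pow_sq (m : ℕ) : 3 ^ (m + 1) * 3 ^ (m + 1) = 3 * 3 ^ (2 * m + 1) := by ring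

end CfsgLib.Ree
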