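import Mathlib
import Cfsg.Prelude.Def_KGroupFacts
import Cfsg.Agent.Lib.AutPSL.Structure
import Cfsg.Agent.Lib.Schur.ReeThree
import Cfsg.Agent.Lib.Ree.Final

/-!
# Automorphisms of the small Ree groups, in coordinates
-/

set_option autoImplicit false
set_option linter.unusedSectionVars false
set_option linter.style.haveILetI false

namespace CfsgLib.Ree

open CfsgLib.Schur (ReeCoord)
open scoped Pointwise

variable {K : Type*} [Field K] [Fintype K] [CharP K 3] {G : Type*} [Group G] [Finite G]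

/-- A Ree group with coordinates and field automorphisms. -/
structure Coordinates (D : ReeData G) (m : ℕ) (el : K × K × K → G) (tor : Kˣ → G) (θ : K →+* K)
    (fa : (K ≃+* K) →* MulAut G) : Prop where
  coord : ReeCoord el tor θ
  one_le : 1 ≤ m
  card : Fintype.card K = 3 ^ (2 * m + 1)
  theta : ∀ x, θ x = x ^ 3 ^ (m + 1)
  el_injective : Function.Injective el
  mem_U : ∀ g, g ∈ D.U ↔ ∃ p, g = el p
  mem_T : ∀ g, g ∈ D.T ↔ ∃ s, g = tor s
  fa_el : ∀ φ t u v, fa φ (el (t, u, v)) = el (φ t, φ u, φ v)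
  fa_tor : ∀ φ (s : Kˣ), fa φ (tor s) = tor (Units.map (φ : K →* K) s)
  fa_n : ∀ φ, fa φ D.n = D.n

namespace Coordinates

variable {D : ReeData G} {m : ℕ} {el : K × K × K → G} {tor : Kˣ → G} {θ : K →+* K}
  {fa : (K ≃+* K) →* MulAut G} (C : Coordinates D m el tor θ fa)
include C

theorem two_eq : (2 : K) = -1 := by
  have h : (3 : K) = 0 := by exact_mod_cast CharP.cast_eq_zero K 3
  linear_combination h

theorem theta_theta (x : K) : θ (θ x) = x ^ 3 := by
  rw [C.theta, C.theta, ← pow_mul, ← pow_add,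
    show m + 1 + (m + 1) = 2 * m + 1 + 1 by omega, pow_succ, pow_mul, ← C.card, FiniteField.pow_card]

theorem exists_theta_ne : ∃ t : K, θ t ≠ t := by
  by_contra h
  push Not at h
  have h3 : ∀ t : K, t ^ 3 = t := fun t => by rw [← C.theta_theta, h, h]
  have hne := FiniteField.X_pow_card_sub_X_ne_zero K (p := 3) (by norm_num)
  classical
  have hsub : (Finset.univ : Finset K) ⊆
      (Polynomial.X ^ 3 - Polynomial.X : Polynomial K).roots.toFinset := fun t _ => by
    rw [Multiset.mem_toFinset, Polynomial.mem_roots hne]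
    simp [h3 t]
  have h1 := (Finset.card_le_card hsub).trans ((Multiset.toFinset_card_le _).trans
    (Polynomial.card_roots' _))
  rw [FiniteField.X_pow_card_sub_X_natDegree_eq K (by norm_num), Finset.card_univ, C.card] at h1
  have := Nat.pow_le_pow_right (show 0 < 3 by norm_num) (show 3 ≤ 2 * m + 1 by
    have := C.one_le; omega)
  omega

theorem alpha_surjective {x : K} (hx : x ≠ 0) : ∃ s : Kˣ, (s : K) ^ 2 / θ s = x := by
  have hinj : Function.Injective fun s : Kˣ => s ^ 2 / Units.map (θ : K →* K) s := by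
    intro s s' h
    refine div_eq_one.1 ?_
    set d := s / s' with hd
    have h1 : d ^ 2 = Units.map (θ : K →* K) d := by
      have h' : s ^ 2 / Units.map (θ : K →* K) s = s' ^ 2 / Units.map (θ : K →* K) s' := h
      rw [div_eq_div_iff_mul_eq_mul] at h'
      rw [hd, div_pow, map_div, div_eq_div_iff_mul_eq_mul, h', mul_comm]
    refine Units.ext ?_
    have h2 : θ (d : K) = (d : K) ^ 2 := by
      have := congrArg Units.val h1
      rw [Units.val_pow_eq_pow_val] at this
      exact this.symm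
    have h3 : (d : K) ^ 3 = (d : K) ^ 3 * d := by
      have h4 := C.theta_theta (d : K)
      rw [h2, map_pow, h2] at h4
      linear_combination -h4
    exact ((mul_eq_left₀ (pow_ne_zero _ d.ne_zero)).1 h3.symm)
  obtain ⟨s, hs⟩ := Finite.surjective_of_injective hinj (Units.mk0 x hx)
  refine ⟨s, ?_⟩
  have := congrArg Units.val hs
  rw [Units.val_div_eq_div_val, Units.val_pow_eq_pow_val, Units.val_mk0] at this
  exact this

theorem el_mul_Z (t u v c : K) : el (t, u, v) * el (0, 0, c) = el (t, u, v + c) := by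
  rw [C.coord.mul, map_zero]
  congr 1
  simp

theorem Z_mul_el (t u v c : K) : el (0, 0, c) * el (t, u, v) = el (t, u, v + c) := by
  rw [C.coord.mul]
  congr 1
  simp [add_comm]

theorem conj_Z (s : Kˣ) (v : K) : tor s * el (0, 0, v) * (tor s)⁻¹ = el (0, 0, (s : K) * v) := by
  rw [C.coord.conj, mul_zero, mul_zero]

theorem tor_injective : Function.Injective tor := fun s s' h => by
  have e := C.conj_Z s 1
  rw [h, C.conj_Z] at e
  have := C.el_injective e
  simp only [Prod.mk.injEq, mul_one, true_and] at this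
  exact Units.ext this.symm

theorem tor_one : tor 1 = 1 := by
  have := C.coord.tor_mul 1 1
  rw [one_mul] at this
  exact mul_eq_left.1 this.symm

theorem a_eq : D.a = tor (-1) := by
  have h1 : tor (-1) * tor (-1) = 1 := by
    rw [← C.coord.tor_mul, neg_mul_neg, one_mul, C.tor_one]
  rcases D.sq_T ((C.mem_T _).2 ⟨_, rfl⟩) h1 with h | h
  · exfalso
    have h' := congrArg Units.val (C.tor_injective (h.trans C.tor_one.symm))
    rw [Units.val_neg, Units.val_one] at h'
    exact one_ne_zero (α := K) (by linear_combination h' + C.two_eq)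
  · exact h.symm

theorem conj_a (t u v : K) : D.a * el (t, u, v) * D.a⁻¹ = el (-t, u, -v) := by
  rw [C.a_eq, C.coord.conj]
  congr 1
  simp [map_neg, map_one]

theorem cube (t c : K) :
    el (t, t * θ t, c) * el (t, t * θ t, c) * el (t, t * θ t, c) = el (0, 0, -(t ^ 2 * θ t)) := by
  have h3 : (3 : K) = 0 := by exact_mod_cast CharP.cast_eq_zero K 3
  rw [C.coord.mul, C.coord.mul]
  congr 1
  refine Prod.ext ?_ (Prod.ext ?_ ?_)
  · linear_combination t * h3
  · linear_combination (0 : K) * h3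
  · linear_combination (c - t ^ 2 * θ t) * h3

theorem el_zero : el (0, 0, 0) = 1 := C.coord.el_zero

/-- The automorphisms fixing the centre of `U` pointwise and stabilizing `U` and `T` are trivial. -/
theorem eq_one_of_fixed (α : MulAut G) (hαU : ∀ x ∈ D.U, α x ∈ D.U) (hαT : ∀ x ∈ D.T, α x ∈ D.T)
    (hZ : ∀ v, α (el (0, 0, v)) = el (0, 0, v)) : α = 1 := by
  classical
  have h3 : (3 : K) = 0 := by exact_mod_cast CharP.cast_eq_zero K 3
  have hfixT : ∀ s, α (tor s) = tor s := by
    intro s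
    obtain ⟨s', hs'⟩ := (C.mem_T _).1 (hαT _ ((C.mem_T _).2 ⟨s, rfl⟩))
    have e := congrArg α (C.conj_Z s 1)
    rw [map_mul, map_mul, map_inv, hs', hZ, hZ, C.conj_Z] at e
    have := C.el_injective e
    simp only [Prod.mk.injEq, mul_one, true_and] at this
    rw [hs', Units.ext this]
  have hfa : α D.a = D.a := by rw [C.a_eq, hfixT]
  -- the centralizer of `a` in `U`
  have hD : ∀ u : K, ∃ u', α (el (0, u, 0)) = el (0, u', 0) := by
    intro u
    obtain ⟨⟨t', u', v'⟩, hp⟩ := (C.mem_U _).1 (hαU _ ((C.mem_U _).2 ⟨(0, u, 0), rfl⟩))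
    have e := congrArg α (C.conj_a 0 u 0)
    rw [map_mul, map_mul, map_inv, hfa, neg_zero, hp, C.conj_a] at e
    have h := C.el_injective e
    simp only [Prod.mk.injEq, true_and] at h
    obtain ⟨h1, h2⟩ := h
    refine ⟨u', ?_⟩
    rw [hp, show t' = 0 by linear_combination h1 + t' * h3,
      show v' = 0 by linear_combination h2 + v' * h3]
  -- the elements inverted by `a`
  have hP : ∀ t : K, ∃ t' c, α (el (t, t * θ t, 0)) = el (t', t' * θ t', c) := by
    intro t
    have hinv : D.a * el (t, t * θ t, 0) * D.a⁻¹ * el (t, t * θ t, 0) = 1 := by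
      rw [C.conj_a, C.coord.mul, ← C.el_zero]
      congr 1
      refine Prod.ext (by ring) (Prod.ext ?_ ?_)
      · linear_combination (t * θ t) * h3
      · linear_combination -(t ^ 2 * θ t) * h3
    obtain ⟨⟨t', u', v'⟩, hp⟩ := (C.mem_U _).1 (hαU _ ((C.mem_U _).2 ⟨(t, t * θ t, 0), rfl⟩))
    have e := congrArg α hinv
    rw [map_mul, map_mul, map_mul, map_inv, hfa, hp, map_one, C.conj_a, C.coord.mul, ← C.el_zero] at e
    have h := C.el_injective e
    simp only [Prod.mk.injEq] at h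
    obtain ⟨-, h2, -⟩ := h
    refine ⟨t', v', ?_⟩
    rw [hp, show u' = t' * θ t' by linear_combination -h2 + u' * h3]
  choose Du hDu using hD
  choose A Cc hA using hP
  have hAD : ∀ t u, Du u * A t = u * t := by
    intro t u
    have h : el (0, u, 0) * el (t, t * θ t, 0) =
        el (t, t * θ t, 0) * el (0, u, 0) * el (0, 0, -(u * t)) := by
      rw [C.coord.mul, C.coord.mul, C.el_mul_Z]
      simp [add_comm]
    have e := congrArg α h
    rw [map_mul, map_mul, map_mul, hDu, hA, hZ, C.coord.mul, C.coord.mul, C.el_mul_Z] at e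
    have h' := C.el_injective e
    simp only [Prod.mk.injEq, map_zero, zero_mul, mul_zero, sub_zero, zero_add, add_zero] at h'
    obtain ⟨-, -, h4⟩ := h'
    linear_combination -h4
  have hcube : ∀ t, (A t) ^ 2 * θ (A t) = t ^ 2 * θ t := by
    intro t
    have e := congrArg α (C.cube t 0)
    rw [map_mul, map_mul, hA, hZ, C.cube] at e
    have h := C.el_injective e
    simp only [Prod.mk.injEq, true_and] at h
    linear_combination -h
  have hA1 : A 1 = 1 := by
    have h1 := hcube 1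
    rw [map_one, one_pow, one_mul] at h1
    have h2 := congrArg θ h1
    rw [map_mul, map_pow, C.theta_theta, map_one] at h2
    have h4 : θ (A 1) * ((A 1) ^ 2 * θ (A 1)) * (A 1) = 1 := by linear_combination h2
    rw [h1, mul_one] at h4
    have hne : A 1 ≠ 0 := fun e => by rw [e, mul_zero] at h4; exact zero_ne_one h4
    exact mul_right_cancel₀ (b := A 1 * θ (A 1)) (mul_ne_zero hne fun e => by
      rw [e, zero_mul] at h4; exact zero_ne_one h4) (by linear_combination h1 - h4)
  have hDu1 : ∀ u, Du u = u := fun u => by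
    have := hAD 1 u
    rwa [hA1, mul_one, mul_one] at this
  have hAt : ∀ t, A t = t := fun t => by
    have := hAD t 1
    rwa [hDu1, one_mul, one_mul] at this
  have hC : ∀ t t', Cc (t + t') = Cc t + Cc t' := by
    intro t t'
    set w := t * θ t + t' * θ t' - θ t' * t - (t + t') * θ (t + t') with hw
    obtain ⟨z, hz⟩ : ∃ z, el (t, t * θ t, 0) * el (t', t' * θ t', 0) =
        el (t + t', (t + t') * θ (t + t'), 0) * el (0, w, 0) * el (0, 0, z) := by
      refine ⟨-θ t' * t ^ 2 - t * θ t * t' + θ t' * t * t', ?_⟩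
      rw [C.coord.mul, C.coord.mul, C.el_mul_Z, hw, map_zero]
      congr 1
      refine Prod.ext (by ring) (Prod.ext ?_ ?_)
      · ring
      · ring
    have e := congrArg α hz
    have hsplit : ∀ x c : K, el (x, x * θ x, c) = el (x, x * θ x, 0) * el (0, 0, c) := fun x c => by
      rw [C.el_mul_Z, zero_add]
    rw [map_mul, map_mul, map_mul, hA, hA, hA, hDu, hZ, hDu1, hAt, hAt, hAt, C.coord.mul,
      C.coord.mul, C.el_mul_Z] at e
    rw [C.coord.mul, C.coord.mul, C.el_mul_Z] at hz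
    have h1 := C.el_injective e
    have h2 := C.el_injective hz
    simp only [Prod.mk.injEq] at h1 h2
    linear_combination h2.2.2 - h1.2.2
  have hCw : ∀ t, Cc t = t ^ 2 * θ t * Cc 1 := by
    intro t
    rcases eq_or_ne t 0 with rfl | ht
    · have := hC 0 0
      rw [add_zero] at this
      have h0 : Cc 0 = 0 := by linear_combination -this
      rw [h0]; simp
    obtain ⟨s, hs⟩ := C.alpha_surjective ht
    have hne : θ (s : K) ≠ 0 := (map_ne_zero θ).2 s.ne_zero
    have e : tor s * el (1, 1 * θ 1, 0) * (tor s)⁻¹ = el (t, t * θ t, 0) := by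
      rw [C.coord.conj, ← hs]
      congr 1
      refine Prod.ext (by ring) (Prod.ext ?_ (by ring))
      rw [map_one, map_div₀, map_pow, C.theta_theta]
      field_simp
    have e' := congrArg α e
    rw [map_mul, map_mul, map_inv, hfixT, hA, hA, C.coord.conj, hAt, hAt] at e'
    have h := C.el_injective e'
    simp only [Prod.mk.injEq] at h
    rw [← h.2.2, ← hs, map_div₀, map_pow, C.theta_theta]
    field_simp
  have hc : Cc 1 = 0 := by
    obtain ⟨t, ht⟩ := C.exists_theta_ne
    have e1 := hC t 1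
    have e2 := hC t (-1)
    rw [hCw t, hCw (t + 1), map_add, map_one] at e1
    rw [hCw t, hCw (t + -1), map_add, map_neg, map_one, hCw (-1), map_neg, map_one] at e2
    have h : Cc 1 * (t - θ t) = 0 := by
      linear_combination e1 + e2 - (Cc 1 * t + Cc 1 * θ t) * h3
    exact (mul_eq_zero.1 h).resolve_right (sub_ne_zero.2 (Ne.symm ht))
  have hfixU : ∀ t u v, α (el (t, u, v)) = el (t, u, v) := by
    intro t u v
    have hsplit : el (t, u, v) = el (t, t * θ t, 0) * el (0, u - t * θ t, 0) * el (0, 0, v) := by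
      rw [C.coord.mul, C.el_mul_Z]
      congr 1
      simp
    rw [hsplit, map_mul, map_mul, hA, hDu, hZ, hAt, hDu1, hCw, hc, mul_zero]
  have hfixB : ∀ g ∈ D.B, α g = g := by
    intro g hg
    obtain ⟨x, hx, y, hy, rfl⟩ := (D.mem_B g).1 hg
    obtain ⟨⟨t, u, v⟩, rfl⟩ := (C.mem_U _).1 hx
    obtain ⟨s, rfl⟩ := (C.mem_T _).1 hy
    rw [map_mul, hfixU, hfixT]
  have hn : α D.n * D.n ∈ D.T := by
    have hN : α D.n ∈ Subgroup.normalizer (D.T : Set G) := by
      refine Subgroup.mem_normalizer_fintype fun x hx => ?_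
      rw [SetLike.mem_coe] at hx ⊢
      rw [← hfixB x (D.T_le_B hx), ← map_inv, ← map_mul, ← map_mul, D.n_inv x hx]
      exact hαT _ (inv_mem hx)
    refine ((D.mem_normalizer_T).1 hN).resolve_left fun h => D.n_not_mem_B ?_
    have : α D.n = α (α D.n) := (hfixB _ (D.T_le_B h)).symm
    rw [α.injective this]
    exact D.T_le_B h
  have key : ∀ g, g⁻¹ * α g ∈ D.B := by
    intro g
    rcases D.cells g with hB | ⟨c, hc', u, hu, rfl⟩
    · rw [hfixB g hB, inv_mul_cancel]; exact one_mem _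
    · rw [map_mul, map_mul, hfixB c hc', hfixB u (D.U_le_B hu),
        show (c * D.n * u)⁻¹ * (c * α D.n * u) = u⁻¹ * (D.n⁻¹ * (α D.n * D.n) * D.n⁻¹) * u by group]
      refine mul_mem (mul_mem (inv_mem (D.U_le_B hu)) ?_) (D.U_le_B hu)
      rw [show D.n⁻¹ * (α D.n * D.n) * D.n⁻¹ = D.n * (α D.n * D.n) * D.n⁻¹ by rw [D.n_inv_eq],
        D.n_inv _ hn]
      exact D.T_le_B (inv_mem hn)
  refine MulEquiv.ext fun g => ?_
  show α g = g
  set x := g⁻¹ * α g with hx
  have hcore : ∀ k, k⁻¹ * x * k ∈ D.B := by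
    intro k
    have := mul_mem (key (g * k)) (inv_mem (key k))
    rwa [map_mul, show (g * k)⁻¹ * (α g * α k) * (k⁻¹ * α k)⁻¹ = k⁻¹ * x * k by rw [hx]; group] at this
  have hT : ∀ k, k⁻¹ * x * k ∈ D.T := by
    intro k
    obtain ⟨u, hu, t, ht, e⟩ := (D.mem_B _).1 (hcore k)
    have h1 : D.n⁻¹ * (u * t) * D.n ∈ D.B := by
      rw [← e]
      have := hcore (k * D.n)
      rwa [show (k * D.n)⁻¹ * x * (k * D.n) = D.n⁻¹ * (k⁻¹ * x * k) * D.n by group] at this
    rw [e, D.free u hu t ht h1, one_mul]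
    exact ht
  have hxT : x ∈ D.T := by simpa using hT 1
  have hcomm : ∀ y ∈ D.U, x * y = y * x := by
    intro y hy
    have h1 : x⁻¹ * (y⁻¹ * x * y) ∈ D.T := mul_mem (inv_mem hxT) (hT y)
    have h2 : x⁻¹ * (y⁻¹ * x * y) ∈ D.U := by
      have h' := mul_mem (D.T_norm x⁻¹ (inv_mem hxT) y⁻¹ (inv_mem hy)) hy
      rwa [show x⁻¹ * y⁻¹ * x⁻¹⁻¹ * y = x⁻¹ * (y⁻¹ * x * y) by group] at h'
    have h4 : x⁻¹ * (y⁻¹ * x * y) ∈ D.U ⊓ D.T := ⟨h2, h1⟩
    rw [D.UT, Subgroup.mem_bot, inv_mul_eq_one] at h4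
    calc x * y = y * (y⁻¹ * x * y) := by group
      _ = y * x := by rw [← h4]
  have hx1 : x = 1 := by
    by_cases h2 : x * x = 1
    · refine (D.sq_T hxT h2).resolve_right fun e => ?_
      have hle : D.U ≤ Subgroup.centralizer {D.a} := fun y hy =>
        Subgroup.mem_centralizer_singleton_iff.2 (e ▸ (hcomm y hy)).symm
      have hq := D.card_CUa
      rw [inf_eq_left.2 hle, D.card_U] at hq
      have h27 := D.q_ge
      nlinarith [Nat.mul_le_mul h27 h27]
    · exfalso
      obtain ⟨y, hy, hy1⟩ := D.exists_U_ne_one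
      exact hy1 (D.fpf x hxT h2 y hy (hcomm y hy))
  rw [hx] at hx1
  exact (inv_mul_eq_one.1 hx1).symm

theorem normalized (α : MulAut G) (hαU : ∀ x ∈ D.U, α x ∈ D.U) (hαT : ∀ x ∈ D.T, α x ∈ D.T) :
    ∃ (g : G) (φ : K ≃+* K), α = MulAut.conj g * fa φ := by
  classical
  have hUsurj : ∀ y ∈ D.U, ∃ x ∈ D.U, α x = y := by
    intro y hy
    let F' : D.U → D.U := fun u => ⟨α u, hαU u u.2⟩
    have hinj : Function.Injective F' := fun u v e =>
      Subtype.ext (α.injective (congrArg Subtype.val e))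
    obtain ⟨u, hu⟩ := Finite.injective_iff_surjective.1 hinj ⟨y, hy⟩
    exact ⟨u, u.2, congrArg Subtype.val hu⟩
  have hsgn : ∀ v : K, ∃ v', α (el (0, 0, v)) = el (0, 0, v') := by
    intro v
    obtain ⟨⟨t', u', v'⟩, hp⟩ := (C.mem_U _).1 (hαU _ ((C.mem_U _).2 ⟨(0, 0, v), rfl⟩))
    have hcen : ∀ p, el (t', u', v') * el p = el p * el (t', u', v') := by
      intro p
      obtain ⟨x, hx, e⟩ := hUsurj _ ((C.mem_U _).2 ⟨p, rfl⟩)
      obtain ⟨⟨a, b, c⟩, rfl⟩ := (C.mem_U _).1 hx
      rw [← e, ← hp, ← map_mul, ← map_mul, C.Z_mul_el, C.el_mul_Z]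
    have h1 := hcen (0, 1, 0)
    have h2 := hcen (1, 0, 0)
    rw [C.coord.mul, C.coord.mul] at h1 h2
    have e1 := C.el_injective h1
    have e2 := C.el_injective h2
    simp only [Prod.mk.injEq, map_zero, map_one] at e1 e2
    have ht : t' = 0 := by linear_combination e1.2.2
    have hu : u' = 0 := by
      have := e2.2.2
      subst ht
      simp only [map_zero] at this
      linear_combination -this
    exact ⟨v', by rw [hp, ht, hu]⟩
  choose f hf using hsgn
  have hfadd : ∀ x y, f (x + y) = f x + f y := fun x y => by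
    have e : el (0, 0, f (x + y)) = el (0, 0, f x + f y) := by
      rw [← hf, ← C.el_mul_Z, map_mul, hf, hf, C.el_mul_Z]
    simpa using C.el_injective e
  have hfinj : Function.Injective f := fun x y h => by
    simpa using C.el_injective (α.injective (show α (el (0, 0, x)) = α (el (0, 0, y)) by
      rw [hf, hf, h]))
  have hf0 : f 0 = 0 := by
    have := hfadd 0 0
    rw [add_zero] at this
    exact left_eq_add.1 this
  have hf1 : f 1 ≠ 0 := fun h => one_ne_zero (hfinj (h.trans hf0.symm))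
  have hmul : ∀ s b : K, f (s * b) * f 1 = f s * f b := by
    intro s b
    rcases eq_or_ne s 0 with rfl | hs
    · simp [hf0]
    obtain ⟨s', hs'⟩ := (C.mem_T _).1 (hαT _ ((C.mem_T _).2 ⟨Units.mk0 s hs, rfl⟩))
    have key : ∀ b, f (s * b) = (s' : K) * f b := by
      intro b
      have e := congrArg α (C.conj_Z (Units.mk0 s hs) b)
      rw [map_mul, map_mul, map_inv, hs', hf, hf, C.conj_Z] at e
      simpa using (C.el_injective e).symm
    have e1 := key 1
    rw [mul_one] at e1
    rw [key b, e1]; ring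
  let φ₀ : K →+* K :=
    { toFun := fun b => f b / f 1
      map_one' := div_self hf1
      map_mul' := fun s b => by
        show f (s * b) / f 1 = f s / f 1 * (f b / f 1)
        rw [div_mul_div_comm, div_eq_div_iff hf1 (mul_ne_zero hf1 hf1)]
        linear_combination (f 1) * hmul s b
      map_zero' := by rw [hf0, zero_div]
      map_add' := fun x y => by rw [hfadd, add_div] }
  let φ : K ≃+* K := RingEquiv.ofBijective φ₀ φ₀.injective.bijective_of_finite
  have hφ : ∀ b, f b = f 1 * φ b := fun b => (mul_div_cancel₀ (f b) hf1).symm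
  set u := Units.mk0 (f 1) hf1 with hu
  refine ⟨tor u, φ, eq_of_inv_mul_eq_one ?_|>.symm⟩
  set β := MulAut.conj (tor u) * fa φ with hβ
  have hβel : ∀ t a v, β (el (t, a, v)) =
      el ((u : K) ^ 2 / θ u * φ t, θ u / u * φ a, f 1 * φ v) := fun t a v => by
    show tor u * fa φ (el (t, a, v)) * (tor u)⁻¹ = _
    rw [C.fa_el, C.coord.conj]
    rfl
  have hβT : ∀ x ∈ D.T, β x ∈ D.T := by
    intro x hx
    obtain ⟨s, rfl⟩ := (C.mem_T _).1 hx
    show tor u * fa φ (tor s) * (tor u)⁻¹ ∈ D.T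
    rw [C.fa_tor]
    exact mul_mem (mul_mem ((C.mem_T _).2 ⟨u, rfl⟩) ((C.mem_T _).2 ⟨_, rfl⟩))
      (inv_mem ((C.mem_T _).2 ⟨u, rfl⟩))
  have hβU : ∀ x ∈ D.U, β x ∈ D.U := by
    intro x hx
    obtain ⟨⟨t, a, v⟩, rfl⟩ := (C.mem_U _).1 hx
    rw [hβel]
    exact (C.mem_U _).2 ⟨_, rfl⟩
  have hback : ∀ (H : Subgroup G), (∀ x ∈ H, β x ∈ H) → ∀ y ∈ H, β⁻¹ y ∈ H := by
    intro H hH y hy
    let F' : H → H := fun x => ⟨β x, hH x x.2⟩
    obtain ⟨x, hx⟩ := Finite.injective_iff_surjective.1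
      (show Function.Injective F' from fun a b e => Subtype.ext (β.injective (congrArg Subtype.val e)))
      ⟨y, hy⟩
    rw [show y = β x from (congrArg Subtype.val hx).symm, MulAut.inv_apply_self]
    exact x.2
  refine C.eq_one_of_fixed (β⁻¹ * α) (fun x hx => hback _ hβU _ (hαU x hx))
    (fun x hx => hback _ hβT _ (hαT x hx)) fun v => ?_
  apply β.injective
  refine (MulAut.apply_inv_self _ β _).trans ?_
  show α (el (0, 0, v)) = β (el (0, 0, v))
  rw [hf, hβel, map_zero, mul_zero, mul_zero, hφ]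

theorem exists_decomp (α : MulAut G) : ∃ (g : G) (φ : K ≃+* K), α = MulAut.conj g * fa φ := by
  classical
  haveI : Fact (Nat.Prime 3) := ⟨Nat.prime_three⟩
  have hcard : Nat.card (D.U.map α.toMonoidHom) = 3 ^ (Nat.card G).factorization 3 := by
    rw [Subgroup.card_map_of_injective α.injective]
    exact D.sylow3.card_eq_multiplicity
  obtain ⟨k, hk⟩ := MulAction.exists_smul_eq G (Sylow.ofCard _ hcard) D.sylow3
  have hkU : ∀ u ∈ D.U, k * α u * k⁻¹ ∈ D.U := by
    intro u hu
    have h := Subgroup.smul_mem_pointwise_smul (α u) (MulAut.conj k)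
      ((Sylow.ofCard _ hcard : Sylow 3 G) : Subgroup G) (Subgroup.mem_map_of_mem _ hu)
    have e := congrArg (fun P : Sylow 3 G => (P : Subgroup G)) hk
    simp only [Sylow.coe_subgroup_smul] at e
    rw [e] at h
    exact h
  have hT2 : 1 < Nat.card D.T2 := by have := D.card_T2; have := D.q_ge; omega
  obtain ⟨p, hp, hpd⟩ := Nat.exists_prime_and_dvd hT2.ne'
  have := Fact.mk hp
  obtain ⟨⟨v, hv⟩, hvo⟩ := exists_prime_orderOf_dvd_card' p hpd
  replace hvo : orderOf v = p := (Subgroup.orderOf_coe _).trans hvo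
  have hv1 : v ≠ 1 := fun e => hp.ne_one (by rw [← hvo, e, orderOf_one])
  have hv2 := D.T2_regular hv hv1
  have hvT := D.T2_le hv
  set x := k * α v * k⁻¹ with hxdef
  have hxo : orderOf x = p := by rw [orderOf_conj', MulEquiv.orderOf_eq, hvo]
  have hxB : x ∈ D.B := by
    rw [← D.normalizer_U]
    refine Subgroup.mem_normalizer_fintype fun y hy => ?_
    let F' : D.U → D.U := fun u => ⟨k * α u * k⁻¹, hkU u u.2⟩
    obtain ⟨u, hu⟩ := Finite.injective_iff_surjective.1 (show Function.Injective F' from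
      fun a b e => Subtype.ext (α.injective (mul_left_cancel (mul_right_cancel
        (congrArg Subtype.val e))))) ⟨y, hy⟩
    have hy' : k * α u * k⁻¹ = y := congrArg Subtype.val hu
    rw [SetLike.mem_coe, ← hy', show x * (k * α u * k⁻¹) * x⁻¹ = k * α (v * u * v⁻¹) * k⁻¹ by
      rw [hxdef, map_mul, map_mul, map_inv]; group]
    exact hkU _ (D.T_norm v hvT u u.2)
  obtain ⟨h, hh, -⟩ := D.exists_conj_T (g := x) hp hpd hxo.symm.dvd
  have hxne : x * x ≠ 1 := by
    intro e
    apply hv2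
    apply α.injective
    rw [map_mul, map_one]
    rw [hxdef, show k * α v * k⁻¹ * (k * α v * k⁻¹) = k * (α v * α v) * k⁻¹ by group,
      conj_eq_one_iff] at e
    exact e
  obtain ⟨h, hhT, hhB⟩ : ∃ h, h * x * h⁻¹ ∈ D.T ∧ h ∈ D.B := by
    rcases D.cells h with hB | ⟨c, hc, u, hu, rfl⟩
    · exact ⟨h, hh, hB⟩
    obtain ⟨y, hy, t, ht, e⟩ := (D.mem_B _).1
      (mul_mem (mul_mem (inv_mem hc) (D.T_le_B hh)) hc)
    have hfree := D.free y hy t ht (by
      rw [← e, show D.n⁻¹ * (c⁻¹ * (c * D.n * u * x * (c * D.n * u)⁻¹) * c) * D.n = u * x * u⁻¹ by group]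
      exact mul_mem (mul_mem (D.U_le_B hu) hxB) (inv_mem (D.U_le_B hu)))
    rw [hfree, one_mul] at e
    have hreg : c * D.n * u * x * (c * D.n * u)⁻¹ * (c * D.n * u * x * (c * D.n * u)⁻¹) ≠ 1 := by
      rw [show c * D.n * u * x * (c * D.n * u)⁻¹ * (c * D.n * u * x * (c * D.n * u)⁻¹) =
        c * D.n * u * (x * x) * (c * D.n * u)⁻¹ by group]
      exact fun e' => hxne (conj_eq_one_iff.1 e')
    rcases D.conj_regular (g := c⁻¹) hh hreg (by rw [inv_inv, e]; exact ht) with h' | h'
    · refine ⟨D.n * (c * D.n * u), ?_, ?_⟩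
      · rw [show D.n * (c * D.n * u) * x * (D.n * (c * D.n * u))⁻¹ =
          D.n * (c * D.n * u * x * (c * D.n * u)⁻¹) * D.n⁻¹ by group, D.n_inv _ hh]
        exact inv_mem hh
      · have hcT : c ∈ D.T := by simpa using inv_mem h'
        rw [show D.n * (c * D.n * u) = D.n * c * D.n⁻¹ * (D.n * D.n) * u by group, D.n_sq, mul_one,
          D.n_inv _ hcT]
        exact mul_mem (D.T_le_B (inv_mem hcT)) (D.U_le_B hu)
    · exact absurd (by simpa using mul_mem hc (D.T_le_B h')) D.n_not_mem_B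
  set γ := MulAut.conj (h * k) * α with hγ
  have hγU : ∀ u ∈ D.U, γ u ∈ D.U := fun u hu => by
    show h * k * α u * (h * k)⁻¹ ∈ _
    rw [show h * k * α u * (h * k)⁻¹ = h * (k * α u * k⁻¹) * h⁻¹ by group]
    exact D.B_conj_U hhB (hkU u hu)
  have hγv : γ v ∈ D.T := by
    show h * k * α v * (h * k)⁻¹ ∈ _
    rw [show h * k * α v * (h * k)⁻¹ = h * x * h⁻¹ by rw [hxdef]; group]
    exact hhT
  have hγv2 : γ v * γ v ≠ 1 := fun e => hv2 (γ.injective (by rw [map_mul, map_one]; exact e))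
  have hγT : ∀ t ∈ D.T, γ t ∈ D.T := fun t ht => by
    rw [← D.centralizer_regular hγv hγv2, Subgroup.mem_centralizer_singleton_iff, ← map_mul,
      ← map_mul, D.T_comm ht hvT]
  obtain ⟨g, φ, e⟩ := C.normalized γ hγU hγT
  refine ⟨(h * k)⁻¹ * g, φ, ?_⟩
  rw [map_mul, map_inv, mul_assoc, ← e, hγ, inv_mul_cancel_left]

theorem fa_conj {φ : K ≃+* K} {g : G} (h : MulAut.conj g = fa φ) : φ = 1 := by
  have e : ∀ x, g * x * g⁻¹ = fa φ x := fun x => by rw [← h]; rfl
  obtain ⟨y0, hy0, hy01⟩ := D.exists_U_ne_one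
  have hgB : g ∈ D.B := by
    refine D.mem_B_of_conj_mem hy0 hy01 ?_
    obtain ⟨⟨t, a, v⟩, rfl⟩ := (C.mem_U _).1 hy0
    rw [e, C.fa_el]
    exact (C.mem_U _).2 ⟨_, rfl⟩
  obtain ⟨y, hy, t, ht, rfl⟩ := (D.mem_B g).1 hgB
  obtain ⟨⟨a, b, c⟩, rfl⟩ := (C.mem_U _).1 hy
  obtain ⟨s, rfl⟩ := (C.mem_T _).1 ht
  have h1 := e (el (0, 0, 1))
  rw [C.fa_el, map_zero, map_one,
    show el (a, b, c) * tor s * el (0, 0, 1) * (el (a, b, c) * tor s)⁻¹ =
      el (a, b, c) * (tor s * el (0, 0, 1) * (tor s)⁻¹) * (el (a, b, c))⁻¹ by group,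
    C.conj_Z, C.el_mul_Z, ← C.Z_mul_el, mul_inv_cancel_right] at h1
  have hs : s = 1 := Units.ext (by simpa using C.el_injective h1)
  subst hs
  rw [C.tor_one, mul_one] at h e
  have hT2 : 1 < Nat.card D.T2 := by have := D.card_T2; have := D.q_ge; omega
  obtain ⟨v, hv, hv1⟩ := D.T2.bot_or_exists_ne_one.resolve_left fun e' => by
    rw [e', Subgroup.card_bot] at hT2; omega
  obtain ⟨s, rfl⟩ := (C.mem_T _).1 (D.T2_le hv)
  have hg1 : el (a, b, c) = 1 := by
    rcases D.conj_regular (g := el (a, b, c)) ((C.mem_T _).2 ⟨s, rfl⟩) (D.T2_regular hv hv1)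
      (by rw [e, C.fa_tor]; exact (C.mem_T _).2 ⟨_, rfl⟩) with h' | h'
    · have := (show el (a, b, c) ∈ D.U ⊓ D.T from ⟨hy, h'⟩)
      rwa [D.UT, Subgroup.mem_bot] at this
    · exact absurd (by simpa using mul_mem (inv_mem (D.U_le_B hy)) (D.T_le_B h')) D.n_not_mem_B
  rw [hg1, map_one] at h
  refine RingEquiv.ext fun x => ?_
  have := congrArg (fun α : MulAut G => α (el (0, 0, x))) h
  simp only [C.fa_el, MulAut.one_apply] at this
  simpa using (C.el_injective this).symm

theorem natCard_out : Nat.card (Cfsg.Out G) = 2 * m + 1 := by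
  haveI : Fact (Nat.Prime 3) := ⟨Nat.prime_three⟩
  obtain ⟨-, hc⟩ := CfsgLib.AutPSL.card_ringAut_isCyclic (p := 3) C.card (by omega)
  rw [← hc]
  let Φ : (K ≃+* K) → Cfsg.Out G := fun φ => QuotientGroup.mk (fa φ)
  refine (Nat.card_congr (Equiv.ofBijective Φ ⟨fun φ ψ h => ?_, fun o => ?_⟩)).symm
  · obtain ⟨g, hg⟩ := QuotientGroup.eq.1 h
    rw [← map_inv, ← map_mul] at hg
    exact inv_mul_eq_one.1 (C.fa_conj hg)
  · obtain ⟨β, rfl⟩ := QuotientGroup.mk_surjective o
    obtain ⟨g, φ, hgφ⟩ := C.exists_decomp β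
    refine ⟨φ, ?_⟩
    show QuotientGroup.mk _ = QuotientGroup.mk β
    rw [hgφ, QuotientGroup.eq, ← mul_assoc]
    have hn : (Cfsg.Inn G).Normal := inferInstance
    have := hn.conj_mem (MulAut.conj g) ⟨g, rfl⟩ (fa φ)⁻¹
    rwa [inv_inv] at this

end Coordinates

end CfsgLib.Ree
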