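import Cfsg.Agent.Lib.Chev.All
import Cfsg.Agent.Lib.Chev.Functorial
import Cfsg.Agent.Lib.Ree.Aut

/-!
# The field automorphisms of the small Ree groups
-/

set_option autoImplicit false
set_option linter.unusedSectionVars false
set_option maxRecDepth 100000

namespace CfsgLib.Ree

open CfsgLib.Chev Cfsg.Lie
open CfsgLib.Schur (ReeCoord)

universe u

variable {K : Type u} [Field K] [Fintype K] [CharP K 3] {e : ℕ} (f : K →+* K)
  (hf : ∀ t, f t = t ^ e)

theorem mapGL_reeElt (φ : K →+* K) (p : K × K × K) :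
    mapGL chevG2 φ (reeElt e p) = reeElt e (φ p.1, φ p.2.1, φ p.2.2) := by
  simp [reeElt, reeWordU, map_mul, certG2.X_map φ, mul_assoc]

theorem mapGL_torG2Hom (φ : K →+* K) (v : Kˣ) :
    mapGL chevG2 φ (torG2Hom e v) = torG2Hom e (Units.map (φ : K →* K) v) := by
  refine Units.ext ?_
  rw [coe_mapGL]
  show (torus chevG2 (charOf tabG2 (Cert.extC tabG2 (parG2 e v)))).map φ = _
  rw [Cert.torus_map]
  show _ = torus chevG2 (charOf tabG2 (Cert.extC tabG2 (parG2 e (Units.map (φ : K →* K) v))))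
  congr 2
  funext i
  simp only [Cert.extC]
  split
  · rename_i hi
    have hi' : i < 2 := hi
    interval_cases i <;> simp [parG2]
  · simp


theorem mem_unip_iff (hK' : Fintype.card K = 3 * e ^ 2) (g : ↥(endoG2 f).fix) :
    g ∈ unipR f ↔ ∃ p, g = (⟨reeElt e p, (reeElt_mem f hf hK' p).1⟩ : ↥(endoG2 f).fix) := by
  constructor
  · intro hg
    obtain ⟨p, hp⟩ := (reeEquiv f hf hK').surjective ⟨g, g.2, (mem_unipR f hf).1 hg⟩
    exact ⟨p, Subtype.ext (congrArg Subtype.val hp).symm⟩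
  · rintro ⟨p, rfl⟩
    exact (mem_unipR f hf).2 (reeElt_mem f hf hK' p).2

theorem mem_tor_iff (hK' : Fintype.card K = 3 * e ^ 2) (g : ↥(endoG2 f).fix) :
    g ∈ torR f ↔ ∃ v, g = (⟨torG2Hom e v, ((range_torG2Hom f hf hK').le ⟨v, rfl⟩).1⟩ :
      ↥(endoG2 f).fix) := by
  constructor
  · intro hg
    obtain ⟨v, hv⟩ := (range_torG2Hom f hf hK').ge ⟨g.2, (mem_torR f hf).1 hg⟩
    exact ⟨v, Subtype.ext hv.symm⟩
  · rintro ⟨v, rfl⟩
    exact (mem_torR f hf).2 ((range_torG2Hom f hf hK').le ⟨v, rfl⟩).2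

theorem reeCoord {K : Type u} [Field K] [Fintype K] [CharP K 3] {m : ℕ}
    (f : K →+* K) (hf : ∀ t, f t = t ^ 3 ^ m) (hK' : Fintype.card K = 3 * (3 ^ m) ^ 2)
    (he : 3 ≤ 3 ^ m) :
    ReeCoord (fun p : K × K × K => (⟨reeElt (3 ^ m) p, (reeElt_mem f hf hK' p).1⟩ : ↥(endoG2 f).fix))
      (fun v : Kˣ => (⟨torG2Hom (3 ^ m) v, ((range_torG2Hom f hf hK').le ⟨v, rfl⟩).1⟩ : ↥(endoG2 f).fix))
      (iterateFrobenius K 3 (m + 1)) := by
  let D := reeData f hf hK' he
  let el : K × K × K → ↥(endoG2 f).fix :=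
    fun p => ⟨reeElt (3 ^ m) p, (reeElt_mem f hf hK' p).1⟩
  let tor : Kˣ → ↥(endoG2 f).fix := fun v =>
    ⟨torG2Hom (3 ^ m) v, ((range_torG2Hom f hf hK').le ⟨v, rfl⟩).1⟩
  let θ : K →+* K := iterateFrobenius K 3 (m + 1)
  have hθ : ∀ x : K, θ x = x ^ 3 ^ (m + 1) := fun x => iterateFrobenius_def ..
  have hθ' : ∀ x : K, θ x = (x ^ 3 ^ m) ^ 3 := fun x => by rw [hθ, ← pow_mul, ← pow_succ]
  have hU : ∀ g, g ∈ D.U ↔ ∃ p, g = el p := fun g => mem_unip_iff f hf hK' g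
  show ReeCoord el tor θ
  refine ⟨fun t u v t' u' v' => ?_, fun r t u v => ?_, fun a b => Subtype.ext (map_mul _ a b)⟩
  · obtain ⟨⟨t₂, u₂, v₂⟩, hp⟩ := (hU _).1 (D.U.mul_mem ((hU (el (t, u, v))).2 ⟨_, rfl⟩)
      ((hU (el (t', u', v'))).2 ⟨_, rfl⟩))
    rw [hp]
    have h := congrArg Subtype.val hp
    simp only [Subgroup.coe_mul, el] at h
    rw [reeElt_eq f hf, reeElt_eq f hf, reeElt_eq f hf, mul_coordG2] at h
    obtain ⟨-, e1, -, -, e2, e3⟩ := coordG2_inj h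
    refine congrArg el (Prod.ext e1.symm (Prod.ext ?_ ?_))
    · rw [hθ', ← e2]; ring
    · rw [hθ', ← e3]; ring
  · have hmem : tor r * el (t, u, v) * (tor r)⁻¹ ∈ D.U :=
      D.T_norm _ ((mem_torR f hf).2 ((range_torG2Hom f hf hK').le ⟨r, rfl⟩).2) _
        ((hU _).2 ⟨_, rfl⟩)
    obtain ⟨⟨t₂, u₂, v₂⟩, hp⟩ := (hU _).1 hmem
    rw [hp]
    have h := congrArg Subtype.val hp
    simp only [Subgroup.coe_mul, Subgroup.coe_inv, el, tor] at h
    rw [reeElt_eq f hf, reeElt_eq f hf] at h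
    simp only [lowG2, ← conj_mul] at h
    rw [torG2Hom_conj f hf r (by norm_num), torG2Hom_conj f hf r (by norm_num),
      torG2Hom_conj f hf r (by norm_num), torG2Hom_conj f hf r (by norm_num),
      torG2Hom_conj f hf r (by norm_num), torG2Hom_conj f hf r (by norm_num), ← lowG2,
      ← lowG2] at h
    obtain ⟨-, e1, -, -, e2, e3⟩ := coordG2_inj h
    refine congrArg el (Prod.ext ?_ (Prod.ext ?_ ?_))
    · rw [← e1, show tabG2.car 0 6 = -3 by decide +kernel, show tabG2.car 1 6 = 2 by decide +kernel,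
        _root_.zpow_neg, zpow_ofNat, zpow_ofNat, hθ']
      ring
    · rw [← e2, show tabG2.car 0 10 = 3 by decide +kernel,
        show tabG2.car 1 10 = -1 by decide +kernel, zpow_ofNat, _root_.zpow_neg_one, hθ']
      ring
    · rw [← e3, show tabG2.car 0 11 = 0 by decide +kernel,
        show tabG2.car 1 11 = 1 by decide +kernel, zpow_zero, zpow_one, one_mul]

theorem exists_coordinates {K : Type u} [Field K] [Fintype K] [CharP K 3] {m : ℕ} (hm : 1 ≤ m)
    (hK : Fintype.card K = 3 ^ (2 * m + 1)) (f : K →+* K) (hf : ∀ t, f t = t ^ 3 ^ m)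
    (hK' : Fintype.card K = 3 * (3 ^ m) ^ 2) :
    ∃ fa : (K ≃+* K) →* MulAut ↥(endoG2 f).fix,
      Coordinates (reeData f hf hK' (Nat.le_self_pow (by omega) 3)) m
        (fun p : K × K × K => (⟨reeElt (3 ^ m) p, (reeElt_mem f hf hK' p).1⟩ : ↥(endoG2 f).fix))
        (fun v : Kˣ => (⟨torG2Hom (3 ^ m) v, ((range_torG2Hom f hf hK').le ⟨v, rfl⟩).1⟩ : ↥(endoG2 f).fix))
        (iterateFrobenius K 3 (m + 1)) fa := by
  set D := reeData f hf hK' (Nat.le_self_pow (show m ≠ 0 by omega) 3) with hD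
  have hmap : ∀ (φ : K ≃+* K) (g : ↥(endoG2 f).fix),
      mapGL chevG2 φ.toRingHom (g : GL chevG2.Idx K) ∈ (endoG2 f).fix := by
    intro φ
    have hel : ∀ p, mapGL chevG2 φ.toRingHom (reeElt (3 ^ m) p) ∈ (endoG2 f).fix := fun p => by
      rw [mapGL_reeElt]; exact (reeElt_mem f hf hK' _).1
    have htor : ∀ v, mapGL chevG2 φ.toRingHom (torG2Hom (3 ^ m) v) ∈ (endoG2 f).fix := fun v => by
      rw [mapGL_torG2Hom]; exact ((range_torG2Hom f hf hK').le ⟨_, rfl⟩).1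
    have hn : mapGL chevG2 φ.toRingHom (n0G2 K) ∈ (endoG2 f).fix := by
      rw [n0G2, certG2.nW_map]; exact n0G2_mem f hf hK'
    have hB : ∀ c ∈ D.B, mapGL chevG2 φ.toRingHom (c : GL chevG2.Idx K) ∈ (endoG2 f).fix := by
      intro c hc
      obtain ⟨x, hx, t, ht, rfl⟩ := (D.mem_B c).1 hc
      obtain ⟨p, rfl⟩ := (mem_unip_iff f hf hK' x).1 hx
      obtain ⟨v, rfl⟩ := (mem_tor_iff f hf hK' t).1 ht
      rw [Subgroup.coe_mul, map_mul]
      exact mul_mem (hel p) (htor v)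
    intro g
    rcases D.cells g with h | ⟨c, hc, u, hu, rfl⟩
    · exact hB g h
    · rw [Subgroup.coe_mul, Subgroup.coe_mul, map_mul, map_mul]
      refine mul_mem (mul_mem (hB c hc) ?_) (hB u (D.U_le_B hu))
      rw [show ((D.n : ↥(endoG2 f).fix) : GL chevG2.Idx K) = n0G2 K from coe_bR_n0 f hf hK']
      exact hn
  have hid : ∀ (φ ψ : K ≃+* K) (g : GL chevG2.Idx K),
      mapGL chevG2 φ.toRingHom (mapGL chevG2 ψ.toRingHom g) = mapGL chevG2 (φ * ψ).toRingHom g :=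
    fun φ ψ g => Units.ext (Matrix.ext fun i j => rfl)
  have hone : ∀ g : GL chevG2.Idx K, mapGL chevG2 (1 : K ≃+* K).toRingHom g = g :=
    fun g => Units.ext (Matrix.ext fun i j => rfl)
  let fa : (K ≃+* K) →* MulAut ↥(endoG2 f).fix :=
    { toFun := fun φ =>
        { toFun := fun g => ⟨_, hmap φ g⟩
          invFun := fun g => ⟨_, hmap φ⁻¹ g⟩
          left_inv := fun g => Subtype.ext (by
            show mapGL chevG2 (φ⁻¹).toRingHom (mapGL chevG2 φ.toRingHom _) = _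
            rw [hid, inv_mul_cancel, hone])
          right_inv := fun g => Subtype.ext (by
            show mapGL chevG2 φ.toRingHom (mapGL chevG2 (φ⁻¹).toRingHom _) = _
            rw [hid, mul_inv_cancel, hone])
          map_mul' := fun g h => Subtype.ext (map_mul (mapGL chevG2 φ.toRingHom) _ _) }
      map_one' := MulEquiv.ext fun g => Subtype.ext (hone _)
      map_mul' := fun φ ψ => MulEquiv.ext fun g => Subtype.ext (hid φ ψ _).symm }
  refine ⟨fa, ⟨reeCoord f hf hK' (Nat.le_self_pow (by omega) 3), hm, hK,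
    fun x => iterateFrobenius_def .., fun p p' h => reeElt_injective f hf (congrArg Subtype.val h),
    fun g => mem_unip_iff f hf hK' g, fun g => mem_tor_iff f hf hK' g,
    fun φ t u v => Subtype.ext (mapGL_reeElt φ.toRingHom (t, u, v)),
    fun φ s => Subtype.ext (mapGL_torG2Hom φ.toRingHom s), fun φ => Subtype.ext ?_⟩⟩
  show mapGL chevG2 φ.toRingHom ((D.n : ↥(endoG2 f).fix) : GL chevG2.Idx K) = _
  rw [show ((D.n : ↥(endoG2 f).fix) : GL chevG2.Idx K) = n0G2 K from coe_bR_n0 f hf hK', n0G2,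
    certG2.nW_map]

theorem natCard_out_ree {K : Type u} [Field K] [Fintype K] {m : ℕ} (hm : 1 ≤ m)
    (hK : Fintype.card K = 3 ^ (2 * m + 1)) :
    Nat.card (Cfsg.Out ↥(Cfsg.Lie.twistedG2 K (3 ^ m))) = 2 * m + 1 := by
  classical
  have := CfsgLib.Chev.charThree_G2 hK
  obtain ⟨f, hf, hK'⟩ := CfsgLib.Chev.setupG2 hK
  rw [← CfsgLib.Chev.fix_eq_twistedG2 f hf hK']
  obtain ⟨fa, C⟩ := exists_coordinates hm hK f hf hK'
  exact C.natCard_out

end CfsgLib.Ree
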