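import Mathlib

/-!
An axiomatic description of a group of Ree type, and the structure of its Borel subgroup and torus.
-/

set_option autoImplicit false
set_option linter.unusedSectionVars false

namespace CfsgLib.Ree

/-- The facts about a small Ree group from which its local structure is derived. -/
structure ReeData (G : Type*) [Group G] where
  /-- the order of the field -/
  q : ℕ
  /-- the Borel subgroup -/
  B : Subgroup G
  /-- the unipotent radical -/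
  U : Subgroup G
  /-- the split torus -/
  T : Subgroup G
  /-- the torus of order a quarter of `q + 1` -/
  Y : Subgroup G
  /-- the element exchanging the two points -/
  n : G
  /-- the involution of the torus -/
  a : G
  /-- an involution commuting with `a` -/
  b : G
  /-- an involution inverting `Y` -/
  j : G
  /-- a Sylow 2-subgroup -/
  S0 : Sylow 2 G
  q_mod : q % 8 = 3
  q_pow : ∃ k, q = 3 ^ k
  q_ge : 27 ≤ q
  card_G : Nat.card G = q ^ 3 * (q - 1) * (q ^ 3 + 1)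
  card_U : Nat.card U = q ^ 3
  T_cyclic : IsCyclic T
  card_T : Nat.card T = q - 1
  T_norm : ∀ t ∈ T, ∀ x ∈ U, t * x * t⁻¹ ∈ U
  mem_B : ∀ g, g ∈ B ↔ ∃ x ∈ U, ∃ t ∈ T, g = x * t
  UT : U ⊓ T = ⊥
  cells : ∀ g, g ∈ B ∨ ∃ c ∈ B, ∃ u ∈ U, g = c * n * u
  free : ∀ x ∈ U, ∀ t ∈ T, n⁻¹ * (x * t) * n ∈ B → x = 1
  n_inv : ∀ t ∈ T, n * t * n⁻¹ = t⁻¹
  n_sq : n * n = 1
  fpf : ∀ v ∈ T, v * v ≠ 1 → ∀ x ∈ U, v * x = x * v → x = 1
  a_mem : a ∈ T
  a_ne : a ≠ 1
  a_sq : a * a = 1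
  card_CUa : Nat.card ↥(U ⊓ Subgroup.centralizer {a}) = q
  card_Ca : Nat.card ↥(Subgroup.centralizer {a}) = q * (q ^ 2 - 1)
  a_mem_S : a ∈ (S0 : Subgroup G)
  b_mem_S : b ∈ (S0 : Subgroup G)
  b_ne : b ≠ 1
  b_ne_a : b ≠ a
  S_sq : ∀ x ∈ (S0 : Subgroup G), x * x = 1
  card_S : Nat.card (S0 : Subgroup G) = 8
  card_NS : Nat.card ↥(Subgroup.normalizer ((S0 : Subgroup G) : Set G)) = 168
  card_NSa : Nat.card ↥(Subgroup.normalizer ((S0 : Subgroup G) : Set G) ⊓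
    Subgroup.centralizer {a}) = 24
  cent_S : Subgroup.centralizer ((S0 : Subgroup G) : Set G) = (S0 : Subgroup G)
  card_CV : Nat.card ↥(Subgroup.centralizer {a} ⊓ Subgroup.centralizer {b}) = 2 * (q + 1)
  Y_cyclic : IsCyclic Y
  card_Y : 4 * Nat.card Y = q + 1
  Y_le : Y ≤ Subgroup.centralizer {a} ⊓ Subgroup.centralizer {b}
  j_mem : j ∈ Subgroup.centralizer {a} ⊓ Subgroup.centralizer {b}
  j_sq : j * j = 1
  j_inv : ∀ y ∈ Y, j * y * j⁻¹ = y⁻¹
  cent_aY : ∀ y ∈ Y, y ≠ 1 → ∀ x : G, a * x = x * a → y * x = x * y → Odd (orderOf x) → x ∈ Y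
  card_U_cube : {x : G | x ∈ U ∧ x ^ 3 = 1}.ncard = q ^ 2
  U_nine : ∀ x ∈ U, x ^ 9 = 1
  CUa_cube : ∀ x ∈ U, a * x = x * a → x ^ 3 = 1
  sylow_cyclic : ∀ p : ℕ, p.Prime → p ∣ q ^ 2 - q + 1 → ∀ P : Sylow p G,
    IsCyclic ↥(P : Subgroup G)
  autom : ∀ p : ℕ, p.Prime → p ∣ q ^ 2 - q + 1 → ∀ x g : G, orderOf x = p →
    ∀ i : ℕ, g * x * g⁻¹ = x ^ i → i ^ 6 ≡ 1 [MOD p]

namespace ReeData

variable {G : Type*} [Group G] (D : ReeData G)

lemma U_le_B : D.U ≤ D.B := fun x hx => (D.mem_B x).2 ⟨x, hx, 1, one_mem _, (mul_one x).symm⟩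

lemma T_le_B : D.T ≤ D.B := fun t ht => (D.mem_B t).2 ⟨1, one_mem _, t, ht, (one_mul t).symm⟩

lemma a_mem_B : D.a ∈ D.B := D.T_le_B D.a_mem

lemma T_comm {s t : G} (hs : s ∈ D.T) (ht : t ∈ D.T) : s * t = t * s := by
  have := D.T_cyclic
  obtain ⟨g, hg⟩ := IsCyclic.exists_generator (α := D.T)
  obtain ⟨i, hi⟩ := Subgroup.mem_zpowers_iff.1 (hg ⟨s, hs⟩)
  obtain ⟨k, hk⟩ := Subgroup.mem_zpowers_iff.1 (hg ⟨t, ht⟩)
  exact congrArg Subtype.val (show (⟨s, hs⟩ : D.T) * ⟨t, ht⟩ = ⟨t, ht⟩ * ⟨s, hs⟩ by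
    rw [← hi, ← hk, ← zpow_add, ← zpow_add, add_comm])

lemma eq_of_UT {x x' t t' : G} (hx : x ∈ D.U) (hx' : x' ∈ D.U) (ht : t ∈ D.T) (ht' : t' ∈ D.T)
    (h : x * t = x' * t') : x = x' ∧ t = t' := by
  have h1 : x'⁻¹ * x = t' * t⁻¹ := by
    rw [eq_mul_inv_iff_mul_eq, mul_assoc, h, inv_mul_cancel_left]
  have hm : x'⁻¹ * x ∈ D.U ⊓ D.T :=
    Subgroup.mem_inf.2 ⟨mul_mem (inv_mem hx') hx, h1 ▸ mul_mem ht' (inv_mem ht)⟩
  rw [D.UT, Subgroup.mem_bot] at hm
  have e : x = x' := (inv_mul_eq_one.1 hm).symm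
  exact ⟨e, mul_left_cancel (e ▸ h)⟩

lemma B_conj_U {c : G} (hc : c ∈ D.B) {x : G} (hx : x ∈ D.U) : c * x * c⁻¹ ∈ D.U := by
  obtain ⟨y, hy, t, ht, rfl⟩ := (D.mem_B c).1 hc
  rw [show y * t * x * (y * t)⁻¹ = y * (t * x * t⁻¹) * y⁻¹ by group]
  exact mul_mem (mul_mem hy (D.T_norm t ht x hx)) (inv_mem hy)

lemma B_inv_conj_U {c : G} (hc : c ∈ D.B) {x : G} (hx : x ∈ D.U) : c⁻¹ * x * c ∈ D.U := by
  simpa using D.B_conj_U (inv_mem hc) hx

/-- The product decomposition of the Borel subgroup. -/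
noncomputable def equivB : D.U × D.T ≃ D.B :=
  Equiv.ofBijective (fun p => ⟨p.1.1 * p.2.1, (D.mem_B _).2 ⟨_, p.1.2, _, p.2.2, rfl⟩⟩) <| by
    constructor
    · rintro ⟨⟨x, hx⟩, ⟨t, ht⟩⟩ ⟨⟨x', hx'⟩, ⟨t', ht'⟩⟩ h
      obtain ⟨rfl, rfl⟩ := D.eq_of_UT hx hx' ht ht' (congrArg Subtype.val h)
      rfl
    · rintro ⟨g, hg⟩
      obtain ⟨x, hx, t, ht, rfl⟩ := (D.mem_B g).1 hg
      exact ⟨(⟨x, hx⟩, ⟨t, ht⟩), rfl⟩

lemma card_B : Nat.card D.B = D.q ^ 3 * (D.q - 1) := by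
  rw [← Nat.card_congr D.equivB, Nat.card_prod, D.card_U, D.card_T]

lemma n_inv_eq : D.n⁻¹ = D.n := inv_eq_of_mul_eq_one_right D.n_sq

lemma n_conj {t : G} (ht : t ∈ D.T) : D.n⁻¹ * t * D.n = t⁻¹ := by
  have h := D.n_inv t ht
  rw [D.n_inv_eq] at h ⊢
  exact h

variable [Finite G]

lemma three_dvd_q : 3 ∣ D.q := by
  obtain ⟨k, hk⟩ := D.q_pow
  have := D.q_ge
  rcases k with _ | k
  · rw [pow_zero] at hk; omega
  · exact ⟨3 ^ k, by rw [hk, pow_succ, mul_comm]⟩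

lemma exists_U_ne_one : ∃ x ∈ D.U, x ≠ 1 := by
  by_contra h
  push Not at h
  have : D.U = ⊥ := (Subgroup.eq_bot_iff_forall _).2 h
  have h1 := D.card_U
  rw [this, Subgroup.card_bot] at h1
  have := D.q_ge
  have := Nat.le_self_pow (show 3 ≠ 0 by norm_num) D.q
  omega

lemma n_not_mem_B : D.n ∉ D.B := fun h => by
  obtain ⟨x, hx, hne⟩ := D.exists_U_ne_one
  exact hne (D.free x hx 1 (one_mem _)
    (mul_mem (mul_mem (inv_mem h) (mul_mem (D.U_le_B hx) (one_mem _))) h))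

/-- Uniqueness in the large cell. -/
lemma cell_unique {x x' t t' y y' : G} (hx : x ∈ D.U) (hx' : x' ∈ D.U) (ht : t ∈ D.T)
    (ht' : t' ∈ D.T) (hy : y ∈ D.U) (hy' : y' ∈ D.U)
    (h : x * t * D.n * y = x' * t' * D.n * y') : x = x' ∧ t = t' ∧ y = y' := by
  have hw : t'⁻¹ * (x'⁻¹ * x) * t' ∈ D.U :=
    D.B_inv_conj_U (D.T_le_B ht') (mul_mem (inv_mem hx') hx)
  have h1 : D.n⁻¹ * ((t'⁻¹ * (x'⁻¹ * x) * t') * (t'⁻¹ * t)) * D.n = y' * y⁻¹ := by
    rw [eq_mul_inv_iff_mul_eq]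
    calc _ = D.n⁻¹ * t'⁻¹ * x'⁻¹ * (x * t * D.n * y) := by group
      _ = _ := by rw [h]; group
  have h2 := D.free _ hw _ (mul_mem (inv_mem ht') ht)
    (h1 ▸ D.U_le_B (mul_mem hy' (inv_mem hy)))
  have hxx : x = x' := by
    rw [← eq_comm, ← inv_mul_eq_one]
    calc x'⁻¹ * x = t' * (t'⁻¹ * (x'⁻¹ * x) * t') * t'⁻¹ := by group
      _ = 1 := by rw [h2, mul_one, mul_inv_cancel]
  rw [h2, one_mul, D.n_conj (mul_mem (inv_mem ht') ht)] at h1
  have hm : y' * y⁻¹ ∈ D.U ⊓ D.T :=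
    Subgroup.mem_inf.2 ⟨mul_mem hy' (inv_mem hy), h1 ▸ inv_mem (mul_mem (inv_mem ht') ht)⟩
  rw [D.UT, Subgroup.mem_bot] at hm
  have hyy : y = y' := (mul_inv_eq_one.1 hm).symm
  subst hxx hyy
  exact ⟨rfl, mul_left_cancel (mul_right_cancel (mul_right_cancel h)), rfl⟩

/-- The unipotent radical is a TI subgroup. -/
lemma ti {g x : G} (hx : x ∈ D.U) (hxg : g⁻¹ * x * g ∈ D.U) : x = 1 ∨ g ∈ D.B := by
  rcases D.cells g with hB | ⟨c, hc, u, hu, rfl⟩
  · exact Or.inr hB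
  left
  have h1 := D.free _ (D.B_inv_conj_U hc hx) 1 (one_mem _) (by
    rw [mul_one, show D.n⁻¹ * (c⁻¹ * x * c) * D.n =
      u * ((c * D.n * u)⁻¹ * x * (c * D.n * u)) * u⁻¹ by group]
    exact D.U_le_B (mul_mem (mul_mem hu hxg) (inv_mem hu)))
  calc x = c * (c⁻¹ * x * c) * c⁻¹ := by group
    _ = 1 := by rw [h1]; group

lemma mem_B_of_conj_mem {g x : G} (hx : x ∈ D.U) (h1 : x ≠ 1) (hxg : g * x * g⁻¹ ∈ D.U) :
    g ∈ D.B := by
  rcases D.ti (g := g⁻¹) hx (by rwa [inv_inv]) with h | h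
  · exact absurd h h1
  · simpa using inv_mem h

lemma centralizer_le_B {x : G} (hx : x ∈ D.U) (h1 : x ≠ 1) :
    Subgroup.centralizer {x} ≤ D.B := fun g hg =>
  D.mem_B_of_conj_mem hx h1 (by
    rw [mul_inv_eq_iff_eq_mul.2 (Subgroup.mem_centralizer_singleton_iff.1 hg)]; exact hx)

lemma normalizer_U : Subgroup.normalizer (D.U : Set G) = D.B := by
  refine le_antisymm (fun g hg => ?_) fun g hg => ?_
  · obtain ⟨x, hx, hne⟩ := D.exists_U_ne_one
    exact D.mem_B_of_conj_mem hx hne ((Subgroup.mem_normalizer_iff.1 hg x).1 hx)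
  · refine Subgroup.mem_normalizer_iff.2 fun x => ⟨D.B_conj_U hg, fun h => ?_⟩
    have := D.B_inv_conj_U hg h
    rwa [show g⁻¹ * (g * x * g⁻¹) * g = x by group] at this

lemma q_facts : 27 ≤ D.q ∧ D.q % 8 = 3 ∧ D.q % 3 = 0 :=
  ⟨D.q_ge, D.q_mod, Nat.mod_eq_zero_of_dvd D.three_dvd_q⟩

lemma card_G_three_part : (Nat.card G).factorization 3 = (D.q ^ 3).factorization 3 := by
  obtain ⟨h1, -, h3⟩ := D.q_facts
  have hq3 : 3 ∣ D.q ^ 3 := dvd_pow D.three_dvd_q (by norm_num)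
  rw [D.card_G, mul_assoc,
    Nat.factorization_mul (by positivity) (mul_ne_zero (by omega) (by omega)), Finsupp.add_apply,
    Nat.factorization_eq_zero_of_not_dvd (n := (D.q - 1) * (D.q ^ 3 + 1)) ?_, add_zero]
  intro h
  rcases (Nat.Prime.dvd_mul Nat.prime_three).1 h with h | h <;> omega

/-- The Sylow 3-subgroup `U`. -/
noncomputable def sylow3 : Sylow 3 G :=
  haveI : Fact (Nat.Prime 3) := ⟨Nat.prime_three⟩
  Sylow.ofCard D.U (by
    obtain ⟨k, hk⟩ := D.q_pow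
    rw [D.card_G_three_part, D.card_U, hk, ← pow_mul, Nat.Prime.factorization_pow Nat.prime_three,
      Finsupp.single_eq_same])

lemma coe_sylow3 : (D.sylow3 : Subgroup G) = D.U := rfl

lemma U_isPGroup : IsPGroup 3 D.U := D.sylow3.isPGroup'

/-- Every 3-element is conjugate into `U`. -/
lemma three_element {g : G} (hg : ∃ k, g ^ 3 ^ k = 1) : ∃ h, h * g * h⁻¹ ∈ D.U := by
  have : Fact (Nat.Prime 3) := ⟨Nat.prime_three⟩
  have hP : IsPGroup 3 (Subgroup.zpowers g) := by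
    rintro ⟨x, i, rfl⟩
    obtain ⟨k, hk⟩ := hg
    exact ⟨k, Subtype.ext (by
      show (g ^ i) ^ 3 ^ k = 1
      rw [← zpow_natCast, zpow_comm, zpow_natCast, hk, one_zpow])⟩
  obtain ⟨P, hP'⟩ := hP.exists_le_sylow
  obtain ⟨h, hh⟩ := MulAction.exists_smul_eq G P D.sylow3
  refine ⟨h, ?_⟩
  rw [← D.coe_sylow3, ← hh]
  exact Subgroup.smul_mem_pointwise_smul g (MulAut.conj h) _ (hP' (Subgroup.mem_zpowers g))

/-- The three-elements of the Borel subgroup lie in `U`. -/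
lemma mem_U_of_three {g : G} (hg : g ∈ D.B) {k : ℕ} (hk : g ^ 3 ^ k = 1) : g ∈ D.U := by
  obtain ⟨x, hx, t, ht, rfl⟩ := (D.mem_B g).1 hg
  have hpow : ∀ i : ℕ, ∃ x' ∈ D.U, (x * t) ^ i = x' * t ^ i := by
    intro i
    induction i with
    | zero => exact ⟨1, one_mem _, by simp⟩
    | succ i ih =>
      obtain ⟨x', hx', e⟩ := ih
      refine ⟨x' * (t ^ i * x * (t ^ i)⁻¹), mul_mem hx' (D.T_norm _ (pow_mem ht i) x hx), ?_⟩
      rw [pow_succ, e, pow_succ]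
      group
  obtain ⟨x', hx', e⟩ := hpow (3 ^ k)
  rw [hk] at e
  obtain ⟨-, h2⟩ := D.eq_of_UT (one_mem _) hx' (one_mem _) (pow_mem ht _) (by rw [one_mul]; exact e)
  have hcop : Nat.Coprime (3 ^ k) (Nat.card D.T) := by
    refine Nat.Coprime.pow_left _ ((Nat.Prime.coprime_iff_not_dvd Nat.prime_three).2 ?_)
    rw [D.card_T]
    obtain ⟨h1, -, h3⟩ := D.q_facts
    omega
  have h4 : (⟨t, ht⟩ : D.T) = 1 := by
    rw [← orderOf_eq_one_iff]
    exact Nat.eq_one_of_dvd_coprimes hcop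
      (orderOf_dvd_of_pow_eq_one (Subtype.ext h2.symm)) (orderOf_dvd_natCard _)
  rw [show t = 1 from congrArg Subtype.val h4, mul_one]
  exact hx

/-- The only involution of the torus. -/
lemma sq_T {t : G} (ht : t ∈ D.T) (h : t * t = 1) : t = 1 ∨ t = D.a := by
  by_contra hne
  push Not at hne
  classical
  have := D.T_cyclic
  let _ : Fintype D.T := Fintype.ofFinite D.T
  have hs := IsCyclic.card_pow_eq_one_le (α := D.T) (n := 2) two_pos
  have hsub : ({1, ⟨t, ht⟩, ⟨D.a, D.a_mem⟩} : Finset D.T) ⊆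
      Finset.univ.filter (fun x : D.T => x ^ 2 = 1) := by
    intro x hx
    simp only [Finset.mem_insert, Finset.mem_singleton] at hx
    rw [Finset.mem_filter]
    refine ⟨Finset.mem_univ _, Subtype.ext ?_⟩
    rcases hx with rfl | rfl | rfl
    · simp
    · simpa [pow_two] using h
    · simpa [pow_two] using D.a_sq
  have hc : ({1, ⟨t, ht⟩, ⟨D.a, D.a_mem⟩} : Finset D.T).card = 3 := by
    rw [Finset.card_insert_of_notMem, Finset.card_insert_of_notMem, Finset.card_singleton]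
    · simpa using hne.2
    · simp only [Finset.mem_insert, Finset.mem_singleton, not_or]
      exact ⟨fun e => hne.1 (congrArg Subtype.val e).symm,
        fun e => D.a_ne (congrArg Subtype.val e).symm⟩
  have h1 := Finset.card_le_card hsub
  have h2 : (Finset.univ.filter (fun x : D.T => x ^ 2 = 1)).card ≤ 2 := by simpa using hs
  omega

lemma sq_ne_one_T {t : G} (ht : t ∈ D.T) (h1 : t ≠ 1) (ha : t ≠ D.a) : t * t ≠ 1 :=
  fun h => (D.sq_T ht h).elim h1 ha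

/-- The centralizer of a regular torus element. -/
lemma centralizer_regular {v : G} (hv : v ∈ D.T) (h2 : v * v ≠ 1) :
    Subgroup.centralizer {v} = D.T := by
  refine le_antisymm (fun g hg => ?_) fun t ht =>
    Subgroup.mem_centralizer_singleton_iff.2 (D.T_comm ht hv)
  have hc := Subgroup.mem_centralizer_singleton_iff.1 hg
  rcases D.cells g with hB | ⟨c, hcB, y, hy, e⟩
  · obtain ⟨x, hx, t, ht, rfl⟩ := (D.mem_B g).1 hB
    have h1 : v * x = x * v := by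
      rw [mul_assoc, D.T_comm ht hv, ← mul_assoc, ← mul_assoc] at hc
      exact (mul_right_cancel hc).symm
    rw [D.fpf v hv h2 x hx h1, one_mul]
    exact ht
  · exfalso
    obtain ⟨x, hx, t, ht, rfl⟩ := (D.mem_B c).1 hcB
    subst e
    have e1 : v * (x * t * D.n * y) = (v * x * v⁻¹) * (v * t) * D.n * y := by group
    have e2 : x * t * D.n * y * v = x * (t * v⁻¹) * D.n * (v⁻¹ * y * v) := by
      have h3 : D.n * v = v⁻¹ * D.n := by rw [← mul_inv_eq_iff_eq_mul]; exact D.n_inv v hv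
      calc _ = x * t * (D.n * v) * (v⁻¹ * y * v) := by group
        _ = _ := by rw [h3]; group
    rw [e1, e2] at hc
    obtain ⟨-, h4, -⟩ := D.cell_unique hx (D.T_norm v hv x hx) (mul_mem ht (inv_mem hv))
      (mul_mem hv ht) (D.B_inv_conj_U (D.T_le_B hv) hy) hy hc
    rw [D.T_comm hv ht] at h4
    exact h2 (by rw [← eq_inv_iff_mul_eq_one]; exact (mul_left_cancel h4).symm)

lemma n_mem_normalizer_T : D.n ∈ Subgroup.normalizer (D.T : Set G) := by
  refine Subgroup.mem_normalizer_fintype fun t ht => ?_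
  rw [SetLike.mem_coe, D.n_inv t ht]
  exact inv_mem ht

/-- An element moving a regular torus element into the torus. -/
lemma conj_regular {g v : G} (hv : v ∈ D.T) (h2 : v * v ≠ 1) (hg : g * v * g⁻¹ ∈ D.T) :
    g ∈ D.T ∨ g * D.n ∈ D.T := by
  set w := g * v * g⁻¹ with hw
  have h2w : w * w ≠ 1 := fun h => h2 (by
    rw [hw, show g * v * g⁻¹ * (g * v * g⁻¹) = g * (v * v) * g⁻¹ by group, conj_eq_one_iff] at h
    exact h)
  have hc : g * v = w * g := by rw [hw]; group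
  rcases D.cells g with hB | ⟨c, hcB, y, hy, e⟩
  · left
    obtain ⟨x, hx, t, ht, rfl⟩ := (D.mem_B g).1 hB
    have h1 : x * (v * t) = (w * x * w⁻¹) * (w * t) := by
      rw [← D.T_comm ht hv, ← mul_assoc, hc]; group
    obtain ⟨h3, h4⟩ :=
      D.eq_of_UT hx (D.T_norm w hg x hx) (mul_mem hv ht) (mul_mem hg ht) h1
    rw [D.fpf w hg h2w x hx (mul_inv_eq_iff_eq_mul.1 h3.symm), one_mul]
    exact ht
  · right
    obtain ⟨x, hx, t, ht, rfl⟩ := (D.mem_B c).1 hcB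
    have e1 : w * (x * t * D.n * y) = (w * x * w⁻¹) * (w * t) * D.n * y := by group
    have e2 : x * t * D.n * y * v = x * (t * v⁻¹) * D.n * (v⁻¹ * y * v) := by
      have h3 : D.n * v = v⁻¹ * D.n := by rw [← mul_inv_eq_iff_eq_mul]; exact D.n_inv v hv
      calc _ = x * t * (D.n * v) * (v⁻¹ * y * v) := by group
        _ = _ := by rw [h3]; group
    rw [e, e1, e2] at hc
    obtain ⟨h5, -, h6⟩ := D.cell_unique hx (D.T_norm w hg x hx) (mul_mem ht (inv_mem hv))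
      (mul_mem hg ht) (D.B_inv_conj_U (D.T_le_B hv) hy) hy hc
    have hx1 := D.fpf w hg h2w x hx (mul_inv_eq_iff_eq_mul.1 h5.symm)
    have hy1 := D.fpf v hv h2 y hy (by
      rw [eq_comm, ← inv_mul_eq_iff_eq_mul, ← mul_assoc]
      exact h6)
    rw [e, hx1, hy1, one_mul, mul_one, mul_assoc, D.n_sq, mul_one]
    exact ht

lemma mem_normalizer_T {g : G} :
    g ∈ Subgroup.normalizer (D.T : Set G) ↔ g ∈ D.T ∨ g * D.n ∈ D.T := by
  constructor
  · intro hg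
    obtain ⟨v, hv, hv2⟩ : ∃ v ∈ D.T, v * v ≠ 1 := by
      by_contra h
      push Not at h
      classical
      have hsub : (D.T : Set G) ⊆ ({1, D.a} : Set G) := fun t ht =>
        (D.sq_T ht (h t ht)).elim (fun e => Or.inl e) (fun e => Or.inr e)
      have h1 := Set.ncard_le_ncard hsub (Set.toFinite _)
      rw [← Nat.card_coe_set_eq] at h1
      have h2 : Nat.card D.T = D.q - 1 := D.card_T
      have h3 : ({1, D.a} : Set G).ncard ≤ 2 :=
        (Set.ncard_insert_le _ _).trans (by rw [Set.ncard_singleton])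
      have := D.q_ge
      change Nat.card D.T ≤ _ at h1
      omega
    exact D.conj_regular hv hv2 ((Subgroup.mem_normalizer_iff.1 hg v).1 hv)
  · rintro (h | h)
    · exact Subgroup.le_normalizer h
    · have := mul_mem (Subgroup.le_normalizer h) D.n_mem_normalizer_T
      rwa [mul_assoc, D.n_sq, mul_one] at this

lemma card_normalizer_T :
    Nat.card ↥(Subgroup.normalizer (D.T : Set G)) = 2 * (D.q - 1) := by
  classical
  have he : (Subgroup.normalizer (D.T : Set G) : Set G) =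
      (D.T : Set G) ∪ (· * D.n) '' (D.T : Set G) := by
    ext g
    rw [SetLike.mem_coe, D.mem_normalizer_T, Set.mem_union, Set.mem_image]
    refine or_congr Iff.rfl ⟨fun h => ⟨g * D.n, h, ?_⟩, ?_⟩
    · rw [mul_assoc, D.n_sq, mul_one]
    · rintro ⟨t, ht, rfl⟩
      rwa [mul_assoc, D.n_sq, mul_one]
  have hd : Disjoint (D.T : Set G) ((· * D.n) '' (D.T : Set G)) := by
    rw [Set.disjoint_left]
    rintro g hg ⟨t, ht, rfl⟩
    exact D.n_not_mem_B (D.T_le_B (by simpa using mul_mem (inv_mem ht) hg))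
  calc Nat.card ↥(Subgroup.normalizer (D.T : Set G))
      = (Subgroup.normalizer (D.T : Set G) : Set G).ncard := Nat.card_coe_set_eq _
    _ = _ := by
      rw [he, Set.ncard_union_eq hd, Set.ncard_image_of_injective _ (mul_left_injective _),
        ← Nat.card_coe_set_eq]
      show Nat.card D.T + Nat.card D.T = _
      rw [D.card_T, two_mul]

end ReeData

end CfsgLib.Ree
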