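import Cfsg.Agent.Lib.Ree.Data
import Cfsg.Agent.Lib.Coprime.Generation

/-!
The involutions, the four groups and the tori of order `(q + 1) / 4` of a group of Ree type.
-/

set_option autoImplicit false
set_option linter.unusedSectionVars false

namespace CfsgLib.Ree

variable {G : Type*} [Group G]

/-- Simultaneous conjugation of a pair. -/
def conjPair (g : G) (p : G × G) : G × G := (g * p.1 * g⁻¹, g * p.2 * g⁻¹)

lemma conjPair_mul (g h : G) (p : G × G) : conjPair (g * h) p = conjPair g (conjPair h p) :=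
  Prod.ext (by simp [conjPair, mul_assoc]) (by simp [conjPair, mul_assoc])

lemma conjPair_one (p : G × G) : conjPair 1 p = p := Prod.ext (by simp [conjPair]) (by simp [conjPair])

/-- Counting the conjugates of a set of pairs permuted only by its stabilizer. -/
theorem card_conj_pairs [Finite G] (E : Set (G × G)) (N : Subgroup G)
    (hN : ∀ g ∈ N, ∀ p ∈ E, conjPair g p ∈ E)
    (hTI : ∀ g : G, ∀ p ∈ E, conjPair g p ∈ E → g ∈ N) :
    Nat.card {p : G × G // ∃ g, conjPair g p ∈ E} * Nat.card N = Nat.card G * Nat.card E := by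
  classical
  set S := {p : G × G // ∃ g, conjPair g p ∈ E}
  let c : S → G := fun p => p.2.choose
  have hc : ∀ p : S, conjPair (c p) p.1 ∈ E := fun p => p.2.choose_spec
  rw [← Nat.card_prod, ← Nat.card_prod]
  refine Nat.card_congr (Equiv.ofBijective (fun x : S × N =>
    ((x.2.1 * c x.1, ⟨conjPair (x.2.1 * c x.1) x.1.1, by
      rw [conjPair_mul]; exact hN _ x.2.2 _ (hc x.1)⟩) : G × E)) ⟨?_, ?_⟩)
  · rintro ⟨p, k⟩ ⟨p', k'⟩ h
    simp only [Prod.mk.injEq, Subtype.mk.injEq] at h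
    obtain ⟨h1, h2⟩ := h
    rw [← h1] at h2
    have e : p = p' := Subtype.ext <| by
      have := congrArg (conjPair (k.1 * c p)⁻¹) h2
      rwa [← conjPair_mul, ← conjPair_mul, inv_mul_cancel, conjPair_one, conjPair_one] at this
    subst e
    exact Prod.ext rfl (Subtype.ext (mul_right_cancel h1))
  · rintro ⟨g, e, he⟩
    have hp : ∃ x, conjPair x (conjPair g⁻¹ e) ∈ E :=
      ⟨g, by rwa [← conjPair_mul, mul_inv_cancel, conjPair_one]⟩
    let p : S := ⟨conjPair g⁻¹ e, hp⟩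
    have hk : g * (c p)⁻¹ ∈ N := hTI _ _ (hc p) (by
      rwa [← conjPair_mul, inv_mul_cancel_right, ← conjPair_mul, mul_inv_cancel, conjPair_one])
    refine ⟨(p, ⟨_, hk⟩), ?_⟩
    simp only [Prod.mk.injEq, Subtype.mk.injEq, inv_mul_cancel_right, true_and]
    show conjPair g (conjPair g⁻¹ e) = e
    rw [← conjPair_mul, mul_inv_cancel, conjPair_one]

namespace ReeData

variable (D : ReeData G)

lemma ab_comm : D.a * D.b = D.b * D.a := by
  have h1 := D.S_sq _ (mul_mem D.a_mem_S D.b_mem_S)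
  have h2 := D.S_sq _ D.b_mem_S
  calc D.a * D.b = (D.a * D.b)⁻¹ := (inv_eq_of_mul_eq_one_right h1).symm
    _ = D.b * D.a := by
      rw [mul_inv_rev, inv_eq_of_mul_eq_one_right h2, inv_eq_of_mul_eq_one_right D.a_sq]

lemma b_sq : D.b * D.b = 1 := D.S_sq _ D.b_mem_S

lemma ab_ne : D.a * D.b ≠ 1 ∧ D.a * D.b ≠ D.a ∧ D.a * D.b ≠ D.b := by
  refine ⟨fun h => D.b_ne_a ?_, fun h => D.b_ne (mul_eq_left.1 h), fun h => D.a_ne (mul_eq_right.1 h)⟩
  rw [← inv_eq_of_mul_eq_one_right h, inv_eq_of_mul_eq_one_right D.a_sq]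

/-- The four group. -/
def V : Subgroup G where
  carrier := {x | x = 1 ∨ x = D.a ∨ x = D.b ∨ x = D.a * D.b}
  one_mem' := Or.inl rfl
  inv_mem' := fun {x} hx => by
    rcases hx with rfl | rfl | rfl | rfl
    · exact Or.inl inv_one
    · exact Or.inr (Or.inl (inv_eq_of_mul_eq_one_right D.a_sq))
    · exact Or.inr (Or.inr (Or.inl (inv_eq_of_mul_eq_one_right D.b_sq)))
    · exact Or.inr (Or.inr (Or.inr (inv_eq_of_mul_eq_one_right
        (D.S_sq _ (mul_mem D.a_mem_S D.b_mem_S)))))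
  mul_mem' := fun {x y} hx hy => by
    have e1 : D.b * D.a = D.a * D.b := D.ab_comm.symm
    have e2 : D.a * (D.a * D.b) = D.b := by rw [← mul_assoc, D.a_sq, one_mul]
    have e3 : D.b * (D.a * D.b) = D.a := by rw [← mul_assoc, e1, mul_assoc, D.b_sq, mul_one]
    have e4 : D.a * D.b * D.a = D.b := by rw [mul_assoc, e1, e2]
    have e5 : D.a * D.b * D.b = D.a := by rw [mul_assoc, D.b_sq, mul_one]
    have e6 := D.S_sq _ (mul_mem D.a_mem_S D.b_mem_S)
    simp only [Set.mem_ofPred_eq] at hx hy ⊢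
    rcases hx with rfl | rfl | rfl | rfl <;> rcases hy with rfl | rfl | rfl | rfl <;>
      simp [D.a_sq, D.b_sq, e1, e2, e3, e4, e5, e6]

lemma mem_V {x : G} : x ∈ D.V ↔ x = 1 ∨ x = D.a ∨ x = D.b ∨ x = D.a * D.b := Iff.rfl

lemma a_mem_V : D.a ∈ D.V := Or.inr (Or.inl rfl)

lemma b_mem_V : D.b ∈ D.V := Or.inr (Or.inr (Or.inl rfl))

lemma V_le_S : D.V ≤ (D.S0 : Subgroup G) := by
  rintro x (rfl | rfl | rfl | rfl)
  · exact one_mem _
  · exact D.a_mem_S
  · exact D.b_mem_S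
  · exact mul_mem D.a_mem_S D.b_mem_S

lemma V_sq {x : G} (hx : x ∈ D.V) : x * x = 1 := D.S_sq x (D.V_le_S hx)

lemma card_V : Nat.card D.V = 4 := by
  obtain ⟨h1, h2, h3⟩ := D.ab_ne
  classical
  have : (D.V : Set G) = ({1, D.a, D.b, D.a * D.b} : Finset G) := by
    ext x; simp [mem_V]
  calc Nat.card D.V = (D.V : Set G).ncard := Nat.card_coe_set_eq _
    _ = _ := by
      rw [this, Set.ncard_coe_finset, Finset.card_insert_of_notMem, Finset.card_insert_of_notMem,
        Finset.card_insert_of_notMem, Finset.card_singleton]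
      all_goals simp [Ne.symm h1, Ne.symm h2, Ne.symm h3, Ne.symm D.a_ne, Ne.symm D.b_ne,
        Ne.symm D.b_ne_a]

lemma centralizer_V : Subgroup.centralizer (D.V : Set G) =
    Subgroup.centralizer {D.a} ⊓ Subgroup.centralizer {D.b} := by
  ext g
  rw [Subgroup.mem_inf, Subgroup.mem_centralizer_singleton_iff,
    Subgroup.mem_centralizer_singleton_iff, Subgroup.mem_centralizer_iff]
  refine ⟨fun h => ⟨(h _ D.a_mem_V).symm, (h _ D.b_mem_V).symm⟩, ?_⟩
  rintro ⟨ha, hb⟩ x (rfl | rfl | rfl | rfl)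
  · simp
  · exact ha.symm
  · exact hb.symm
  · exact ((Commute.mul_right (ha : Commute g D.a) hb).eq).symm

lemma Y_comm {x y : G} (hx : x ∈ D.Y) (hy : y ∈ D.Y) : x * y = y * x := by
  have := D.Y_cyclic
  obtain ⟨g, hg⟩ := IsCyclic.exists_generator (α := D.Y)
  obtain ⟨i, hi⟩ := Subgroup.mem_zpowers_iff.1 (hg ⟨x, hx⟩)
  obtain ⟨k, hk⟩ := Subgroup.mem_zpowers_iff.1 (hg ⟨y, hy⟩)
  exact congrArg Subtype.val (show (⟨x, hx⟩ : D.Y) * ⟨y, hy⟩ = ⟨y, hy⟩ * ⟨x, hx⟩ by
    rw [← hi, ← hk, ← zpow_add, ← zpow_add, add_comm])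

lemma V_comm_CV {v g : G} (hv : v ∈ D.V) (hg : g ∈ Subgroup.centralizer {D.a} ⊓
    Subgroup.centralizer {D.b}) : v * g = g * v :=
  Subgroup.mem_centralizer_iff.1 (D.centralizer_V.ge hg) v hv

lemma VY_comm {v y : G} (hv : v ∈ D.V) (hy : y ∈ D.Y) : v * y = y * v := D.V_comm_CV hv (D.Y_le hy)

/-- The abelian group of order `q + 1`. -/
def VY : Subgroup G where
  carrier := {x | ∃ v ∈ D.V, ∃ y ∈ D.Y, x = v * y}
  one_mem' := ⟨1, one_mem _, 1, one_mem _, (one_mul 1).symm⟩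
  inv_mem' := by
    rintro _ ⟨v, hv, y, hy, rfl⟩
    exact ⟨v⁻¹, inv_mem hv, y⁻¹, inv_mem hy, by
      rw [mul_inv_rev, D.VY_comm (inv_mem hv) (inv_mem hy)]⟩
  mul_mem' := by
    rintro _ _ ⟨v, hv, y, hy, rfl⟩ ⟨v', hv', y', hy', rfl⟩
    exact ⟨v * v', mul_mem hv hv', y * y', mul_mem hy hy', by
      rw [mul_assoc, ← mul_assoc y, ← D.VY_comm hv' hy]; simp [mul_assoc]⟩

lemma mem_VY {x : G} : x ∈ D.VY ↔ ∃ v ∈ D.V, ∃ y ∈ D.Y, x = v * y := Iff.rfl

lemma V_le_VY : D.V ≤ D.VY := fun v hv => ⟨v, hv, 1, one_mem _, (mul_one v).symm⟩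

lemma Y_le_VY : D.Y ≤ D.VY := fun y hy => ⟨1, one_mem _, y, hy, (one_mul y).symm⟩

lemma V_comm {u w : G} (hu : u ∈ D.V) (hw : w ∈ D.V) : u * w = w * u := by
  have h1 := D.V_sq (mul_mem hu hw)
  calc u * w = (u * w)⁻¹ := (inv_eq_of_mul_eq_one_right h1).symm
    _ = w * u := by
      rw [mul_inv_rev, inv_eq_of_mul_eq_one_right (D.V_sq hu),
        inv_eq_of_mul_eq_one_right (D.V_sq hw)]

lemma VY_abelian {x z : G} (hx : x ∈ D.VY) (hz : z ∈ D.VY) : x * z = z * x := by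
  obtain ⟨v, hv, y, hy, rfl⟩ := hx
  obtain ⟨w, hw, s, hs, rfl⟩ := hz
  have hvw : Commute v w := D.V_comm hv hw
  exact ((hvw.mul_right (D.VY_comm hv hs)).mul_left
    ((Commute.symm (D.VY_comm hw hy)).mul_right (D.Y_comm hy hs))).eq

lemma card_Y_odd [Finite G] : Odd (Nat.card D.Y) ∧ 7 ≤ Nat.card D.Y ∧ ¬ 3 ∣ Nat.card D.Y := by
  obtain ⟨h1, h2, h3⟩ := D.q_facts
  have := D.card_Y
  refine ⟨Nat.odd_iff.2 (by omega), by omega, by omega⟩

lemma Y_odd [Finite G] {y : G} (hy : y ∈ D.Y) : Odd (orderOf y) :=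
  D.card_Y_odd.1.of_dvd_nat (Subgroup.orderOf_dvd_natCard _ hy)

lemma eq_one_of_sq_of_odd {y : G} (h : y * y = 1) (ho : Odd (orderOf y)) : y = 1 := by
  rcases (Nat.dvd_prime Nat.prime_two).1
    (orderOf_dvd_of_pow_eq_one (show y ^ 2 = 1 by rw [pow_two, h])) with h1 | h1
  · exact orderOf_eq_one_iff.1 h1
  · rw [h1] at ho; exact absurd ho (by decide)

variable [Finite G]

lemma Y_sq {y : G} (hy : y ∈ D.Y) (h : y * y = 1) : y = 1 := eq_one_of_sq_of_odd h (D.Y_odd hy)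

lemma VY_unique {v v' y y' : G} (hv : v ∈ D.V) (hv' : v' ∈ D.V) (hy : y ∈ D.Y) (hy' : y' ∈ D.Y)
    (h : v * y = v' * y') : v = v' ∧ y = y' := by
  have h1 : v'⁻¹ * v = y' * y⁻¹ := by
    rw [eq_mul_inv_iff_mul_eq, mul_assoc, h, inv_mul_cancel_left]
  have h2 := D.Y_sq (mul_mem hy' (inv_mem hy)) (by rw [← h1]; exact D.V_sq (mul_mem (inv_mem hv') hv))
  rw [h2] at h1
  exact ⟨(inv_mul_eq_one.1 h1).symm, (mul_inv_eq_one.1 h2).symm⟩

lemma card_VY : Nat.card D.VY = D.q + 1 := by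
  rw [← Nat.card_congr (Equiv.ofBijective (fun p : D.V × D.Y =>
    (⟨p.1.1 * p.2.1, _, p.1.2, _, p.2.2, rfl⟩ : D.VY)) ⟨?_, ?_⟩), Nat.card_prod, D.card_V, D.card_Y]
  · rintro ⟨⟨v, hv⟩, ⟨y, hy⟩⟩ ⟨⟨v', hv'⟩, ⟨y', hy'⟩⟩ h
    obtain ⟨rfl, rfl⟩ := D.VY_unique hv hv' hy hy' (congrArg Subtype.val h)
    rfl
  · rintro ⟨_, v, hv, y, hy, rfl⟩
    exact ⟨(⟨v, hv⟩, ⟨y, hy⟩), rfl⟩

lemma odd_mem_Y {x : G} (hx : x ∈ D.VY) (ho : Odd (orderOf x)) : x ∈ D.Y := by
  obtain ⟨v, hv, y, hy, rfl⟩ := hx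
  obtain ⟨k, hk⟩ := ho
  have h1 : (v * y) ^ (2 * k + 1) = 1 := hk ▸ pow_orderOf_eq_one _
  rw [Commute.mul_pow (D.VY_comm hv hy), pow_succ, pow_mul, pow_two, D.V_sq hv, one_pow,
    one_mul] at h1
  have h2 : v ∈ D.Y := (eq_inv_of_mul_eq_one_left h1) ▸ inv_mem (pow_mem hy _)
  rw [D.Y_sq h2 (D.V_sq hv), one_mul]
  exact hy

lemma exists_Y_ne_one : ∃ y ∈ D.Y, y ≠ 1 := by
  by_contra h
  push Not at h
  have := D.card_Y_odd.2.1
  rw [(Subgroup.eq_bot_iff_forall _).2 h, Subgroup.card_bot] at this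
  omega

lemma j_not_mem_VY : D.j ∉ D.VY := fun h => by
  obtain ⟨y, hy, hne⟩ := D.exists_Y_ne_one
  refine hne (D.Y_sq hy ?_)
  have h1 := D.j_inv y hy
  rw [mul_inv_eq_iff_eq_mul.2 (D.VY_abelian h (D.Y_le_VY hy))] at h1
  nth_rw 2 [h1]
  exact mul_inv_cancel y

lemma VY_le : D.VY ≤ Subgroup.centralizer {D.a} ⊓ Subgroup.centralizer {D.b} := by
  rintro _ ⟨v, hv, y, hy, rfl⟩
  refine mul_mem ?_ (D.Y_le hy)
  rw [Subgroup.mem_inf, Subgroup.mem_centralizer_singleton_iff,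
    Subgroup.mem_centralizer_singleton_iff]
  exact ⟨D.VY_abelian (D.V_le_VY hv) (D.V_le_VY D.a_mem_V),
    D.VY_abelian (D.V_le_VY hv) (D.V_le_VY D.b_mem_V)⟩

/-- The centralizer of the four group. -/
lemma mem_CV {x : G} (hx : x ∈ Subgroup.centralizer {D.a} ⊓ Subgroup.centralizer {D.b}) :
    x ∈ D.VY ∨ x * D.j ∈ D.VY := by
  set H := Subgroup.centralizer {D.a} ⊓ Subgroup.centralizer {D.b}
  have hsub : (D.VY : Set G) ∪ (· * D.j) '' (D.VY : Set G) ⊆ (H : Set G) := by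
    rintro z (hz | ⟨w, hw, rfl⟩)
    · exact D.VY_le hz
    · exact mul_mem (D.VY_le hw) D.j_mem
  have hd : Disjoint (D.VY : Set G) ((· * D.j) '' (D.VY : Set G)) := by
    rw [Set.disjoint_left]
    rintro z hz ⟨w, hw, rfl⟩
    exact D.j_not_mem_VY (by simpa using mul_mem (inv_mem hw) hz)
  have he := Set.eq_of_subset_of_ncard_le hsub (by
    rw [Set.ncard_union_eq hd, Set.ncard_image_of_injective _ (mul_left_injective _),
      ← Nat.card_coe_set_eq, ← Nat.card_coe_set_eq]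
    show Nat.card H ≤ Nat.card D.VY + Nat.card D.VY
    rw [D.card_CV, D.card_VY]; omega) (Set.toFinite _)
  rcases he.ge hx with h | ⟨w, hw, rfl⟩
  · exact Or.inl h
  · exact Or.inr (by simpa [mul_assoc, D.j_sq] using hw)

lemma conj_j {w : G} (hw : w ∈ D.VY) : D.j * w * D.j⁻¹ * w ∈ D.V := by
  obtain ⟨v, hv, y, hy, rfl⟩ := hw
  have h1 : D.j * v = v * D.j := (D.V_comm_CV hv D.j_mem).symm
  rw [show D.j * (v * y) * D.j⁻¹ * (v * y) = v * (D.j * y * D.j⁻¹) * (v * y) by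
    rw [← mul_assoc D.j, h1]; group, D.j_inv y hy,
    show v * y⁻¹ * (v * y) = v * (y⁻¹ * v) * y by group, ← D.VY_comm hv (inv_mem hy)]
  simpa [mul_assoc] using mul_mem hv hv

lemma sq_of_mul_j {w : G} (hw : w ∈ D.VY) : (w * D.j) * (w * D.j) = 1 := by
  obtain ⟨v, hv, y, hy, rfl⟩ := hw
  have h1 : D.j * v = v * D.j := (D.V_comm_CV hv D.j_mem).symm
  have h2 : D.j * y * D.j = y⁻¹ := by
    have := D.j_inv y hy
    rwa [inv_eq_of_mul_eq_one_right D.j_sq] at this
  calc v * y * D.j * (v * y * D.j) = v * y * (D.j * v) * y * D.j := by simp only [mul_assoc]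
    _ = v * (y * v) * (D.j * y * D.j) := by rw [h1]; simp only [mul_assoc]
    _ = v * v * (y * y⁻¹) := by rw [h2, ← D.VY_comm hv hy]; simp only [mul_assoc]
    _ = 1 := by rw [mul_inv_cancel, mul_one, D.V_sq hv]

lemma odd_CV {x : G} (hx : x ∈ Subgroup.centralizer {D.a} ⊓ Subgroup.centralizer {D.b})
    (ho : Odd (orderOf x)) : x ∈ D.Y := by
  rcases D.mem_CV hx with h | h
  · exact D.odd_mem_Y h ho
  · have h2 := D.sq_of_mul_j h
    rw [mul_assoc x, D.j_sq, mul_one] at h2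
    rw [eq_one_of_sq_of_odd h2 ho]
    exact one_mem _

/-! ### Conjugacy of involutions and four groups -/

lemma card_orbit_S {x : G} :
    ((fun g => g * x * g⁻¹) '' (Subgroup.normalizer ((D.S0 : Subgroup G) : Set G) : Set G)).ncard *
      Nat.card ↥(Subgroup.normalizer ((D.S0 : Subgroup G) : Set G) ⊓ Subgroup.centralizer {x}) =
      168 := by
  set N := Subgroup.normalizer ((D.S0 : Subgroup G) : Set G) with hN
  let _ : MulAction ↥N G :=
    MulAction.compHom _ ((ConjAct.toConjAct : G ≃* ConjAct G).toMonoidHom.comp N.subtype)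
  have hsmul : ∀ (g : ↥N) (z : G), g • z = (g : G) * z * (g : G)⁻¹ := fun g z =>
    ConjAct.toConjAct_smul _ _
  have hstab : MulAction.stabilizer ↥N x = (N ⊓ Subgroup.centralizer {x}).subgroupOf N := by
    ext g
    rw [MulAction.mem_stabilizer_iff, hsmul, mul_inv_eq_iff_eq_mul, Subgroup.mem_subgroupOf,
      Subgroup.mem_inf, Subgroup.mem_centralizer_singleton_iff]
    exact ⟨fun h => ⟨g.2, h⟩, fun h => h.2⟩
  have horb : (fun g => g * x * g⁻¹) '' (N : Set G) = MulAction.orbit ↥N x := by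
    ext z
    constructor
    · rintro ⟨g, hg, rfl⟩; exact ⟨⟨g, hg⟩, hsmul _ _⟩
    · rintro ⟨g, rfl⟩; exact ⟨g, g.2, (hsmul _ _).symm⟩
  rw [horb, ← MulAction.index_stabilizer, hstab,
    ← Nat.card_congr (Subgroup.subgroupOfEquivOfLe (inf_le_left :
      N ⊓ Subgroup.centralizer {x} ≤ N)).toEquiv, Subgroup.index_mul_card]
  exact D.card_NS

lemma orbit_a : (fun g => g * D.a * g⁻¹) '' (Subgroup.normalizer ((D.S0 : Subgroup G) : Set G) :
    Set G) = ((D.S0 : Subgroup G) : Set G) \ {1} := by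
  refine Set.eq_of_subset_of_ncard_le ?_ ?_ (Set.toFinite _)
  · rintro _ ⟨g, hg, rfl⟩
    refine ⟨(Subgroup.mem_normalizer_iff.1 hg _).1 D.a_mem_S, fun h => D.a_ne ?_⟩
    exact conj_eq_one_iff.1 h
  · have h := D.card_orbit_S (x := D.a)
    rw [D.card_NSa] at h
    rw [Set.ncard_sdiff (Set.singleton_subset_iff.2 (one_mem _)), Set.ncard_singleton,
      ← Nat.card_coe_set_eq]
    show Nat.card (D.S0 : Subgroup G) - 1 ≤ _
    rw [D.card_S]
    omega

/-- Every element squaring to one lies in a conjugate of the Sylow subgroup. -/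
lemma exists_conj_S {P : Subgroup G} (hP : IsPGroup 2 P) :
    ∃ g : G, ∀ x ∈ P, g * x * g⁻¹ ∈ (D.S0 : Subgroup G) := by
  have : Fact (Nat.Prime 2) := ⟨Nat.prime_two⟩
  obtain ⟨Q, hQ⟩ := hP.exists_le_sylow
  obtain ⟨g, hg⟩ := MulAction.exists_smul_eq G Q D.S0
  refine ⟨g, fun x hx => ?_⟩
  rw [← hg]
  exact Subgroup.smul_mem_pointwise_smul x (MulAut.conj g) _ (hQ hx)

/-- Any involution is conjugate to `a`. -/
lemma isConj_a {x : G} (hx : x * x = 1) (h1 : x ≠ 1) : ∃ g, g * D.a * g⁻¹ = x := by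
  obtain ⟨g, hg⟩ := D.exists_conj_S (P := Subgroup.zpowers x) (by
    rintro ⟨z, i, rfl⟩
    exact ⟨1, Subtype.ext (by
      show (x ^ i) ^ 2 ^ 1 = 1
      rw [pow_one, pow_two, ← Commute.mul_zpow (Commute.refl x), hx, one_zpow])⟩)
  obtain ⟨k, -, hk⟩ := D.orbit_a.ge ⟨hg x (Subgroup.mem_zpowers x),
    fun h => h1 (conj_eq_one_iff.1 h)⟩
  refine ⟨g⁻¹ * k, ?_⟩
  rw [show g⁻¹ * k * D.a * (g⁻¹ * k)⁻¹ = g⁻¹ * (k * D.a * k⁻¹) * g by group]
  rw [show k * D.a * k⁻¹ = g * x * g⁻¹ from hk]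
  group

/-- An element normalizing the four group whose square centralizes it centralizes it. -/
lemma mem_CV_of_sq {g : G} (hg : g ∈ Subgroup.normalizer (D.V : Set G))
    (hg2 : g * g ∈ Subgroup.centralizer (D.V : Set G)) :
    g ∈ Subgroup.centralizer (D.V : Set G) := by
  by_contra hne
  set N := Subgroup.normalizer (D.V : Set G)
  set C := Subgroup.centralizer (D.V : Set G) with hC
  have hCN : C ≤ N := Subgroup.centralizer_le_normalizer _
  have hn : (C.subgroupOf N).Normal := by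
    refine ⟨fun x hx k => Subgroup.mem_subgroupOf.2 ?_⟩
    rw [Subgroup.mem_subgroupOf, hC, Subgroup.mem_centralizer_iff] at hx
    rw [hC, Subgroup.mem_centralizer_iff]
    intro v hv
    have hv' : (k : G)⁻¹ * v * (k : G) ∈ D.V := (Subgroup.mem_normalizer_iff''.1 k.2 v).1 hv
    have h1 := hx _ hv'
    simp only [Subgroup.coe_mul, Subgroup.coe_inv]
    calc v * ((k : G) * x * (k : G)⁻¹) = k * ((k : G)⁻¹ * v * k * x) * (k : G)⁻¹ := by group
      _ = _ := by rw [h1]; group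
  have hord : orderOf ((⟨g, hg⟩ : N) : N ⧸ C.subgroupOf N) = 2 := by
    have := Fact.mk Nat.prime_two
    refine orderOf_eq_prime ?_ ?_
    · rw [← QuotientGroup.mk_pow, QuotientGroup.eq_one_iff]
      exact Subgroup.mem_subgroupOf.2 (by simpa [pow_two] using hg2)
    · rw [Ne, QuotientGroup.eq_one_iff]
      exact fun h => hne (Subgroup.mem_subgroupOf.1 h)
  have h2 : 2 ∣ Nat.card (N ⧸ C.subgroupOf N) := hord ▸ orderOf_dvd_natCard _
  have h3 : 2 * Nat.card C ∣ Nat.card G := by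
    refine (?_ : _ ∣ Nat.card N).trans (Subgroup.card_subgroup_dvd_card N)
    rw [Subgroup.card_eq_card_quotient_mul_card_subgroup (C.subgroupOf N),
      Nat.card_congr (Subgroup.subgroupOfEquivOfLe hCN).toEquiv]
    exact Nat.mul_dvd_mul h2 dvd_rfl
  rw [hC, D.centralizer_V, D.card_CV] at h3
  obtain ⟨hq, h8, -⟩ := D.q_facts
  have h16 : 2 ^ 4 ∣ Nat.card G := (show 2 ^ 4 ∣ 2 * (2 * (D.q + 1)) by omega).trans h3
  have : Fact (Nat.Prime 2) := ⟨Nat.prime_two⟩
  have h4 := (Nat.Prime.pow_dvd_iff_le_factorization Nat.prime_two Nat.card_pos.ne').1 h16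
  have h5 := D.S0.card_eq_multiplicity
  rw [D.card_S, show (8 : ℕ) = 2 ^ 3 by norm_num] at h5
  have h6 := Nat.pow_right_injective (le_refl 2) h5
  omega

lemma normalizer_V_mem {g : G} (ha : g * D.a * g⁻¹ ∈ D.V) (hb : g * D.b * g⁻¹ ∈ D.V) :
    g ∈ Subgroup.normalizer (D.V : Set G) := by
  refine Subgroup.mem_normalizer_fintype fun x hx => ?_
  rcases hx with rfl | rfl | rfl | rfl
  · simp
  · exact ha
  · exact hb
  · rw [SetLike.mem_coe, show g * (D.a * D.b) * g⁻¹ = g * D.a * g⁻¹ * (g * D.b * g⁻¹) by group]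
    exact mul_mem ha hb

/-- No element interchanges `a` and `b`. -/
lemma no_swap {g : G} (ha : g * D.a * g⁻¹ = D.b) (hb : g * D.b * g⁻¹ = D.a) : False := by
  have h1 := D.mem_CV_of_sq (D.normalizer_V_mem (ha ▸ D.b_mem_V) (hb ▸ D.a_mem_V)) (by
    rw [D.centralizer_V, Subgroup.mem_inf, Subgroup.mem_centralizer_singleton_iff,
      Subgroup.mem_centralizer_singleton_iff, ← mul_inv_eq_iff_eq_mul, ← mul_inv_eq_iff_eq_mul,
      show g * g * D.a * (g * g)⁻¹ = g * (g * D.a * g⁻¹) * g⁻¹ by group,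
      show g * g * D.b * (g * g)⁻¹ = g * (g * D.b * g⁻¹) * g⁻¹ by group]
    simp only [ha, hb, and_self])
  rw [D.centralizer_V] at h1
  exact D.b_ne_a (ha.symm.trans (mul_inv_eq_iff_eq_mul.2
    (Subgroup.mem_centralizer_singleton_iff.1 h1.1)))

/-- Ordered pairs of commuting involutions fall into the orbits of `(a, b)` and `(b, a)`. -/
lemma fours {s t : G} (hs : s * s = 1) (hs1 : s ≠ 1) (ht : t * t = 1) (ht1 : t ≠ 1) (hst : s ≠ t)
    (hc : s * t = t * s) :
    ∃ g, conjPair g (s, t) = (D.a, D.b) ∨ conjPair g (s, t) = (D.b, D.a) := by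
  classical
  -- move the pair into the Sylow subgroup
  let E : Subgroup G :=
    { carrier := {x | x = 1 ∨ x = s ∨ x = t ∨ x = s * t}
      one_mem' := Or.inl rfl
      inv_mem' := fun {x} hx => by
        have hst2 : (s * t) * (s * t) = 1 := by
          rw [mul_assoc, ← mul_assoc t, ← hc, mul_assoc s t t, ht, mul_one, hs]
        rcases hx with rfl | rfl | rfl | rfl
        · exact Or.inl inv_one
        · exact Or.inr (Or.inl (inv_eq_of_mul_eq_one_right hs))
        · exact Or.inr (Or.inr (Or.inl (inv_eq_of_mul_eq_one_right ht)))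
        · exact Or.inr (Or.inr (Or.inr (inv_eq_of_mul_eq_one_right hst2)))
      mul_mem' := fun {x y} hx hy => by
        have e2 : s * (s * t) = t := by rw [← mul_assoc, hs, one_mul]
        have e3 : t * (s * t) = s := by rw [← mul_assoc, ← hc, mul_assoc, ht, mul_one]
        have e4 : s * t * s = t := by rw [mul_assoc, ← hc, e2]
        have e5 : s * t * t = s := by rw [mul_assoc, ht, mul_one]
        have e6 : (s * t) * (s * t) = 1 := by rw [mul_assoc, e3, hs]
        simp only [Set.mem_ofPred_eq] at hx hy ⊢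
        rcases hx with rfl | rfl | rfl | rfl <;> rcases hy with rfl | rfl | rfl | rfl <;>
          simp [hs, ht, ← hc, e2, e3, e4, e5, e6] }
  obtain ⟨k, hk⟩ := D.exists_conj_S (P := E) (by
    rintro ⟨x, hx⟩
    refine ⟨1, Subtype.ext ?_⟩
    show x ^ 2 ^ 1 = 1
    rw [pow_one, pow_two]
    rcases hx with rfl | rfl | rfl | rfl
    · exact one_mul 1
    · exact hs
    · exact ht
    · rw [mul_assoc, ← mul_assoc t, ← hc, mul_assoc s t t, ht, mul_one, hs])
  -- the orbits of the normalizer on pairs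
  set N := Subgroup.normalizer ((D.S0 : Subgroup G) : Set G) with hN
  let O : G × G → Set (G × G) := fun p => (fun g => conjPair g p) '' (N : Set G)
  let Pairs : Set (G × G) := {p | p.1 ∈ (D.S0 : Subgroup G) ∧ p.2 ∈ (D.S0 : Subgroup G) ∧
    p.1 ≠ 1 ∧ p.2 ≠ 1 ∧ p.1 ≠ p.2}
  have hstab : ∀ g ∈ N, conjPair g (D.a, D.b) = (D.a, D.b) → g ∈ (D.S0 : Subgroup G) := by
    intro g hg h
    set K := N ⊓ (Subgroup.centralizer {D.a} ⊓ Subgroup.centralizer {D.b}) with hK
    have hgK : g ∈ K := Subgroup.mem_inf.2 ⟨hg, by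
      rw [Subgroup.mem_inf, Subgroup.mem_centralizer_singleton_iff,
        Subgroup.mem_centralizer_singleton_iff, ← mul_inv_eq_iff_eq_mul, ← mul_inv_eq_iff_eq_mul]
      exact ⟨congrArg Prod.fst h, congrArg Prod.snd h⟩⟩
    have hSK : (D.S0 : Subgroup G) ≤ K := by
      intro x hx
      refine Subgroup.mem_inf.2 ⟨Subgroup.le_normalizer hx, ?_⟩
      have hx' : x ∈ Subgroup.centralizer ((D.S0 : Subgroup G) : Set G) := by rw [D.cent_S]; exact hx
      rw [Subgroup.mem_centralizer_iff] at hx'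
      rw [Subgroup.mem_inf, Subgroup.mem_centralizer_singleton_iff,
        Subgroup.mem_centralizer_singleton_iff]
      exact ⟨(hx' _ D.a_mem_S).symm, (hx' _ D.b_mem_S).symm⟩
    have h1 := Subgroup.card_dvd_of_le hSK
    have h2 := Subgroup.card_dvd_of_le (show K ≤ Subgroup.centralizer {D.a} ⊓
      Subgroup.centralizer {D.b} from inf_le_right)
    have h3 := Subgroup.card_dvd_of_le (show K ≤ N ⊓ Subgroup.centralizer {D.a} from
      inf_le_inf_left _ inf_le_left)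
    rw [D.card_S] at h1
    rw [D.card_CV] at h2
    rw [D.card_NSa] at h3
    have h4 : ¬ 3 ∣ Nat.card K := fun hh => by
      have := hh.trans h2
      obtain ⟨-, -, hq3⟩ := D.q_facts
      omega
    have h5 : Nat.card K ≤ 24 := Nat.le_of_dvd (by norm_num) h3
    have h6 : Nat.card K = 8 := by
      obtain ⟨c, hc'⟩ := h1
      have : c = 1 ∨ c = 2 ∨ c = 3 := by
        have := Nat.card_pos (α := K); omega
      rcases this with rfl | rfl | rfl
      · exact hc'
      · rw [hc'] at h3; exact absurd h3 (by decide)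
      · exact absurd (by rw [hc']; decide) h4
    rw [Subgroup.eq_of_le_of_card_ge hSK (by rw [h6, D.card_S])]
    exact hgK
  have hstab' : ∀ g ∈ (D.S0 : Subgroup G), ∀ x ∈ (D.S0 : Subgroup G), g * x * g⁻¹ = x := by
    intro g hg x hx
    have hg' : g ∈ Subgroup.centralizer ((D.S0 : Subgroup G) : Set G) := by rw [D.cent_S]; exact hg
    rw [mul_inv_eq_iff_eq_mul, (Subgroup.mem_centralizer_iff.1 hg' x hx).symm]
  have hO : ∀ p : G × G, p = (D.a, D.b) ∨ p = (D.b, D.a) → (O p).ncard = 21 := by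
    intro p hp
    have hiff : ∀ g ∈ N, (conjPair g p = p ↔ g ∈ (D.S0 : Subgroup G)) := by
      intro g hg
      constructor
      · intro h
        refine hstab g hg ?_
        rcases hp with rfl | rfl
        · exact h
        · exact Prod.ext (congrArg Prod.snd h :) (congrArg Prod.fst h :)
      · intro h
        rcases hp with rfl | rfl
        · exact Prod.ext (hstab' _ h _ D.a_mem_S) (hstab' _ h _ D.b_mem_S)
        · exact Prod.ext (hstab' _ h _ D.b_mem_S) (hstab' _ h _ D.a_mem_S)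
    have hker : ∀ g g' : ↥N, g⁻¹ * g' ∈ (D.S0 : Subgroup G).subgroupOf N ↔
        conjPair (g : G) p = conjPair (g' : G) p := by
      intro g g'
      rw [Subgroup.mem_subgroupOf, ← hiff _ (g⁻¹ * g').2]
      simp only [Subgroup.coe_mul, Subgroup.coe_inv]
      rw [conjPair_mul]
      constructor
      · intro h
        have := congrArg (conjPair (g : G)) h
        rwa [← conjPair_mul, mul_inv_cancel, conjPair_one, eq_comm] at this
      · intro h
        rw [← h, ← conjPair_mul, inv_mul_cancel, conjPair_one]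
    let F : ↥N ⧸ (D.S0 : Subgroup G).subgroupOf N → ↥(O p) :=
      Quotient.lift (fun g : ↥N => (⟨conjPair (g : G) p, g, g.2, rfl⟩ : ↥(O p)))
        fun g g' h => Subtype.ext ((hker g g').1 (QuotientGroup.leftRel_apply.1 h))
    have hF : Function.Bijective F := by
      constructor
      · intro x y
        induction x using Quotient.inductionOn with | h g => ?_
        induction y using Quotient.inductionOn with | h g' => ?_
        exact fun h => Quotient.sound (QuotientGroup.leftRel_apply.2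
          ((hker g g').2 (congrArg Subtype.val h)))
      · rintro ⟨_, g, hg, rfl⟩
        exact ⟨QuotientGroup.mk ⟨g, hg⟩, rfl⟩
    have h1 := Subgroup.index_mul_card ((D.S0 : Subgroup G).subgroupOf N)
    rw [Nat.card_congr (Subgroup.subgroupOfEquivOfLe Subgroup.le_normalizer).toEquiv, D.card_S,
      show Nat.card N = 168 from D.card_NS] at h1
    rw [← Nat.card_coe_set_eq, ← Nat.card_congr (Equiv.ofBijective F hF), ← Subgroup.index_eq_card]
    omega
  have hsub : O (D.a, D.b) ∪ O (D.b, D.a) ⊆ Pairs := by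
    have hmem : ∀ g ∈ N, ∀ p : G × G, p ∈ Pairs → conjPair g p ∈ Pairs := by
      intro g hg p hp
      exact ⟨(Subgroup.mem_normalizer_iff.1 hg _).1 hp.1, (Subgroup.mem_normalizer_iff.1 hg _).1 hp.2.1,
        fun h => hp.2.2.1 (conj_eq_one_iff.1 h), fun h => hp.2.2.2.1 (conj_eq_one_iff.1 h),
        fun h => hp.2.2.2.2 (mul_left_cancel (mul_right_cancel h))⟩
    rintro _ (⟨g, hg, rfl⟩ | ⟨g, hg, rfl⟩)
    · exact hmem g hg _ ⟨D.a_mem_S, D.b_mem_S, D.a_ne, D.b_ne, D.b_ne_a.symm⟩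
    · exact hmem g hg _ ⟨D.b_mem_S, D.a_mem_S, D.b_ne, D.a_ne, D.b_ne_a⟩
  have hdisj : Disjoint (O (D.a, D.b)) (O (D.b, D.a)) := by
    rw [Set.disjoint_left]
    rintro _ ⟨g, -, rfl⟩ ⟨g', -, h⟩
    have h' := congrArg (conjPair g⁻¹) h
    simp only [← conjPair_mul, inv_mul_cancel, conjPair_one] at h'
    exact D.no_swap (congrArg Prod.snd h') (congrArg Prod.fst h')
  have hcard : Pairs.ncard ≤ 42 := by
    let S1 : Finset G := (((D.S0 : Subgroup G) : Set G).toFinite.toFinset).erase 1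
    have hP : Pairs ⊆ (S1.offDiag : Set (G × G)) := by
      rintro ⟨x, y⟩ ⟨hx, hy, hx1, hy1, hxy⟩
      simp only [Finset.coe_offDiag, Set.mem_offDiag, Finset.coe_erase, Set.mem_sdiff,
        Set.Finite.coe_toFinset, SetLike.mem_coe, Set.mem_singleton_iff, S1]
      exact ⟨⟨hx, hx1⟩, ⟨hy, hy1⟩, hxy⟩
    have hS1 : S1.card = 7 := by
      rw [Finset.card_erase_of_mem ((Set.Finite.mem_toFinset _).2 (one_mem _)),
        ← Set.ncard_eq_toFinset_card, ← Nat.card_coe_set_eq]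
      show Nat.card (D.S0 : Subgroup G) - 1 = 7
      rw [D.card_S]
    refine (Set.ncard_le_ncard hP (Finset.finite_toSet _)).trans ?_
    rw [Set.ncard_coe_finset, Finset.offDiag_card, hS1]
  have hall := Set.eq_of_subset_of_ncard_le hsub (by
    rw [Set.ncard_union_eq hdisj, hO _ (Or.inl rfl), hO _ (Or.inr rfl)]; exact hcard)
    (Set.toFinite _)
  have hp : conjPair k (s, t) ∈ Pairs :=
    ⟨hk s (Or.inr (Or.inl rfl)), hk t (Or.inr (Or.inr (Or.inl rfl))),
      fun h => hs1 (conj_eq_one_iff.1 h), fun h => ht1 (conj_eq_one_iff.1 h),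
      fun h => hst (mul_left_cancel (mul_right_cancel h))⟩
  rcases hall.ge hp with ⟨g, -, hg⟩ | ⟨g, -, hg⟩
  · exact ⟨g⁻¹ * k, Or.inl (by rw [conjPair_mul, ← hg, ← conjPair_mul, inv_mul_cancel, conjPair_one])⟩
  · exact ⟨g⁻¹ * k, Or.inr (by rw [conjPair_mul, ← hg, ← conjPair_mul, inv_mul_cancel, conjPair_one])⟩

/-- An element permuting the involutions of the four group cyclically. -/
lemma exists_cycle : ∃ g, g * D.a * g⁻¹ = D.b ∧ g * D.b * g⁻¹ = D.a * D.b := by
  obtain ⟨h1, h2, h3⟩ := D.ab_ne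
  obtain ⟨g, hg | hg⟩ := D.fours D.b_sq D.b_ne (D.V_sq (mul_mem D.a_mem_V D.b_mem_V)) h1 h3.symm
    (by rw [← mul_assoc, ← D.ab_comm])
  · exact ⟨g⁻¹, by
      have e1 : g * D.b * g⁻¹ = D.a := congrArg Prod.fst hg
      rw [← e1]; group, by
      have e2 : g * (D.a * D.b) * g⁻¹ = D.b := congrArg Prod.snd hg
      nth_rw 1 [← e2]; group⟩
  · exfalso
    have hb : g * D.b * g⁻¹ = D.b := congrArg Prod.fst hg
    have hab : g * (D.a * D.b) * g⁻¹ = D.a := congrArg Prod.snd hg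
    have ha : g * D.a * g⁻¹ = D.a * D.b := by
      calc g * D.a * g⁻¹ = g * (D.a * D.b) * g⁻¹ * (g * D.b * g⁻¹)⁻¹ := by group
        _ = D.a * D.b := by rw [hab, hb, inv_eq_of_mul_eq_one_right D.b_sq]
    have h := D.mem_CV_of_sq
      (D.normalizer_V_mem (ha ▸ mul_mem D.a_mem_V D.b_mem_V) (hb.symm ▸ D.b_mem_V)) (by
        rw [D.centralizer_V, Subgroup.mem_inf, Subgroup.mem_centralizer_singleton_iff,
          Subgroup.mem_centralizer_singleton_iff, ← mul_inv_eq_iff_eq_mul, ← mul_inv_eq_iff_eq_mul,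
          show g * g * D.a * (g * g)⁻¹ = g * (g * D.a * g⁻¹) * g⁻¹ by group,
          show g * g * D.b * (g * g)⁻¹ = g * (g * D.b * g⁻¹) * g⁻¹ by group, ha, hb]
        exact ⟨hab, hb⟩)
    rw [D.centralizer_V] at h
    exact h2 (ha.symm.trans (mul_inv_eq_iff_eq_mul.2
      (Subgroup.mem_centralizer_singleton_iff.1 h.1)))

end ReeData

end CfsgLib.Ree
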