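import Cfsg.Agent.Lib.Ree.Instance
import Cfsg.Agent.Lib.Ree.Invol
import Cfsg.Agent.Lib.Chev.TwistG2TwoGen

/-!
The lower bound `q² - q + 1` for the degree of a non-trivial complex representation of a
small Ree group.

The restriction to the abelian subgroup `(0, u, w)` of the unipotent radical shows that the degree
is `r + q (q - 1) n`, where `r` is the dimension of the fixed space of the centre `(0, 0, w)`. When
`r = 0` the torus involution has trace zero, so every involution has, and the restriction to a
four-group shows that the degree is divisible by `4`; but `q (q - 1)` is twice an odd number.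
-/

set_option autoImplicit false
set_option linter.unusedSectionVars false
set_option maxRecDepth 100000

namespace CfsgLib.Ree

open Cfsg.Lie CfsgLib.Chev

section Count

variable {k : ℕ}

/-- The sum of the character is the order times the dimension of the fixed space. -/
lemma sum_trace_eq {H : Type*} [Group H] [Fintype H] (σ : Representation ℂ H (Fin k → ℂ)) :
    ∑ h : H, σ.character h = (Fintype.card H : ℂ) * (Module.finrank ℂ σ.invariants : ℂ) := by
  have hne : (Fintype.card H : ℂ) ≠ 0 := Nat.cast_ne_zero.2 Fintype.card_ne_zero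
  haveI : Invertible (Fintype.card H : ℂ) := invertibleOfNonzero hne
  rw [← (Representation.isProj_averageMap σ).trace]
  rw [Representation.averageMap, GroupAlgebra.average, map_smul, map_smul, map_sum, map_sum,
    smul_eq_mul, ← mul_assoc, mul_invOf_self, one_mul]
  exact Finset.sum_congr rfl fun h _ => by
    simp [Representation.character]

end Count

variable {K : Type*} [Field K] [Fintype K] [CharP K 3] {e : ℕ} (f : K →+* K)
  (hf : ∀ t, f t = t ^ e) (hK : Fintype.card K = 3 * e ^ 2)
include hf hK

/-- The unipotent element of given coordinates in the fixed group. -/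
noncomputable def uEl (p : K × K × K) : ↥(endoG2 f).fix :=
  ⟨reeElt e p, (reeElt_mem f hf hK p).1⟩

lemma uEl_low_mul (u w u' w' : K) :
    uEl f hf hK (0, u + u', w + w') = uEl f hf hK (0, u, w) * uEl f hf hK (0, u', w') := by
  refine Subtype.ext ?_
  show reeElt e _ = reeElt e _ * reeElt e _
  rw [ree_mul f hf hK]
  congr 1
  simp [zero_pow (e_ne_zero_G2 f hf)]

lemma uEl_low_zero : uEl f hf hK ((0, 0, 0) : K × K × K) = 1 := by
  refine Subtype.ext ?_
  show reeElt e _ = _
  exact ree_zero f hf

lemma uEl_shift (s u w : K) :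
    uEl f hf hK (s, 0, 0) * uEl f hf hK (0, u, w) =
      uEl f hf hK (0, u, w + u * s) * uEl f hf hK (s, 0, 0) := by
  refine Subtype.ext ?_
  show reeElt e _ * reeElt e _ = reeElt e _ * reeElt e _
  rw [ree_mul f hf hK, ree_mul f hf hK]
  congr 1
  simp [zero_pow (e_ne_zero_G2 f hf)]

/-- The abelian subgroup `(0, u, w)` as a homomorphism. -/
noncomputable def lowHom : Multiplicative (K × K) →* ↥(endoG2 f).fix where
  toFun x := uEl f hf hK (0, x.toAdd.1, x.toAdd.2)
  map_one' := uEl_low_zero f hf hK
  map_mul' x y := uEl_low_mul f hf hK _ _ _ _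

/-- The central subgroup `(0, 0, w)` as a homomorphism. -/
noncomputable def centHom : Multiplicative K →* ↥(endoG2 f).fix where
  toFun x := uEl f hf hK (0, 0, x.toAdd)
  map_one' := uEl_low_zero f hf hK
  map_mul' x y := by
    have h := uEl_low_mul f hf hK 0 x.toAdd 0 y.toAdd
    rw [add_zero] at h
    exact h

lemma char_low_eq {k : ℕ} (ρ : Representation ℂ ↥(endoG2 f).fix (Fin k → ℂ)) {u : K} (hu : u ≠ 0)
    (w : K) : ρ.character (uEl f hf hK (0, u, w)) = ρ.character (uEl f hf hK (0, u, 0)) := by
  have h := uEl_shift f hf hK (w / u) u 0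
  rw [zero_add, mul_div_cancel₀ w hu, ← mul_inv_eq_iff_eq_mul] at h
  rw [← h, Representation.char_conj]

lemma char_cent_eq {k : ℕ} (ρ : Representation ℂ ↥(endoG2 f).fix (Fin k → ℂ)) {w : K} (hw : w ≠ 0) :
    ρ.character (uEl f hf hK (0, 0, w)) = ρ.character (uEl f hf hK ((0, 0, 1) : K × K × K)) := by
  set v : Kˣ := Units.mk0 w hw
  have h : (⟨torG2Hom e v, ((range_torG2Hom f hf hK).le ⟨v, rfl⟩).1⟩ : ↥(endoG2 f).fix) *
      uEl f hf hK ((0, 0, 1) : K × K × K) *
      (⟨torG2Hom e v, ((range_torG2Hom f hf hK).le ⟨v, rfl⟩).1⟩ : ↥(endoG2 f).fix)⁻¹ =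
      uEl f hf hK (0, 0, w) := by
    refine Subtype.ext ?_
    show torG2Hom e v * reeElt e _ * (torG2Hom e v)⁻¹ = reeElt e _
    rw [ree_conj f hf hK]
    congr 1
    simp [v]
  rw [← h, Representation.char_conj]

/-- The involution of the torus inverts the centre of the unipotent radical. -/
lemma conj_a_cent (he : 3 ≤ e) (w : K) :
    (reeData f hf hK he).a * uEl f hf hK (0, 0, w) * (reeData f hf hK he).a⁻¹ =
      uEl f hf hK (0, 0, -w) := by
  obtain ⟨v, hv⟩ := (range_torG2Hom f hf hK).ge
    (show ((reeData f hf hK he).a : GL chevG2.Idx K) ∈ _ from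
      ⟨((reeData f hf hK he).a).2, (mem_torR f hf).1 (reeData f hf hK he).a_mem⟩)
  have hconj : ∀ x : K, (reeData f hf hK he).a * uEl f hf hK (0, 0, x) * (reeData f hf hK he).a⁻¹ =
      uEl f hf hK (0, 0, (v : K) * x) := by
    intro x
    refine Subtype.ext ?_
    show (((reeData f hf hK he).a : ↥(endoG2 f).fix) : GL chevG2.Idx K) * reeElt e _ *
      (((reeData f hf hK he).a : ↥(endoG2 f).fix) : GL chevG2.Idx K)⁻¹ = reeElt e _
    rw [← hv, ree_conj f hf hK]
    congr 1
    simp
  have hinj : ∀ x y : K, uEl f hf hK (0, 0, x) = uEl f hf hK (0, 0, y) → x = y := fun x y h =>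
    congrArg (fun p => p.2.2) (reeElt_injective f hf (congrArg Subtype.val h))
  have hvv : (v : K) * v = 1 := by
    have h2 : uEl f hf hK (0, 0, (v : K) * ((v : K) * 1)) = uEl f hf hK (0, 0, 1) := by
      rw [← hconj, ← hconj]
      have ha := (reeData f hf hK he).a_sq
      have ha' : (reeData f hf hK he).a⁻¹ = (reeData f hf hK he).a :=
        inv_eq_of_mul_eq_one_right ha
      rw [ha']
      calc _ = ((reeData f hf hK he).a * (reeData f hf hK he).a) * uEl f hf hK (0, 0, 1) *
            ((reeData f hf hK he).a * (reeData f hf hK he).a) := by group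
        _ = _ := by rw [ha, one_mul, mul_one]
    simpa using hinj _ _ h2
  have hv1 : (v : K) ≠ 1 := by
    intro h
    apply (reeData f hf hK he).a_ne
    refine Subtype.ext ?_
    rw [← hv, show v = 1 from Units.ext h, map_one]
    rfl
  have hm : (v : K) = -1 := ((mul_self_eq_one_iff).1 hvv).resolve_left hv1
  rw [hconj, hm, neg_one_mul]

/-- The lower bound for the degree. -/
theorem min_degree (he : 3 ≤ e) (hsimp : IsSimpleGroup ↥(endoG2 f).fix) (k : ℕ)
    (ρ : Representation ℂ ↥(endoG2 f).fix (Fin k → ℂ)) (hirr : ρ.IsIrreducible) (hk : 2 ≤ k) :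
    Fintype.card K ^ 2 - Fintype.card K + 1 ≤ k := by
  classical
  set D := reeData f hf hK he with hD
  set q := Fintype.card K with hq
  set χ := ρ.character with hχ
  have hd : χ 1 = (k : ℂ) := by
    rw [hχ, Representation.char_one, Module.finrank_fin_fun]
  set A : ℂ := χ (uEl f hf hK ((0, 0, 1) : K × K × K)) with hA
  obtain ⟨ψ, hψ⟩ := (AddChar.exists_apply_ne_zero (α := K) (a := (1 : K))).2 one_ne_zero
  have hψ1 : ψ ≠ 1 := fun h => hψ (by rw [h]; rfl)
  have hψ0 : ∑ w : K, ψ w = 0 := AddChar.sum_eq_zero_of_ne_one hψ1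
  -- the sum over the centre, with any weights
  have hZ : ∀ c : K → ℂ, ∑ w : K, c w * χ (uEl f hf hK (0, 0, w)) =
      (∑ w : K, c w) * A + c 0 * ((k : ℂ) - A) := by
    intro c
    rw [Finset.sum_mul, ← Finset.add_sum_erase _ _ (Finset.mem_univ (0 : K)),
      ← Finset.add_sum_erase _ (fun w => c w * A) (Finset.mem_univ (0 : K)),
      uEl_low_zero, hd]
    rw [Finset.sum_congr rfl fun w hw =>
      show c w * χ (uEl f hf hK (0, 0, w)) = c w * A by
        rw [hχ, char_cent_eq f hf hK ρ (Finset.ne_of_mem_erase hw)]]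
    ring
  -- the twisted representation of the abelian subgroup
  let τ : Representation ℂ (Multiplicative (K × K)) (Fin k → ℂ) :=
    { toFun := fun x => ψ x.toAdd.2 • ρ (lowHom f hf hK x)
      map_one' := by simp
      map_mul' := fun x y => by
        rw [show (x * y).toAdd = x.toAdd + y.toAdd from rfl, map_mul, map_mul, Prod.snd_add, AddChar.map_add_eq_mul, smul_mul_smul_comm] }
  obtain ⟨n, hn⟩ : ∃ n : ℕ, (k : ℂ) - A = (q : ℂ) ^ 2 * n := by
    refine ⟨Module.finrank ℂ τ.invariants, ?_⟩
    have h1 := sum_trace_eq τ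
    rw [show ((Fintype.card (Multiplicative (K × K)) : ℕ) : ℂ) = (q : ℂ) ^ 2 by
      simp [Fintype.card_multiplicative, Fintype.card_prod, pow_two, hq]] at h1
    rw [← h1]
    have h2 : ∀ x : Multiplicative (K × K), τ.character x =
        ψ x.toAdd.2 * χ (uEl f hf hK (0, x.toAdd.1, x.toAdd.2)) := fun x => by
      show LinearMap.trace ℂ _ (ψ x.toAdd.2 • ρ (lowHom f hf hK x)) = _
      rw [map_smul, smul_eq_mul]
      rfl
    rw [Finset.sum_congr rfl fun x _ => h2 x,
      ← Equiv.sum_comp (Multiplicative.ofAdd : K × K ≃ Multiplicative (K × K)), Fintype.sum_prod_type]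
    simp only [toAdd_ofAdd]
    rw [Finset.sum_eq_single_of_mem (0 : K) (Finset.mem_univ _) (fun u _ hu => by
      rw [Finset.sum_congr rfl fun w _ => show ψ w * χ (uEl f hf hK (0, u, w)) =
        ψ w * χ (uEl f hf hK (0, u, 0)) by rw [hχ, char_low_eq f hf hK ρ hu w],
        ← Finset.sum_mul, hψ0, zero_mul]), hZ, hψ0, zero_mul, zero_add,
      AddChar.map_zero_eq_one, one_mul]
  -- the fixed space of the centre
  let σ : Representation ℂ (Multiplicative K) (Fin k → ℂ) := ρ.comp (centHom f hf hK)
  set r := Module.finrank ℂ σ.invariants with hr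
  have hrsum : (q : ℂ) * r = (q : ℂ) * A + ((k : ℂ) - A) := by
    have h1 := sum_trace_eq σ
    rw [show ((Fintype.card (Multiplicative K) : ℕ) : ℂ) = (q : ℂ) by
      simp [Fintype.card_multiplicative, hq], ← Equiv.sum_comp
        (Multiplicative.ofAdd : K ≃ Multiplicative K)] at h1
    have h2 := hZ (fun _ => 1)
    simp only [one_mul, Finset.sum_const, Finset.card_univ, nsmul_eq_mul, mul_one] at h2
    rw [← hr] at h1
    rw [← h1]
    exact h2
  have hq0 : (q : ℂ) ≠ 0 := Nat.cast_ne_zero.2 Fintype.card_ne_zero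
  have hq1 : 1 ≤ q := Fintype.card_pos
  have hdeg : k = r + q * (q - 1) * n := by
    have h : ((k : ℕ) : ℂ) = ((r + q * (q - 1) * n : ℕ) : ℂ) := by
      push_cast [Nat.cast_sub hq1]
      refine mul_left_cancel₀ hq0 ?_
      linear_combination (-1 : ℂ) * hrsum + ((q : ℂ) - 1) * hn
    exact_mod_cast h
  -- the centre acts non-trivially
  have hn0 : n ≠ 0 := by
    intro h0
    rw [h0, mul_zero, add_zero] at hdeg
    have htop : σ.invariants = ⊤ := by
      apply Submodule.eq_top_of_finrank_eq
      rw [← hr, Module.finrank_fin_fun]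
      exact hdeg.symm
    have hker : uEl f hf hK ((0, 0, 1) : K × K × K) ∈ MonoidHom.ker ρ := by
      rw [MonoidHom.mem_ker]
      refine LinearMap.ext fun v => ?_
      have hv : v ∈ σ.invariants := by rw [htop]; trivial
      exact hv (Multiplicative.ofAdd (1 : K))
    rcases hsimp.eq_bot_or_eq_top_of_normal (MonoidHom.ker ρ) inferInstance with hb | ht
    · rw [hb, Subgroup.mem_bot] at hker
      have h := congrArg Subtype.val hker
      have h' : reeElt e ((0, 0, 1) : K × K × K) = reeElt e 0 := h.trans (ree_zero f hf).symm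
      exact one_ne_zero (congrArg (fun p => p.2.2) (reeElt_injective f hf h'))
    · haveI := hirr
      have hall : ∀ g, ρ g = 1 := fun g => MonoidHom.mem_ker.1 (ht ▸ Subgroup.mem_top g)
      have hfin : Module.finrank ℂ (Fin k → ℂ) = k := Module.finrank_fin_fun ℂ
      let v0 : Fin k → ℂ := fun _ => 1
      let L : Subrepresentation ρ :=
        { toSubmodule := Submodule.span ℂ {v0}
          apply_mem_toSubmodule := fun g v hv => by rw [hall g]; exact hv }
      rcases IsSimpleOrder.eq_bot_or_eq_top L with hL | hL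
      · have h : v0 ∈ L.toSubmodule := Submodule.mem_span_singleton_self v0
        rw [hL] at h
        have h' : v0 = 0 := (Submodule.mem_bot ℂ).1 h
        exact one_ne_zero (congrFun h' ⟨0, by omega⟩)
      · have h : Submodule.span ℂ {v0} = ⊤ := congrArg Subrepresentation.toSubmodule hL
        have hv0 : v0 ≠ 0 := fun h' => one_ne_zero (congrFun h' ⟨0, by omega⟩)
        have := finrank_span_singleton (K := ℂ) hv0
        rw [h, finrank_top, hfin] at this
        omega
  by_contra hlt
  have hqq : q ^ 2 - q = q * (q - 1) := by rw [Nat.mul_sub, mul_one, pow_two]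
  have hn1 : n = 1 ∧ r = 0 := by
    have h2 : n < 2 := by
      by_contra h
      have := Nat.mul_le_mul_left (q * (q - 1)) (not_lt.1 h)
      omega
    refine ⟨by omega, ?_⟩
    have : n = 1 := by omega
    rw [this, mul_one] at hdeg
    omega
  -- the torus involution has trace zero
  have hinv : σ.invariants = ⊥ := Submodule.finrank_eq_zero.1 (hr ▸ hn1.2)
  have hS : ∑ x : Multiplicative K, σ x = 0 := by
    refine LinearMap.ext fun v => ?_
    have hv : (∑ x : Multiplicative K, σ x) v ∈ σ.invariants := fun y => by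
      rw [LinearMap.sum_apply, map_sum]
      refine Fintype.sum_equiv (Equiv.mulLeft y) _ _ fun x => ?_
      show σ y (σ x v) = σ (y * x) v
      rw [map_mul, Module.End.mul_apply]
    rw [hinv, Submodule.mem_bot] at hv
    rw [hv, LinearMap.zero_apply]
  have hthree : ((1 : K) + 1 + 1) = 0 := by
    have h := CharP.cast_eq_zero K 3
    norm_num at h ⊢
    exact h
  have ha0 : χ D.a = 0 := by
    have h1 : ∀ w : K, χ (D.a * uEl f hf hK (0, 0, w)) = χ D.a := fun w => by
      have e1 := conj_a_cent f hf hK he w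
      rw [mul_inv_eq_iff_eq_mul] at e1
      have e2 : uEl f hf hK (0, 0, w) * D.a * (uEl f hf hK (0, 0, w))⁻¹ =
          D.a * uEl f hf hK (0, 0, w) := by
        rw [mul_inv_eq_iff_eq_mul, mul_assoc]
        have hadd : uEl f hf hK (0, 0, w) * uEl f hf hK (0, 0, w) = uEl f hf hK (0, 0, -w) := by
          have h := uEl_low_mul f hf hK 0 w 0 w
          rw [add_zero] at h
          rw [← h]
          congr 3
          linear_combination w * hthree
        rw [hadd]
        have e3 := conj_a_cent f hf hK he (-w)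
        rw [mul_inv_eq_iff_eq_mul, neg_neg] at e3
        exact e3.symm
      rw [← e2, hχ, Representation.char_conj]
    have h2 : ∑ x : Multiplicative K, χ (D.a * centHom f hf hK x) = 0 := by
      have : LinearMap.trace ℂ _ (ρ D.a * ∑ x : Multiplicative K, σ x) = 0 := by
        rw [hS, mul_zero, map_zero]
      rw [Finset.mul_sum, map_sum] at this
      rw [← this]
      exact Finset.sum_congr rfl fun x _ => by
        show LinearMap.trace ℂ _ (ρ (D.a * centHom f hf hK x)) = _
        rw [map_mul]
        rfl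
    rw [Finset.sum_congr rfl fun x _ =>
      show χ (D.a * centHom f hf hK x) = χ D.a from h1 x.toAdd, Finset.sum_const, Finset.card_univ,
      nsmul_eq_mul] at h2
    exact (mul_eq_zero.1 h2).resolve_left (Nat.cast_ne_zero.2 Fintype.card_ne_zero)
  -- hence every involution has, and the degree is divisible by four
  haveI : Fintype ↥D.V := Fintype.ofFinite _
  let π : Representation ℂ ↥D.V (Fin k → ℂ) := ρ.comp D.V.subtype
  have hV := sum_trace_eq π
  rw [show Fintype.card ↥D.V = 4 from Nat.card_eq_fintype_card.symm.trans D.card_V,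
    Finset.sum_eq_single_of_mem (1 : ↥D.V) (Finset.mem_univ _) (fun x _ hx => by
      obtain ⟨g, hg⟩ := D.isConj_a (D.V_sq x.2) (fun h => hx (Subtype.ext h))
      show χ (x : ↥(endoG2 f).fix) = 0
      rw [← hg, hχ, Representation.char_conj]
      exact ha0)] at hV
  rw [Representation.char_one, Module.finrank_fin_fun] at hV
  have h4 : k = 4 * Module.finrank ℂ π.invariants := by exact_mod_cast hV
  have hmod : q % 8 = 3 := D.q_mod
  obtain ⟨t, ht⟩ : ∃ t, q = 8 * t + 3 := ⟨q / 8, by omega⟩
  rw [hn1.1, hn1.2, mul_one, zero_add] at hdeg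
  have hprod : q * (q - 1) = 4 * (16 * t * t + 10 * t + 1) + 2 := by
    rw [ht, show 8 * t + 3 - 1 = 8 * t + 2 by omega]
    ring
  omega

end CfsgLib.Ree
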