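import Cfsg.Agent.Lib.Ree.Torus

/-!
Element orders, their numbers, and Sylow subgroups for primes above three in a group of Ree type.
-/

set_option autoImplicit false
set_option linter.unusedSectionVars false

open scoped IsMulCommutative

namespace CfsgLib.Ree

variable {G : Type*} [Group G] [Finite G]

namespace ReeData

variable (D : ReeData G)

lemma U_odd {x : G} (hx : x ∈ D.U) : Odd (orderOf x) := by
  refine Odd.of_dvd_nat ?_ (Subgroup.orderOf_dvd_natCard _ hx)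
  rw [D.card_U]
  obtain ⟨-, h8, -⟩ := D.q_facts
  exact Odd.pow (Nat.odd_iff.2 (by omega))

/-- The involutions of the Borel subgroup are conjugate under `U`. -/
lemma exists_conj_J {s : G} (hs : s ∈ D.J) : ∃ y ∈ D.U, y * D.a * y⁻¹ = s := by
  obtain ⟨x, hx, rfl, hinv⟩ := D.exists_of_J hs
  obtain ⟨m, hm⟩ := exists_pow_eq_self_of_coprime (Nat.coprime_two_left.2 (D.U_odd hx))
  have hai : D.a⁻¹ = D.a := inv_eq_of_mul_eq_one_right D.a_sq
  have h1 : D.a * x ^ m * D.a = (x ^ m)⁻¹ := by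
    calc D.a * x ^ m * D.a = D.a * x ^ m * D.a⁻¹ := by rw [hai]
      _ = (D.a * x * D.a⁻¹) ^ m := conj_pow.symm
      _ = _ := by rw [hai, hinv, inv_pow]
  refine ⟨x ^ m, pow_mem hx m, ?_⟩
  calc x ^ m * D.a * (x ^ m)⁻¹ = x ^ m * (D.a * D.a) * x ^ m * D.a := by rw [← h1]; group
    _ = (x ^ 2) ^ m * D.a := by rw [D.a_sq, mul_one, ← pow_add, ← pow_mul, two_mul]
    _ = _ := by rw [hm]

lemma U_order {x : G} (hx : x ∈ D.U) (h1 : x ≠ 1) :
    orderOf x = 9 ∨ (orderOf x = 3 ∧ x ^ 3 = 1) := by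
  obtain ⟨i, hi, e⟩ := (Nat.dvd_prime_pow Nat.prime_three (m := 2)).1
    (orderOf_dvd_of_pow_eq_one (D.U_nine x hx))
  interval_cases i
  · rw [pow_zero] at e; exact absurd (orderOf_eq_one_iff.1 e) h1
  · rw [pow_one] at e; exact Or.inr ⟨e, e ▸ pow_orderOf_eq_one x⟩
  · exact Or.inl e

lemma six_of_Ua {x : G} (hx : x ∈ D.U) (hJ : x * D.a ∉ D.J) : orderOf (x * D.a) = 6 := by
  set g := x * D.a with hg
  have hgB : g ∈ D.B := mul_mem (D.U_le_B hx) D.a_mem_B
  have hgU : g ∉ D.U := fun h => by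
    have hm := Subgroup.mem_inf.2
      ⟨(show D.a ∈ D.U by simpa [hg] using mul_mem (inv_mem hx) h), D.a_mem⟩
    rw [D.UT, Subgroup.mem_bot] at hm
    exact D.a_ne hm
  have hg1 : g ≠ 1 := fun h => hgU (h ▸ one_mem _)
  have hz : g * g ∈ D.U := by
    rw [hg, show x * D.a * (x * D.a) = x * (D.a * x * D.a⁻¹) * (D.a * D.a) by group, D.a_sq,
      mul_one]
    exact mul_mem hx (D.T_norm _ D.a_mem x hx)
  have hz1 : g * g ≠ 1 := fun h => hJ ⟨⟨h, hg1⟩, hgB⟩
  have h18 : g ^ 18 = 1 := by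
    rw [show (18 : ℕ) = 2 * 9 from rfl, pow_mul, pow_two]; exact D.U_nine _ hz
  have h9 : g ^ 9 ≠ 1 := fun h => hgU (D.mem_U_of_three hgB (k := 2) h)
  obtain ⟨y, hy, hys⟩ := D.exists_conj_J
    (show g ^ 9 ∈ D.J from ⟨⟨by rw [← pow_add]; exact h18, h9⟩, pow_mem hgB 9⟩)
  have hu : y⁻¹ * (g * g) * y ∈ D.U := mul_mem (mul_mem (inv_mem hy) hz) hy
  have hc : D.a * (y⁻¹ * (g * g) * y) = y⁻¹ * (g * g) * y * D.a := by
    have h2 : g ^ 9 * (g * g) = g * g * g ^ 9 :=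
      ((Commute.refl g).pow_left 9).mul_right ((Commute.refl g).pow_left 9)
    rw [← hys] at h2
    calc D.a * (y⁻¹ * (g * g) * y) = y⁻¹ * (y * D.a * y⁻¹ * (g * g)) * y := by group
      _ = y⁻¹ * (g * g * (y * D.a * y⁻¹)) * y := by rw [h2]
      _ = _ := by group
  have h6 : g ^ 6 = 1 := by
    have h3 := D.CUa_cube _ hu hc
    rw [show y⁻¹ * (g * g) * y = y⁻¹ * (g * g) * y⁻¹⁻¹ by rw [inv_inv], conj_pow,
      conj_eq_one_iff, ← pow_two, ← pow_mul] at h3
    exact h3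
  have hle := Nat.le_of_dvd (by norm_num) (orderOf_dvd_of_pow_eq_one h6)
  have hd := orderOf_dvd_of_pow_eq_one h6
  have hne2 : ¬ orderOf g ∣ 2 := fun h => hz1 (by
    rw [← pow_two]; exact orderOf_dvd_iff_pow_eq_one.1 h)
  have hne3 : ¬ orderOf g ∣ 3 := fun h => hgU (D.mem_U_of_three hgB (k := 1) (by
    rw [pow_one]; exact orderOf_dvd_iff_pow_eq_one.1 h))
  generalize orderOf g = n at *
  interval_cases n <;> omega

/-- The elements of the Borel subgroup of a given order. -/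
def EB (i : ℕ) : Set G := {g | g ∈ D.B ∧ orderOf g = i}

lemma E3_orders {g : G} (hg : g ∈ D.E3) : orderOf g = 3 ∨ orderOf g = 6 ∨ orderOf g = 9 := by
  rw [D.E3_eq] at hg
  rcases hg with ⟨hx, h1⟩ | ⟨⟨x, hx, rfl⟩, hJ⟩
  · rcases D.U_order hx h1 with h | ⟨h, -⟩
    · exact Or.inr (Or.inr h)
    · exact Or.inl h
  · exact Or.inr (Or.inl (D.six_of_Ua hx hJ))

lemma EB_three : D.EB 3 = {x : G | x ∈ D.U ∧ x ^ 3 = 1} \ {1} := by
  ext g
  constructor
  · rintro ⟨hB, ho⟩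
    have h3 : g ^ 3 = 1 := ho ▸ pow_orderOf_eq_one g
    exact ⟨⟨D.mem_U_of_three hB (k := 1) (by rw [pow_one]; exact h3), h3⟩, fun h => by
      rw [show g = 1 from h, orderOf_one] at ho; omega⟩
  · rintro ⟨⟨hU, h3⟩, h1⟩
    have : Fact (Nat.Prime 3) := ⟨Nat.prime_three⟩
    exact ⟨D.U_le_B hU, orderOf_eq_prime h3 h1⟩

lemma EB_nine : D.EB 9 = (D.U : Set G) \ {x : G | x ∈ D.U ∧ x ^ 3 = 1} := by
  ext g
  constructor
  · rintro ⟨hB, ho⟩
    refine ⟨D.mem_U_of_three hB (k := 2)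
      (show g ^ 9 = 1 from ho ▸ pow_orderOf_eq_one g), fun h => ?_⟩
    have := orderOf_dvd_of_pow_eq_one h.2
    rw [ho] at this
    exact absurd this (by decide)
  · rintro ⟨hU, h3⟩
    rcases D.U_order hU (fun h => h3 ⟨hU, by rw [h, one_pow]⟩) with h | ⟨-, h⟩
    · exact ⟨D.U_le_B hU, h⟩
    · exact absurd ⟨hU, h⟩ h3

lemma EB_six : D.EB 6 = ((fun x => x * D.a) '' (D.U : Set G)) \ D.J := by
  ext g
  constructor
  · rintro ⟨hB, ho⟩
    have hE : g ∈ D.E3 := ⟨hB, ho ▸ by norm_num⟩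
    rw [D.E3_eq] at hE
    rcases hE with ⟨hx, h1⟩ | h
    · rcases D.U_order hx h1 with h | ⟨h, -⟩ <;> omega
    · exact h
  · rintro ⟨⟨x, hx, rfl⟩, hJ⟩
    exact ⟨mul_mem (D.U_le_B hx) D.a_mem_B, D.six_of_Ua hx hJ⟩

lemma card_EB : (D.EB 3).ncard + 1 = D.q ^ 2 ∧ (D.EB 6).ncard + D.q ^ 2 = D.q ^ 3 ∧
    (D.EB 9).ncard + D.q ^ 2 = D.q ^ 3 := by
  have hU : (D.U : Set G).ncard = D.q ^ 3 := by rw [← Nat.card_coe_set_eq]; exact D.card_U
  have hle : D.q ^ 2 ≤ D.q ^ 3 :=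
    Nat.pow_le_pow_right (by have := D.q_ge; omega) (by norm_num)
  have h1 : 1 ≤ D.q ^ 2 := Nat.one_le_pow _ _ (by have := D.q_ge; omega)
  refine ⟨?_, ?_, ?_⟩
  · rw [D.EB_three, Set.ncard_sdiff (Set.singleton_subset_iff.2 (by exact ⟨one_mem _, one_pow 3⟩)),
      D.card_U_cube, Set.ncard_singleton]
    omega
  · have hsub : D.J ⊆ (fun x => x * D.a) '' (D.U : Set G) := fun s hs =>
      (D.exists_of_J hs).elim fun x hx => ⟨x, hx.1, hx.2.1.symm⟩
    rw [D.EB_six, Set.ncard_sdiff hsub, Set.ncard_image_of_injective _ (mul_left_injective _), hU, D.card_J]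
    omega
  · rw [D.EB_nine, Set.ncard_sdiff (fun x hx => hx.1), hU, D.card_U_cube]
    omega

lemma card_order_B {i : ℕ} (h3 : 3 ∣ i) :
    {g : G | orderOf g = i}.ncard * Nat.card D.B = Nat.card G * (D.EB i).ncard := by
  refine card_conj_elems _ (D.EB i) _ (Set.ext fun g => ⟨fun hg => ?_, ?_⟩)
    (fun h hh x hx => ⟨(D.E3_normal h hh x ⟨hx.1, hx.2 ▸ h3⟩).1, by rw [orderOf_conj']; exact hx.2⟩)
    fun h x hx hh => D.E3_TI h x ⟨hx.1, hx.2 ▸ h3⟩ ⟨hh.1, hh.2 ▸ h3⟩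
  · have hS : g ∈ Sing3 := show 3 ∣ orderOf g from hg ▸ h3
    rw [D.Sing3_eq] at hS
    obtain ⟨h, hh, -⟩ := hS
    exact ⟨h, hh, by rw [orderOf_conj']; exact hg⟩
  · rintro ⟨h, -, hh⟩
    rwa [orderOf_conj'] at hh

/-- The numbers of elements of orders two, three, six and nine. -/
theorem card_small_orders :
    {g : G | orderOf g = 2}.ncard = D.q ^ 2 * (D.q ^ 2 - D.q + 1) ∧
    {g : G | orderOf g = 3}.ncard = (D.q ^ 2 - 1) * (D.q ^ 3 + 1) ∧
    {g : G | orderOf g = 6}.ncard = D.q ^ 2 * (D.q - 1) * (D.q ^ 3 + 1) ∧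
    {g : G | orderOf g = 9}.ncard = D.q ^ 2 * (D.q - 1) * (D.q ^ 3 + 1) := by
  have hq := D.q_ge
  have hq2 : 1 ≤ D.q ^ 2 := Nat.one_le_pow _ _ (by omega)
  have hB : 0 < Nat.card D.B := Nat.card_pos
  obtain ⟨e3, e6, e9⟩ := D.card_EB
  have key : ∀ i n, 3 ∣ i → (D.EB i).ncard = n →
      {g : G | orderOf g = i}.ncard = n * (D.q ^ 3 + 1) := by
    intro i n h3 hn
    apply Nat.eq_of_mul_eq_mul_right hB
    rw [D.card_order_B h3, hn, D.card_B, D.card_G]
    ring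
  have e23 : D.q ^ 3 - D.q ^ 2 = D.q ^ 2 * (D.q - 1) := by
    rw [Nat.mul_sub, mul_one, ← pow_succ]
  refine ⟨?_, key 3 _ dvd_rfl (by omega), ?_, ?_⟩
  · have h : {g : G | orderOf g = 2} = {s : G | Inv2 s} := Set.ext fun g => ⟨fun h =>
      ⟨by rw [← pow_two, ← show orderOf g = 2 from h]; exact pow_orderOf_eq_one g,
        fun e => by rw [Set.mem_ofPred_eq, e, orderOf_one] at h; omega⟩, fun h => orderOf_Inv2 h⟩
    have hpos : 0 < D.q * (D.q ^ 2 - 1) :=
      Nat.mul_pos (by omega) (by nlinarith [Nat.sub_add_cancel hq2])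
    apply Nat.eq_of_mul_eq_mul_right hpos
    rw [h, D.card_invol, D.card_G, D.cube_add_one, D.sq_sub_one]
    ring
  · exact key 6 _ ⟨2, rfl⟩ (by omega)
  · exact key 9 _ ⟨3, rfl⟩ (by omega)

/-- The number of elements of an order above two dividing `q - 1`. -/
theorem card_order_T {i : ℕ} (h2 : 2 < i) (hi : i ∣ D.q - 1) :
    2 * {g : G | orderOf g = i}.ncard = i.totient * D.q ^ 3 * (D.q ^ 3 + 1) := by
  have := D.T_cyclic
  set E : Set G := {x | x ∈ D.T ∧ orderOf x = i}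
  have hsq : ∀ x : G, orderOf x = i → x * x ≠ 1 := fun x hx h => by
    have := Nat.le_of_dvd (by norm_num)
      (orderOf_dvd_of_pow_eq_one (show x ^ 2 = 1 by rw [pow_two, h]))
    omega
  have hS : {g : G | orderOf g = i} = {g | ∃ h, h * g * h⁻¹ ∈ E} := by
    ext g
    constructor
    · intro hg
      have hd : orderOf (g * g) ∣ Nat.card D.T2 := by
        refine orderOf_dvd_of_pow_eq_one ?_
        rw [← pow_two, ← pow_mul, D.card_T2]
        exact orderOf_dvd_iff_pow_eq_one.1 (hg ▸ hi)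
      obtain ⟨h, hh⟩ := D.torus_T.exists_conj hd
      refine ⟨h, ?_, by rw [orderOf_conj']; exact hg⟩
      rw [← D.torus_T.cent _ hh (fun e => hsq g hg (conj_eq_one_iff.1 e)),
        Subgroup.mem_centralizer_singleton_iff]
      group
    · rintro ⟨h, -, hh⟩
      rwa [orderOf_conj'] at hh
  have hE : E.ncard = i.totient := by
    classical
    let _ : Fintype D.T := Fintype.ofFinite D.T
    rw [← IsCyclic.card_orderOf_eq_totient (α := D.T) (d := i)
        (by rwa [← Nat.card_eq_fintype_card, D.card_T]),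
      ← Set.ncard_coe_finset, ← Set.ncard_image_of_injective _ Subtype.val_injective]
    congr 1
    ext x
    simp only [Finset.coe_filter, Finset.mem_univ, true_and, Set.mem_image, Set.mem_ofPred_eq]
    constructor
    · rintro ⟨hx, ho⟩
      exact ⟨⟨x, hx⟩, by rw [Subgroup.orderOf_mk]; exact ho, rfl⟩
    · rintro ⟨⟨y, hy⟩, ho, rfl⟩
      rw [Subgroup.orderOf_mk] at ho
      exact ⟨hy, ho⟩
  have h := card_conj_elems _ E (Subgroup.normalizer (D.T : Set G)) hS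
    (fun k hk x hx =>
      ⟨(Subgroup.mem_normalizer_iff.1 hk x).1 hx.1, by rw [orderOf_conj']; exact hx.2⟩)
    fun k x hx hk => D.mem_normalizer_T.2 (D.conj_regular hx.1 (hsq x hx.2) hk.1)
  rw [hE, D.card_normalizer_T, D.card_G] at h
  apply Nat.eq_of_mul_eq_mul_right (show 0 < D.q - 1 by have := D.q_ge; omega)
  rw [mul_comm 2, mul_assoc, h]
  ring

/-- The number of elements of twice an order dividing `(q + 1) / 4`. -/
theorem card_order_two_Y {i : ℕ} (h1 : 1 < i) (hi : i ∣ Nat.card D.Y) :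
    {g : G | orderOf g = 2 * i}.ncard * (6 * (D.q + 1)) = Nat.card G * (3 * i.totient) := by
  have := D.Y_cyclic
  have hio : Nat.Coprime 2 i :=
    Nat.coprime_two_left.2 (Odd.of_dvd_nat D.card_Y_odd.1 hi)
  set E : Set G := {x | x ∈ D.VY ∧ orderOf x = 2 * i}
  have hsq : ∀ x : G, orderOf x = 2 * i → x * x ≠ 1 := fun x hx h => by
    have := Nat.le_of_dvd (by norm_num)
      (orderOf_dvd_of_pow_eq_one (show x ^ 2 = 1 by rw [pow_two, h]))
    omega
  have hS : {g : G | orderOf g = 2 * i} = {g | ∃ h, h * g * h⁻¹ ∈ E} := by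
    ext g
    constructor
    · intro hg
      have hd : orderOf (g * g) ∣ Nat.card D.Y := by
        refine (orderOf_dvd_of_pow_eq_one ?_).trans hi
        rw [← pow_two, ← pow_mul, ← show orderOf g = 2 * i from hg]
        exact pow_orderOf_eq_one g
      obtain ⟨h, hh⟩ := D.torus_Y.exists_conj hd
      refine ⟨h, ?_, by rw [orderOf_conj']; exact hg⟩
      rw [← D.torus_Y.cent _ hh (fun e => hsq g hg (conj_eq_one_iff.1 e)),
        Subgroup.mem_centralizer_singleton_iff]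
      group
    · rintro ⟨h, -, hh⟩
      rwa [orderOf_conj'] at hh
  have hvy : ∀ v ∈ D.V, v ≠ 1 → ∀ y ∈ D.Y, orderOf (v * y) = 2 * orderOf y := by
    intro v hv hv1 y hy
    have h2 : orderOf v = 2 := orderOf_Inv2 ⟨D.V_sq hv, hv1⟩
    rw [Commute.orderOf_mul_eq_mul_orderOf_of_coprime (show Commute v y from D.VY_comm hv hy) (by
      rw [h2]; exact Nat.coprime_two_left.2 (D.Y_odd hy)), h2]
  have hE : E.ncard = 3 * i.totient := by
    have he : E = (fun p : G × G => p.1 * p.2) ''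
        (((D.V : Set G) \ {1}) ×ˢ {y : G | y ∈ D.Y ∧ orderOf y = i}) := by
      ext x
      constructor
      · rintro ⟨hx, ho⟩
        obtain ⟨v, hv, y, hy, rfl⟩ := hx
        by_cases hv1 : v = 1
        · exfalso
          rw [hv1, one_mul] at ho
          have h2 := D.Y_odd hy
          rw [ho] at h2
          exact Nat.not_even_iff_odd.2 h2 (even_two_mul i)
        · rw [hvy v hv hv1 y hy] at ho
          exact ⟨(v, y), ⟨⟨hv, hv1⟩, hy, show orderOf y = i by omega⟩, rfl⟩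
      · rintro ⟨⟨v, y⟩, ⟨⟨hv, hv1⟩, hy, ho⟩, rfl⟩
        exact ⟨mul_mem (D.V_le_VY hv) (D.Y_le_VY hy),
          by show orderOf (v * y) = _; rw [hvy v hv hv1 y hy]; simp only at ho; rw [ho]⟩
    have hinj : Set.InjOn (fun p : G × G => p.1 * p.2)
        (((D.V : Set G) \ {1}) ×ˢ {y : G | y ∈ D.Y ∧ orderOf y = i}) := by
      rintro ⟨v, y⟩ ⟨⟨hv, -⟩, hy, -⟩ ⟨v', y'⟩ ⟨⟨hv', -⟩, hy', -⟩ h
      obtain ⟨rfl, rfl⟩ := D.VY_unique hv hv' hy hy' h
      rfl
    rw [he, Set.ncard_image_of_injOn hinj, Set.ncard_prod,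
      Set.ncard_sdiff (Set.singleton_subset_iff.2 (one_mem D.V)), Set.ncard_singleton,
      ← Nat.card_coe_set_eq (D.V : Set G), show Nat.card (D.V : Set G) = 4 from D.card_V]
    congr 1
    classical
    let _ : Fintype D.Y := Fintype.ofFinite D.Y
    rw [← IsCyclic.card_orderOf_eq_totient (α := D.Y) (d := i)
        (by rwa [← Nat.card_eq_fintype_card]),
      ← Set.ncard_coe_finset, ← Set.ncard_image_of_injective _ Subtype.val_injective]
    congr 1
    ext x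
    simp only [Finset.coe_filter, Finset.mem_univ, true_and, Set.mem_image, Set.mem_ofPred_eq]
    constructor
    · rintro ⟨hx, ho⟩
      exact ⟨⟨x, hx⟩, by rw [Subgroup.orderOf_mk]; exact ho, rfl⟩
    · rintro ⟨⟨y, hy⟩, ho, rfl⟩
      rw [Subgroup.orderOf_mk] at ho
      exact ⟨hy, ho⟩
  have h := card_conj_elems _ E (Subgroup.normalizer (D.V : Set G)) hS
    (fun k hk x hx => ⟨D.VY_conj hk hx.1, by rw [orderOf_conj']; exact hx.2⟩)
    fun k x hx hk => D.EY_TI k x ⟨hx.1, hsq x hx.2⟩ ⟨hk.1, hsq _ hk.2⟩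
  rwa [hE, D.card_normalizer_V] at h

/-- The element orders. -/
theorem orders_dvd {r : ℕ} (hr : r * r = 3 * D.q) (g : G) :
    orderOf g ∣ 6 ∨ orderOf g ∣ 9 ∨ orderOf g ∣ D.q - 1 ∨ orderOf g ∣ (D.q + 1) / 2 ∨
      orderOf g ∣ D.q - r + 1 ∨ orderOf g ∣ D.q + r + 1 := by
  rcases D.classify g with rfl | h | h | ⟨k, hk, -⟩ | ⟨k, hk, -⟩ | h
  · rw [orderOf_one]; exact Or.inl (one_dvd 6)
  · rw [orderOf_Inv2 h]; exact Or.inl ⟨3, rfl⟩
  · rw [D.Sing3_eq] at h
    obtain ⟨k, hk⟩ := h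
    have := D.E3_orders hk
    rw [orderOf_conj'] at this
    rcases this with e | e | e <;> rw [e] <;> omega
  · refine Or.inr (Or.inr (Or.inl ?_))
    rw [← orderOf_conj' k g, ← D.card_T]
    exact Subgroup.orderOf_dvd_natCard _ hk
  · refine Or.inr (Or.inr (Or.inr (Or.inl ?_)))
    rw [← orderOf_conj' k g, ← D.card_Y,
      show 4 * Nat.card D.Y / 2 = 2 * Nat.card D.Y by omega]
    refine orderOf_dvd_of_pow_eq_one ?_
    rw [pow_mul, pow_two]
    exact orderOf_dvd_iff_pow_eq_one.1 (Subgroup.orderOf_dvd_natCard _ (D.sq_mem_Y hk))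
  · obtain ⟨A, B, -, -, -, -, -, -, -, hX⟩ := D.exists_tori_r hr
    rcases hX g h with e | e
    · exact Or.inr (Or.inr (Or.inr (Or.inr (Or.inl e))))
    · exact Or.inr (Or.inr (Or.inr (Or.inr (Or.inr e))))

/-- Every listed order occurs. -/
theorem exists_order {r : ℕ} (hr : r * r = 3 * D.q) {d : ℕ}
    (hd : d ∣ 6 ∨ d ∣ 9 ∨ d ∣ D.q - 1 ∨ d ∣ (D.q + 1) / 2 ∨
      d ∣ D.q - r + 1 ∨ d ∣ D.q + r + 1) : ∃ g : G, orderOf g = d := by
  have hpow : ∀ g : G, ∀ n, orderOf g = n → d ∣ n → ∃ g : G, orderOf g = d := by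
    rintro g n rfl h
    exact ⟨g ^ (orderOf g / d), orderOf_pow_orderOf_div (orderOf_pos g).ne' h⟩
  have hcyc : ∀ H : Subgroup G, IsCyclic H → ∀ n, Nat.card H = n → d ∣ n →
      ∃ g : G, orderOf g = d := by
    intro H hH n hn h
    obtain ⟨⟨x, hx⟩, hgen⟩ := IsCyclic.exists_ofOrder_eq_natCard (α := H)
    rw [Subgroup.orderOf_mk] at hgen
    exact hpow x n (hgen.trans hn) h
  have h27 := D.q_ge
  obtain ⟨-, e6, e9⟩ := D.card_EB
  have hlt : D.q ^ 2 < D.q ^ 3 := Nat.pow_lt_pow_right (by omega) (by norm_num)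
  obtain ⟨A, B, hA, hB, cA, cB, -, -, -, -⟩ := D.exists_tori_r hr
  rcases hd with h | h | h | h | h | h
  · obtain ⟨x, hx⟩ := Set.nonempty_of_ncard_ne_zero (s := D.EB 6) (by omega)
    exact hpow x 6 hx.2 h
  · obtain ⟨x, hx⟩ := Set.nonempty_of_ncard_ne_zero (s := D.EB 9) (by omega)
    exact hpow x 9 hx.2 h
  · exact hcyc D.T D.T_cyclic _ D.card_T h
  · have := D.Y_cyclic
    obtain ⟨⟨y, hy⟩, hgen⟩ := IsCyclic.exists_ofOrder_eq_natCard (α := D.Y)
    rw [Subgroup.orderOf_mk] at hgen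
    refine hpow (D.a * y) _ ?_ h
    rw [Commute.orderOf_mul_eq_mul_orderOf_of_coprime
      (show Commute D.a y from D.VY_comm D.a_mem_V hy) (by
      rw [orderOf_Inv2 ⟨D.a_sq, D.a_ne⟩]; exact Nat.coprime_two_left.2 (D.Y_odd hy)),
      orderOf_Inv2 ⟨D.a_sq, D.a_ne⟩, hgen]
    have := D.card_Y
    omega
  · exact hcyc A hA.cyclic _ cA h
  · exact hcyc B hB.cyclic _ cB h

include D in
/-- Sylow subgroups for primes above three are cyclic. -/
theorem sylow_cyclic_gt_three {p : ℕ} [hp : Fact p.Prime] (h3 : 3 < p) (P : Sylow p G) :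
    IsCyclic ↥(P : Subgroup G) := by
  by_cases hd : p ∣ Nat.card G
  swap
  · have : Nat.card P = 1 := by
      rw [P.card_eq_multiplicity, Nat.factorization_eq_zero_of_not_dvd hd, pow_zero]
    have : Subsingleton P := (Nat.card_eq_one_iff_unique.1 this).1
    exact isCyclic_of_subsingleton
  have hnot : ∀ n : ℕ, n ≤ 3 → 0 < n → ¬ p ∣ n := fun n hn h0 h => by
    have := Nat.le_of_dvd h0 h
    omega
  rw [D.card_G_M, show D.q ^ 2 - 1 = (4 * Nat.card D.Y) * (2 * Nat.card D.T2) by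
    rw [D.card_Y, D.card_T2, D.sq_sub_one]] at hd
  rcases (Nat.Prime.dvd_mul hp.out).1 hd with h | h
  swap
  · exact D.sylow_cyclic p hp.out h P
  rcases (Nat.Prime.dvd_mul hp.out).1 h with h | h
  · exfalso
    obtain ⟨k, hk⟩ := D.q_pow
    rw [hk] at h
    exact hnot 3 le_rfl (by norm_num) (hp.out.dvd_of_dvd_pow (hp.out.dvd_of_dvd_pow h))
  rcases (Nat.Prime.dvd_mul hp.out).1 h with h | h
  · have hY : p ∣ Nat.card D.Y := ((Nat.Prime.dvd_mul hp.out).1 h).resolve_left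
      (fun h' => hnot 2 (by norm_num) (by norm_num) (hp.out.dvd_of_dvd_pow (show p ∣ 2 ^ 2 from h')))
    have := D.Y_cyclic
    exact sylow_cyclic_of_hall D.card_G_eq (fun h' => hp.out.ne_one
      (Nat.eq_one_of_dvd_coprimes D.coprime_G hY h')) P
  · have hT : p ∣ Nat.card D.T2 :=
      ((Nat.Prime.dvd_mul hp.out).1 h).resolve_left (hnot 2 (by norm_num) (by norm_num))
    have := D.T2_cyclic
    exact sylow_cyclic_of_hall D.card_G_T2.1 (fun h' => hp.out.ne_one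
      (Nat.eq_one_of_dvd_coprimes D.card_G_T2.2 hT h')) P

end ReeData

end CfsgLib.Ree
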