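import Cfsg.Agent.Lib.Ree.Invol

/-!
The centralizers and normalizers of the tori of order `(q + 1) / 4`.
-/

set_option autoImplicit false
set_option linter.unusedSectionVars false

namespace CfsgLib.Ree

variable {G : Type*} [Group G] [Finite G]

/-- An element of prime order is conjugate into a Hall subgroup covering that prime. -/
theorem exists_conj_into {K Y : Subgroup G} (hY : Y ≤ K) {c : ℕ} (hK : Nat.card K = Nat.card Y * c)
    (hc : (Nat.card Y).Coprime c) {p : ℕ} [Fact p.Prime] (hp : p ∣ Nat.card Y) {z : G} (hz : z ∈ K)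
    (hzp : orderOf z = p) : ∃ h ∈ K, h * z * h⁻¹ ∈ Y := by
  obtain ⟨Q⟩ : Nonempty (Sylow p Y) := inferInstance
  set Q' := (((Q : Subgroup Y).map Y.subtype).subgroupOf K) with hQ'
  have hQY : (Q : Subgroup Y).map Y.subtype ≤ Y := Subgroup.map_subtype_le _
  have hcard : Nat.card Q' = p ^ (Nat.card K).factorization p := by
    rw [hQ', Nat.card_congr (Subgroup.subgroupOfEquivOfLe (hQY.trans hY)).toEquiv,
      Subgroup.card_map_of_injective Y.subtype_injective, Q.card_eq_multiplicity, hK,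
      Nat.factorization_mul Nat.card_pos.ne' (fun h => by
        have := Nat.card_pos (α := K); rw [hK, h, mul_zero] at this; omega), Finsupp.add_apply,
      Nat.factorization_eq_zero_of_not_dvd (n := c) (fun h => (Fact.out : p.Prime).ne_one
        (Nat.eq_one_of_dvd_coprimes hc hp h)), add_zero]
  have hzP : IsPGroup p (Subgroup.zpowers (⟨z, hz⟩ : K)) :=
    IsPGroup.of_card (n := 1) (by rw [Nat.card_zpowers, Subgroup.orderOf_mk, hzp, pow_one])
  obtain ⟨P, hP⟩ := hzP.exists_le_sylow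
  obtain ⟨h, hh⟩ := MulAction.exists_smul_eq K P (Sylow.ofCard Q' hcard)
  refine ⟨h, h.2, ?_⟩
  have h1 : MulAut.conj h ⟨z, hz⟩ ∈ ((h • P : Sylow p K) : Subgroup K) :=
    Subgroup.smul_mem_pointwise_smul _ (MulAut.conj h) _ (hP (Subgroup.mem_zpowers _))
  rw [hh] at h1
  exact hQY (Subgroup.mem_subgroupOf.1 (h1 : MulAut.conj h ⟨z, hz⟩ ∈ Q'))

/-- Orbit-stabilizer for simultaneous conjugation. -/
theorem card_orbit_conjPair (N K : Subgroup G) (hKN : K ≤ N) (p : G × G)
    (h : ∀ g ∈ N, conjPair g p = p ↔ g ∈ K) :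
    ((fun g => conjPair g p) '' (N : Set G)).ncard * Nat.card K = Nat.card N := by
  have hker : ∀ g g' : ↥N, g⁻¹ * g' ∈ K.subgroupOf N ↔
      conjPair (g : G) p = conjPair (g' : G) p := by
    intro g g'
    rw [Subgroup.mem_subgroupOf, ← h _ (g⁻¹ * g').2]
    simp only [Subgroup.coe_mul, Subgroup.coe_inv]
    rw [conjPair_mul]
    constructor
    · intro h'
      have := congrArg (conjPair (g : G)) h'
      rwa [← conjPair_mul, mul_inv_cancel, conjPair_one, eq_comm] at this
    · intro h'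
      rw [← h', ← conjPair_mul, inv_mul_cancel, conjPair_one]
  let F : ↥N ⧸ K.subgroupOf N → ↥((fun g => conjPair g p) '' (N : Set G)) :=
    Quotient.lift (fun g : ↥N => ⟨conjPair (g : G) p, g, g.2, rfl⟩)
      fun g g' h' => Subtype.ext ((hker g g').1 (QuotientGroup.leftRel_apply.1 h'))
  have hF : Function.Bijective F := by
    constructor
    · intro x y
      induction x using Quotient.inductionOn with | h g => ?_
      induction y using Quotient.inductionOn with | h g' => ?_
      exact fun h' => Quotient.sound (QuotientGroup.leftRel_apply.2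
        ((hker g g').2 (congrArg Subtype.val h')))
    · rintro ⟨_, g, hg, rfl⟩
      exact ⟨QuotientGroup.mk ⟨g, hg⟩, rfl⟩
  rw [← Nat.card_coe_set_eq, ← Nat.card_congr (Equiv.ofBijective F hF), ← Subgroup.index_eq_card,
    ← Nat.card_congr (Subgroup.subgroupOfEquivOfLe hKN).toEquiv, Subgroup.index_mul_card]

/-- Subgroups of a cyclic subgroup with the same order coincide. -/
theorem eq_of_card_eq_cyclic {W H K : Subgroup G} [IsCyclic W] (hH : H ≤ W) (hK : K ≤ W)
    (hc : Nat.card H = Nat.card K) : H = K := by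
  classical
  let _ : Fintype W := Fintype.ofFinite W
  have h1 := IsCyclic.card_pow_eq_one_le (α := W) (n := Nat.card H) Nat.card_pos
  set S := Finset.univ.filter fun x : W => x ^ Nat.card H = 1 with hS
  have key : ∀ L : Subgroup G, L ≤ W → Nat.card L = Nat.card H →
      Finset.univ.filter (fun x : W => (x : G) ∈ L) = S := by
    intro L hL hcard
    refine Finset.eq_of_subset_of_card_le (fun x hx => ?_) ?_
    · rw [Finset.mem_filter] at hx
      rw [hS, Finset.mem_filter]
      refine ⟨Finset.mem_univ _, Subtype.ext ?_⟩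
      have := congrArg Subtype.val (pow_card_eq_one' (x := (⟨(x : G), hx.2⟩ : L)))
      rw [← hcard, SubgroupClass.coe_pow, OneMemClass.coe_one]
      exact this
    · refine h1.trans (le_of_eq ?_)
      rw [← hcard, ← Nat.card_congr (Subgroup.subgroupOfEquivOfLe hL).toEquiv,
        Nat.card_eq_fintype_card]
      exact Fintype.card_subtype _
  have e := (key H hH rfl).trans (key K hK hc.symm).symm
  ext x
  constructor
  · intro hx
    simpa using (Finset.ext_iff.1 e ⟨x, hH hx⟩).1 (by simpa using hx)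
  · intro hx
    simpa using (Finset.ext_iff.1 e ⟨x, hK hx⟩).2 (by simpa using hx)

namespace ReeData

variable (D : ReeData G)

lemma card_Y_coprime :
    (Nat.card D.Y).Coprime (4 * (D.q * (D.q - 1))) ∧
      (Nat.card D.Y).Coprime (D.q ^ 2 - D.q + 1) := by
  obtain ⟨hq, h8, h3⟩ := D.q_facts
  obtain ⟨ho, -, hn3⟩ := D.card_Y_odd
  have hr := D.card_Y
  have h2 := Nat.odd_iff.1 ho
  refine ⟨Nat.coprime_of_dvd fun p hp h1 h2' => ?_, Nat.coprime_of_dvd fun p hp h1 h2' => ?_⟩
  · have hq1 : p ∣ D.q + 1 := hr ▸ Dvd.dvd.mul_left h1 4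
    rcases (Nat.Prime.dvd_mul hp).1 h2' with h | h
    · have : p ∣ 2 := hp.dvd_of_dvd_pow (show p ∣ 2 ^ 2 from h)
      have := (Nat.prime_dvd_prime_iff_eq hp Nat.prime_two).1 this
      subst this; omega
    · rcases (Nat.Prime.dvd_mul hp).1 h with h | h
      · exact hp.ne_one (Nat.dvd_one.1 (by simpa using Nat.dvd_sub hq1 h))
      · have : p ∣ 2 := by
          have := Nat.dvd_sub hq1 h
          rwa [show D.q + 1 - (D.q - 1) = 2 by omega] at this
        have := (Nat.prime_dvd_prime_iff_eq hp Nat.prime_two).1 this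
        subst this; omega
  · have hq1 : p ∣ D.q + 1 := hr ▸ Dvd.dvd.mul_left h1 4
    have hM : p ∣ 3 := by
      have h4 : p ∣ (D.q + 1) * (D.q + 1) := Dvd.dvd.mul_left hq1 _
      have h5 : p ∣ 3 * D.q := by
        have := Nat.dvd_sub h4 h2'
        have e : (D.q + 1) * (D.q + 1) - (D.q ^ 2 - D.q + 1) = 3 * D.q := by
          have : D.q ≤ D.q ^ 2 := Nat.le_self_pow (by norm_num) _
          have : (D.q + 1) * (D.q + 1) = D.q ^ 2 + 2 * D.q + 1 := by ring
          omega
        rwa [e] at this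
      rcases (Nat.Prime.dvd_mul hp).1 h5 with h | h
      · exact h
      · exact absurd (Nat.dvd_one.1 (by simpa using Nat.dvd_sub hq1 h)) hp.ne_one
    have := (Nat.prime_dvd_prime_iff_eq hp Nat.prime_three).1 hM
    subst this
    exact hn3 h1

lemma cube_add_one : D.q ^ 3 + 1 = (D.q + 1) * (D.q ^ 2 - D.q + 1) := by
  have : D.q ≤ D.q ^ 2 := Nat.le_self_pow (by norm_num) _
  zify [this]
  ring

lemma card_Ca_eq :
    Nat.card ↥(Subgroup.centralizer {D.a}) = Nat.card D.Y * (4 * (D.q * (D.q - 1))) := by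
  rw [D.card_Ca, show Nat.card D.Y * (4 * (D.q * (D.q - 1))) =
    (4 * Nat.card D.Y) * (D.q * (D.q - 1)) by ring, D.card_Y]
  have h1 : 1 ≤ D.q := by have := D.q_ge; omega
  have h2 : 1 ≤ D.q ^ 2 := Nat.one_le_pow _ _ h1
  zify [h1, h2]
  ring

lemma card_G_eq : Nat.card G = Nat.card D.Y *
    (4 * (D.q * (D.q - 1)) * (D.q ^ 2 * (D.q ^ 2 - D.q + 1))) := by
  rw [D.card_G, D.cube_add_one, ← D.card_Y]; ring

lemma coprime_G : (Nat.card D.Y).Coprime
    (4 * (D.q * (D.q - 1)) * (D.q ^ 2 * (D.q ^ 2 - D.q + 1))) := by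
  obtain ⟨h1, h2⟩ := D.card_Y_coprime
  refine h1.mul_right ((Nat.Coprime.pow_right 2 ?_).mul_right h2)
  exact (h1.coprime_dvd_right (Dvd.dvd.mul_left (dvd_mul_right _ _) 4))

/-- A prime order power in `Y`. -/
lemma exists_prime_pow {y : G} (hy1 : y ≠ 1) :
    ∃ p k, p.Prime ∧ p ∣ orderOf y ∧ orderOf (y ^ k) = p := by
  obtain ⟨p, hp, hdvd⟩ := Nat.exists_prime_and_dvd (fun h => hy1 (orderOf_eq_one_iff.1 h))
  refine ⟨p, orderOf y / p, hp, hdvd, ?_⟩
  exact orderOf_pow_orderOf_div (orderOf_pos y).ne' hdvd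

/-- Elements of odd order commuting with `a` and with an element of prime order dividing `|Y|`. -/
lemma cent_a_odd {z : G} (hz : D.a * z = z * D.a) {p : ℕ} (hp : p.Prime) (hdvd : p ∣ Nat.card D.Y)
    (hzp : orderOf z = p) :
    ∃ h : G, ∀ x : G, D.a * x = x * D.a → z * x = x * z → Odd (orderOf x) → h * x * h⁻¹ ∈ D.Y := by
  have := Fact.mk hp
  obtain ⟨h, hh, hzY⟩ := exists_conj_into (inf_le_left.trans' D.Y_le) D.card_Ca_eq D.card_Y_coprime.1
    hdvd (Subgroup.mem_centralizer_singleton_iff.2 hz.symm) hzp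
  have hah : h * D.a * h⁻¹ = D.a :=
    mul_inv_eq_iff_eq_mul.2 (Subgroup.mem_centralizer_singleton_iff.1 hh)
  refine ⟨h, fun x hxa hxz ho => D.cent_aY _ hzY ?_ _ ?_ ?_ ?_⟩
  · rw [Ne, conj_eq_one_iff]
    rintro rfl
    rw [orderOf_one] at hzp
    exact hp.ne_one hzp.symm
  · calc D.a * (h * x * h⁻¹) = h * D.a * h⁻¹ * (h * x * h⁻¹) := by rw [hah]
      _ = h * (D.a * x) * h⁻¹ := by group
      _ = h * x * h⁻¹ * (h * D.a * h⁻¹) := by rw [hxa]; group
      _ = _ := by rw [hah]
  · calc _ = h * (z * x) * h⁻¹ := by group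
      _ = _ := by rw [hxz]; group
  · rwa [← MulAut.conj_apply, MulEquiv.orderOf_eq]

lemma mem_CV_iff (k : G) : k ∈ Subgroup.centralizer (D.V : Set G) ↔
    k * D.a * k⁻¹ = D.a ∧ k * D.b * k⁻¹ = D.b := by
  rw [D.centralizer_V, Subgroup.mem_inf, Subgroup.mem_centralizer_singleton_iff,
    Subgroup.mem_centralizer_singleton_iff, mul_inv_eq_iff_eq_mul, mul_inv_eq_iff_eq_mul]

/-- An element permuting the four group has its square or its cube centralizing it. -/
lemma perm_V {g : G} (hg : g ∈ Subgroup.normalizer (D.V : Set G)) :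
    g * g ∈ Subgroup.centralizer (D.V : Set G) ∨ g * g * g ∈ Subgroup.centralizer (D.V : Set G) := by
  obtain ⟨h1, h2, h3⟩ := D.ab_ne
  have key : ∀ k : G, (k ∈ Subgroup.centralizer (D.V : Set G) ↔
      k * D.a * k⁻¹ = D.a ∧ k * D.b * k⁻¹ = D.b) := by
    intro k
    rw [D.centralizer_V, Subgroup.mem_inf, Subgroup.mem_centralizer_singleton_iff,
      Subgroup.mem_centralizer_singleton_iff, mul_inv_eq_iff_eq_mul, mul_inv_eq_iff_eq_mul]
  have himg : ∀ v ∈ D.V, v ≠ 1 → g * v * g⁻¹ = D.a ∨ g * v * g⁻¹ = D.b ∨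
      g * v * g⁻¹ = D.a * D.b := fun v hv hv1 =>
    ((Subgroup.mem_normalizer_iff.1 hg v).1 hv).resolve_left
      fun h => hv1 (conj_eq_one_iff.1 h)
  have hab : g * (D.a * D.b) * g⁻¹ = (g * D.a * g⁻¹) * (g * D.b * g⁻¹) := by group
  have e2 : ∀ v : G, g * g * v * (g * g)⁻¹ = g * (g * v * g⁻¹) * g⁻¹ := fun v => by group
  have e3 : ∀ v : G, g * g * g * v * (g * g * g)⁻¹ = g * (g * (g * v * g⁻¹) * g⁻¹) * g⁻¹ :=
    fun v => by group
  have eba : D.b * D.a = D.a * D.b := D.ab_comm.symm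
  have f1 : D.a * (D.a * D.b) = D.b := by rw [← mul_assoc, D.a_sq, one_mul]
  have f2 : D.b * (D.a * D.b) = D.a := by rw [← mul_assoc, eba, mul_assoc, D.b_sq, mul_one]
  have f3 : D.a * D.b * D.a = D.b := by rw [mul_assoc, eba, f1]
  have f4 : D.a * D.b * D.b = D.a := by rw [mul_assoc, D.b_sq, mul_one]
  have hne : g * D.a * g⁻¹ ≠ g * D.b * g⁻¹ := fun h =>
    D.b_ne_a (mul_left_cancel (mul_right_cancel h)).symm
  rw [key, key, e2, e2, e3, e3]
  rcases himg D.a D.a_mem_V D.a_ne with ha | ha | ha <;>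
    rcases himg D.b D.b_mem_V D.b_ne with hb | hb | hb
  all_goals first
    | exact absurd (ha.trans hb.symm) hne
    | (left; simp only [ha, hb, hab, f1, f2, f3, f4, eba, and_self]; done)
    | (right; simp only [ha, hb, hab, f1, f2, f3, f4, eba, and_self]; done)

/-- Elements centralizing a nontrivial element of `Y` and normalizing `V` centralize `V`. -/
lemma automizer_V {y g : G} (hy : y ∈ D.Y) (hy1 : y ≠ 1) (hgy : g * y = y * g)
    (hg : g ∈ Subgroup.normalizer (D.V : Set G)) : g ∈ Subgroup.centralizer (D.V : Set G) := by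
  rcases D.perm_V hg with h | h
  · exact D.mem_CV_of_sq hg h
  by_cases h3 : 3 ∣ orderOf g
  · exfalso
    set u := g ^ (orderOf g / 3) with hu
    have hu3 : orderOf u = 3 := orderOf_pow_orderOf_div (orderOf_pos g).ne' h3
    obtain ⟨k, hk⟩ := D.three_element (g := u) ⟨1, by
      rw [pow_one, ← hu3]; exact pow_orderOf_eq_one u⟩
    have hu1 : k * u * k⁻¹ ≠ 1 := fun h => by
      rw [conj_eq_one_iff] at h
      rw [h, orderOf_one] at hu3
      omega
    have hc : k * y * k⁻¹ ∈ D.B := D.centralizer_le_B hk hu1 (by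
      rw [Subgroup.mem_centralizer_singleton_iff]
      have : Commute y u := (Commute.symm (hgy : Commute g y)).pow_right _
      calc k * y * k⁻¹ * (k * u * k⁻¹) = k * (y * u) * k⁻¹ := by group
        _ = _ := by rw [this.eq]; group)
    have h1 : orderOf (k * y * k⁻¹) ∣ Nat.card D.B := Subgroup.orderOf_dvd_natCard _ hc
    rw [← MulAut.conj_apply, MulEquiv.orderOf_eq, D.card_B] at h1
    have hcop : (Nat.card D.Y).Coprime (D.q ^ 3 * (D.q - 1)) := by
      have hq := D.card_Y_coprime.1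
      exact (Nat.Coprime.pow_right 3 (hq.coprime_dvd_right (Dvd.dvd.mul_left (dvd_mul_right _ _) 4))).mul_right
        (hq.coprime_dvd_right (Dvd.dvd.mul_left (dvd_mul_left _ _) 4))
    exact hy1 (orderOf_eq_one_iff.1
      (Nat.eq_one_of_dvd_coprimes hcop (Subgroup.orderOf_dvd_natCard _ hy) h1))
  · obtain ⟨m, hm⟩ : ∃ m : ℕ, (g * g * g) ^ m = g := by
      have hcop : Nat.Coprime 3 (orderOf g) :=
        (Nat.Prime.coprime_iff_not_dvd Nat.prime_three).2 h3
      have e : g * g * g = g ^ 3 := by rw [pow_succ, pow_two]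
      rw [e]
      exact exists_pow_eq_self_of_coprime hcop
    rw [← hm]
    exact pow_mem h m

/-- The centralizer of a nontrivial element of `Y`. -/
theorem centralizer_Y {y : G} (hy : y ∈ D.Y) (hy1 : y ≠ 1) : Subgroup.centralizer {y} = D.VY := by
  have : Fact (Nat.Prime 2) := ⟨Nat.prime_two⟩
  set H := Subgroup.centralizer {y} with hH
  have hVYH : D.VY ≤ H := fun x hx =>
    Subgroup.mem_centralizer_singleton_iff.2 (D.VY_abelian hx (D.Y_le_VY hy))
  have hVH : D.V ≤ H := D.V_le_VY.trans hVYH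
  have hfac : (Nat.card H).factorization 2 = 2 := by
    have h4 : 2 ^ 2 ∣ Nat.card H := by
      have := Subgroup.card_dvd_of_le hVH
      rwa [D.card_V] at this
    have hle := (Nat.Prime.pow_dvd_iff_le_factorization Nat.prime_two Nat.card_pos.ne').1 h4
    by_contra hne
    have h8 : 2 ^ 3 ∣ Nat.card H :=
      (Nat.Prime.pow_dvd_iff_le_factorization Nat.prime_two Nat.card_pos.ne').2 (by omega)
    obtain ⟨P, hP⟩ := Sylow.exists_subgroup_card_pow_prime 2 h8
    obtain ⟨g, hg⟩ := D.exists_conj_S (P := P.map H.subtype)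
      ((IsPGroup.of_card hP).map H.subtype)
    have heq : (P.map H.subtype).map (MulAut.conj g).toMonoidHom = (D.S0 : Subgroup G) := by
      refine Subgroup.eq_of_le_of_card_ge ?_ ?_
      · rintro _ ⟨x, hx, rfl⟩; exact hg x hx
      · rw [D.card_S, Subgroup.card_map_of_injective (MulAut.conj g).injective,
          Subgroup.card_map_of_injective H.subtype_injective, hP]
        norm_num
    have hc : g * y * g⁻¹ ∈ Subgroup.centralizer ((D.S0 : Subgroup G) : Set G) := by
      rw [Subgroup.mem_centralizer_iff]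
      intro s hs
      rw [← heq] at hs
      obtain ⟨x, ⟨x', -, rfl⟩, rfl⟩ := hs
      have hx' := Subgroup.mem_centralizer_singleton_iff.1 x'.2
      change g * (x' : G) * g⁻¹ * (g * y * g⁻¹) = g * y * g⁻¹ * (g * (x' : G) * g⁻¹)
      calc g * (x' : G) * g⁻¹ * (g * y * g⁻¹) = g * ((x' : G) * y) * g⁻¹ := by group
        _ = _ := by rw [hx']; group
    rw [D.cent_S] at hc
    have h2 := D.S_sq _ hc
    rw [show g * y * g⁻¹ * (g * y * g⁻¹) = g * (y * y) * g⁻¹ by group, conj_eq_one_iff] at h2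
    exact hy1 (D.Y_sq hy h2)
  set P : Sylow 2 H := Sylow.ofCard (D.V.subgroupOf H) (by
    rw [Nat.card_congr (Subgroup.subgroupOfEquivOfLe hVH).toEquiv, D.card_V, hfac]; norm_num) with hP
  have hNC : Subgroup.normalizer ((P : Subgroup H) : Set H) ≤
      Subgroup.centralizer ((P : Subgroup H) : Set H) := by
    intro g hg
    change g ∈ Subgroup.normalizer (D.V.subgroupOf H : Set H) at hg
    have hgV : (g : G) ∈ Subgroup.normalizer (D.V : Set G) := by
      refine Subgroup.mem_normalizer_fintype fun x hx => ?_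
      have := (Subgroup.mem_normalizer_iff.1 hg ⟨x, hVH hx⟩).1 (Subgroup.mem_subgroupOf.2 hx)
      exact Subgroup.mem_subgroupOf.1 this
    have hgc := D.automizer_V hy hy1 (Subgroup.mem_centralizer_singleton_iff.1 g.2) hgV
    rw [Subgroup.mem_centralizer_iff] at hgc ⊢
    intro x hx
    exact Subtype.ext (hgc x (Subgroup.mem_subgroupOf.1 hx))
  set O := (MonoidHom.transferSylow P hNC).ker with hO
  have hcompl : Subgroup.IsComplement' O (P : Subgroup H) :=
    MonoidHom.ker_transferSylow_isComplement' P hNC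
  have hcardO : Nat.card O * 4 = Nat.card H := by
    rw [← hcompl.card_mul_card, ← D.card_V, ← Nat.card_congr (Subgroup.subgroupOfEquivOfLe hVH).toEquiv]
    rfl
  have hOodd : ¬ 2 ∣ Nat.card O := fun h => by
    have h8 : 2 ^ 3 ∣ Nat.card H := by
      rw [← hcardO, show 2 ^ 3 = 2 * 4 by norm_num]; exact Nat.mul_dvd_mul h dvd_rfl
    have := (Nat.Prime.pow_dvd_iff_le_factorization Nat.prime_two Nat.card_pos.ne').1 h8
    omega
  have hYO : D.Y.subgroupOf H ≤ O := by
    intro x hx
    have hx' := Subgroup.mem_subgroupOf.1 hx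
    have hidx : O.index = 4 := by
      rw [hcompl.symm.index_eq_card, ← D.card_V, ← Nat.card_congr (Subgroup.subgroupOfEquivOfLe hVH).toEquiv]
      rfl
    have h1 : orderOf (x : H ⧸ O) ∣ 4 := by
      rw [← hidx, Subgroup.index_eq_card]; exact orderOf_dvd_natCard _
    have h2 : orderOf (x : H ⧸ O) ∣ Nat.card D.Y := by
      refine (orderOf_map_dvd (QuotientGroup.mk' O) x).trans ?_
      rw [← Subgroup.orderOf_coe]
      exact Subgroup.orderOf_dvd_natCard _ hx'
    have hcop : Nat.Coprime 4 (Nat.card D.Y) :=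
      Nat.Coprime.pow_left 2 (Nat.coprime_two_left.2 D.card_Y_odd.1)
    exact (QuotientGroup.eq_one_iff x).1
      (orderOf_eq_one_iff.1 (Nat.eq_one_of_dvd_coprimes hcop h1 h2))
  set O' := O.map H.subtype with hO'
  have hYO' : D.Y ≤ O' := fun x hx =>
    ⟨⟨x, hVYH (D.Y_le_VY hx)⟩, hYO (Subgroup.mem_subgroupOf.2 hx), rfl⟩
  obtain ⟨p, k, hp, hpy, hk⟩ := exists_prime_pow hy1
  have hpY : p ∣ Nat.card D.Y := hpy.trans (Subgroup.orderOf_dvd_natCard _ hy)
  have hOle : O' ≤ D.Y := by
    have : IsMulCommutative D.V := ⟨⟨fun u w => Subtype.ext (D.V_comm u.2 w.2)⟩⟩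
    refine Coprime.le_of_centralizer_le (A := D.V) ?_ ?_ ?_ ?_
    · exact Coprime.not_isCyclic_of_exponent (p := 2)
        (fun v hv => by rw [pow_two, D.V_sq hv]) two_pos (by rw [D.card_V]; norm_num)
    · intro v hv
      refine Subgroup.mem_normalizer_fintype fun x hx => ?_
      obtain ⟨x', hx', rfl⟩ := hx
      exact ⟨_, (MonoidHom.normal_ker (MonoidHom.transferSylow P hNC)).conj_mem x' hx' ⟨v, hVH hv⟩,
        rfl⟩
    · rw [D.card_V, hO', Subgroup.card_map_of_injective H.subtype_injective]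
      exact Nat.Coprime.pow_left 2 ((Nat.Prime.coprime_iff_not_dvd Nat.prime_two).2 hOodd)
    · intro v hv hv1
      obtain ⟨g, hg⟩ := D.isConj_a (D.V_sq hv) hv1
      set K := O' ⊓ Subgroup.centralizer {v} with hK
      have hYK : D.Y ≤ K := le_inf hYO' fun x hx =>
        Subgroup.mem_centralizer_singleton_iff.2 (D.VY_comm hv hx).symm
      have hav : ∀ x : G, v * x = x * v → D.a * (g⁻¹ * x * g) = g⁻¹ * x * g * D.a := by
        intro x hx
        calc D.a * (g⁻¹ * x * g) = g⁻¹ * (g * D.a * g⁻¹ * x) * g := by group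
          _ = g⁻¹ * (x * (g * D.a * g⁻¹)) * g := by rw [hg, hx]
          _ = _ := by group
      obtain ⟨h, hh⟩ := D.cent_a_odd (z := g⁻¹ * y ^ k * g)
        (hav _ (D.VY_comm hv (pow_mem hy k))) hp hpY (by
          rw [show g⁻¹ * y ^ k * g = MulAut.conj g⁻¹ (y ^ k) by simp, MulEquiv.orderOf_eq, hk])
      have hsub : ∀ x ∈ K, h * g⁻¹ * x * (h * g⁻¹)⁻¹ ∈ D.Y := by
        intro x hx
        obtain ⟨hx1, hx2⟩ := Subgroup.mem_inf.1 hx
        obtain ⟨x', hx', rfl⟩ := hx1
        have hodd : Odd (orderOf (x' : G)) := by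
          rw [Subgroup.orderOf_coe]
          exact (Nat.odd_iff.2 (by omega : Nat.card O % 2 = 1)).of_dvd_nat
            (Subgroup.orderOf_dvd_natCard _ hx')
        have hcy : y ^ k * (x' : G) = (x' : G) * y ^ k :=
          ((Commute.symm (Subgroup.mem_centralizer_singleton_iff.1 x'.2 : Commute (x' : G) y)).pow_left
            k).eq
        have := hh (g⁻¹ * (x' : G) * g)
          (hav _ (Subgroup.mem_centralizer_singleton_iff.1 hx2).symm)
          (by
            calc g⁻¹ * y ^ k * g * (g⁻¹ * (x' : G) * g) = g⁻¹ * (y ^ k * (x' : G)) * g := by group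
              _ = _ := by rw [hcy]; group)
          (by rwa [show g⁻¹ * (x' : G) * g = MulAut.conj g⁻¹ (x' : G) by simp, MulEquiv.orderOf_eq])
        convert this using 1
        rw [Subgroup.coe_subtype]
        group
      have hle : Nat.card K ≤ Nat.card D.Y :=
        Nat.card_le_card_of_injective (fun x : K => (⟨_, hsub x x.2⟩ : D.Y)) fun x x' hxx =>
          Subtype.ext (mul_left_cancel (mul_right_cancel (congrArg Subtype.val hxx)))
      exact (Subgroup.eq_of_le_of_card_ge hYK hle).ge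
  refine (Subgroup.eq_of_le_of_card_ge hVYH ?_).symm
  rw [← hcardO, D.card_VY, ← D.card_Y, ← Subgroup.card_map_of_injective H.subtype_injective, ← hO',
    le_antisymm hOle hYO', mul_comm]

/-- The elements of prime order dividing `|Y|` are conjugate into `Y`. -/
lemma exists_conj_Y {z : G} {p : ℕ} (hp : p.Prime) (hdvd : p ∣ Nat.card D.Y) (hzp : orderOf z = p) :
    ∃ h, h * z * h⁻¹ ∈ D.Y := by
  have := Fact.mk hp
  obtain ⟨h, -, hh⟩ := exists_conj_into (le_top : D.Y ≤ ⊤)
    (by rw [Subgroup.card_top]; exact D.card_G_eq) D.coprime_G hdvd (Subgroup.mem_top z) hzp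
  exact ⟨h, hh⟩

lemma centralizer_V_le_normalizer : Subgroup.centralizer (D.V : Set G) ≤
    Subgroup.normalizer (D.Y : Set G) := by
  intro x hx
  refine Subgroup.mem_normalizer_fintype fun y hy => ?_
  refine D.odd_CV ?_ ?_
  · rw [← D.centralizer_V]
    exact mul_mem (mul_mem hx (D.centralizer_V.ge (D.Y_le hy))) (inv_mem hx)
  · rw [← MulAut.conj_apply, MulEquiv.orderOf_eq]
    exact D.Y_odd hy

lemma normalizer_V_le : Subgroup.normalizer (D.V : Set G) ≤ Subgroup.normalizer (D.Y : Set G) := by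
  intro g hg
  refine Subgroup.mem_normalizer_fintype fun y hy => ?_
  refine D.odd_CV ?_ ?_
  · rw [← D.centralizer_V, Subgroup.mem_centralizer_iff]
    intro v hv
    have h1 := Subgroup.mem_centralizer_iff.1 (D.centralizer_V.ge (D.Y_le hy)) _
      ((Subgroup.mem_normalizer_iff''.1 hg v).1 hv)
    calc v * (g * y * g⁻¹) = g * (g⁻¹ * v * g * y) * g⁻¹ := by group
      _ = _ := by rw [h1]; group
  · rw [← MulAut.conj_apply, MulEquiv.orderOf_eq]
    exact D.Y_odd hy

lemma mem_V_of_sq {x : G} (hx : x ∈ D.VY) (h : x * x = 1) : x ∈ D.V := by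
  obtain ⟨v, hv, y, hy, rfl⟩ := hx
  have h1 : y * y = 1 := by
    rwa [(Commute.symm (D.VY_comm hv hy : Commute v y)).mul_mul_mul_comm, D.V_sq hv, one_mul] at h
  rw [D.Y_sq hy h1, mul_one]
  exact hv

/-- An element moving a nontrivial element of `Y` into `Y` normalizes `V`. -/
lemma conj_Y_mem {g y : G} (hy : y ∈ D.Y) (hy1 : y ≠ 1) (hg : g * y * g⁻¹ ∈ D.Y) :
    g ∈ Subgroup.normalizer (D.V : Set G) := by
  refine Subgroup.mem_normalizer_fintype fun v hv => ?_
  refine D.mem_V_of_sq ?_ ?_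
  · rw [← D.centralizer_Y hg (fun h => hy1 (conj_eq_one_iff.1 h)),
      Subgroup.mem_centralizer_singleton_iff]
    calc g * v * g⁻¹ * (g * y * g⁻¹) = g * (v * y) * g⁻¹ := by group
      _ = _ := by rw [D.VY_comm hv hy]; group
  · rw [show g * v * g⁻¹ * (g * v * g⁻¹) = g * (v * v) * g⁻¹ by group, D.V_sq hv, mul_one,
      mul_inv_cancel]

/-- The normalizer of a nontrivial subgroup of `Y`. -/
theorem normalizer_Y_sub {Y0 : Subgroup G} (hle : Y0 ≤ D.Y) (hne : Y0 ≠ ⊥) :
    Subgroup.normalizer (Y0 : Set G) = Subgroup.normalizer (D.V : Set G) := by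
  refine le_antisymm (fun g hg => ?_) fun g hg => ?_
  · obtain ⟨y, hy, hy1⟩ := ((Subgroup.ne_bot_iff_exists_ne_one (H := Y0)).1 hne).elim
      fun y hy => (⟨(y : G), y.2, fun h => hy (Subtype.ext h)⟩ : ∃ z : G, z ∈ Y0 ∧ z ≠ 1)
    exact D.conj_Y_mem (hle hy) hy1 (hle ((Subgroup.mem_normalizer_iff.1 hg y).1 hy))
  · have hgY := D.normalizer_V_le hg
    have := D.Y_cyclic
    refine Subgroup.mem_normalizer_fintype fun y hy => ?_
    have hmap : Y0.map (MulAut.conj g).toMonoidHom ≤ D.Y := by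
      rintro _ ⟨z, hz, rfl⟩
      exact (Subgroup.mem_normalizer_iff.1 hgY z).1 (hle hz)
    have e : Y0.map (MulAut.conj g).toMonoidHom = Y0 :=
      eq_of_card_eq_cyclic hmap hle
        (Subgroup.card_map_of_injective (MulAut.conj g).injective)
    have h1 : g * y * g⁻¹ ∈ Y0.map (MulAut.conj g).toMonoidHom := ⟨y, hy, rfl⟩
    exact e.le h1

/-- The order of the normalizer of `V`. -/
theorem card_normalizer_V :
    Nat.card ↥(Subgroup.normalizer (D.V : Set G)) = 6 * (D.q + 1) := by
  obtain ⟨g, hga, hgb⟩ := D.exists_cycle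
  obtain ⟨h1, h2, h3⟩ := D.ab_ne
  have hgab : g * (D.a * D.b) * g⁻¹ = D.a := by
    rw [show g * (D.a * D.b) * g⁻¹ = g * D.a * g⁻¹ * (g * D.b * g⁻¹) by group, hga, hgb,
      ← mul_assoc, ← D.ab_comm, mul_assoc, D.b_sq, mul_one]
  have hgN : g ∈ Subgroup.normalizer (D.V : Set G) :=
    D.normalizer_V_mem (hga ▸ D.b_mem_V) (hgb ▸ mul_mem D.a_mem_V D.b_mem_V)
  set C := Subgroup.centralizer {D.a} ⊓ Subgroup.centralizer {D.b} with hC
  have hCN : C ≤ Subgroup.normalizer (D.V : Set G) := by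
    rw [hC, ← D.centralizer_V]; exact Subgroup.centralizer_le_normalizer _
  have horb := card_orbit_conjPair (Subgroup.normalizer (D.V : Set G)) C hCN (D.a, D.b)
    fun k _ => by
      rw [hC, Subgroup.mem_inf, Subgroup.mem_centralizer_singleton_iff,
        Subgroup.mem_centralizer_singleton_iff, ← mul_inv_eq_iff_eq_mul, ← mul_inv_eq_iff_eq_mul]
      exact ⟨fun h => ⟨congrArg Prod.fst h, congrArg Prod.snd h⟩, fun h => Prod.ext h.1 h.2⟩
  have himg : (fun k => conjPair k (D.a, D.b)) '' (Subgroup.normalizer (D.V : Set G) : Set G) =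
      {(D.a, D.b), (D.b, D.a * D.b), (D.a * D.b, D.a)} := by
    refine Set.Subset.antisymm ?_ ?_
    · rintro _ ⟨k, hk, rfl⟩
      have hka := ((Subgroup.mem_normalizer_iff.1 hk D.a).1 D.a_mem_V).resolve_left
        fun h => D.a_ne (conj_eq_one_iff.1 h)
      have hkb := ((Subgroup.mem_normalizer_iff.1 hk D.b).1 D.b_mem_V).resolve_left
        fun h => D.b_ne (conj_eq_one_iff.1 h)
      have hne : k * D.a * k⁻¹ ≠ k * D.b * k⁻¹ := fun h =>
        D.b_ne_a (mul_left_cancel (mul_right_cancel h)).symm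
      simp only [conjPair, Set.mem_insert_iff, Set.mem_singleton_iff, Prod.mk.injEq]
      rcases hka with ha | ha | ha <;> rcases hkb with hb | hb | hb
      all_goals first
        | exact absurd (ha.trans hb.symm) hne
        | exact Or.inl ⟨ha, hb⟩
        | exact Or.inr (Or.inl ⟨ha, hb⟩)
        | exact Or.inr (Or.inr ⟨ha, hb⟩)
        | skip
      all_goals
        exfalso
        have hsq : k * k ∈ Subgroup.centralizer (D.V : Set G) := by
          have eba : D.b * D.a = D.a * D.b := D.ab_comm.symm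
          have hab : k * (D.a * D.b) * k⁻¹ = (k * D.a * k⁻¹) * (k * D.b * k⁻¹) := by group
          rw [D.mem_CV_iff, show k * k * D.a * (k * k)⁻¹ = k * (k * D.a * k⁻¹) * k⁻¹ by group,
            show k * k * D.b * (k * k)⁻¹ = k * (k * D.b * k⁻¹) * k⁻¹ by group]
          simp only [ha, hb, hab]
          simp [← mul_assoc, eba, D.a_sq, mul_assoc D.a D.b D.b, D.b_sq]
          try simp [mul_assoc, eba, D.a_sq, D.b_sq]
        have hc := (D.mem_CV_iff k).1 (D.mem_CV_of_sq hk hsq)
        rw [ha, hb] at hc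
        simp [D.b_ne_a, h2, h3, Ne.symm h3, Ne.symm h2, Ne.symm D.b_ne_a] at hc
    · rintro _ (rfl | rfl | rfl)
      · exact ⟨1, one_mem _, conjPair_one _⟩
      · exact ⟨g, hgN, Prod.ext hga hgb⟩
      · refine ⟨g * g, mul_mem hgN hgN, ?_⟩
        show conjPair (g * g) (D.a, D.b) = _
        rw [conjPair_mul, show conjPair g (D.a, D.b) = (D.b, D.a * D.b) from Prod.ext hga hgb]
        exact Prod.ext hgb hgab
  have h3' : ({(D.a, D.b), (D.b, D.a * D.b), (D.a * D.b, D.a)} : Set (G × G)).ncard = 3 := by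
    rw [Set.ncard_insert_of_notMem, Set.ncard_pair]
    · simp [Ne.symm h3]
    · simp [Ne.symm D.b_ne_a, Ne.symm h2]
  rw [himg, h3', D.card_CV] at horb
  omega

end ReeData

end CfsgLib.Ree
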