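import Cfsg.Agent.Lib.Ree.Orders

/-!
Solvable subgroups of a group of Ree type lie in local normalizers.
-/

set_option autoImplicit false
set_option linter.unusedSectionVars false

namespace CfsgLib.Ree

variable {G : Type*} [Group G] [Finite G]

/-- A solvable group has a normal subgroup of elements of odd prime exponent, abelian, or a normal
two-subgroup above a given central subgroup of exponent two. -/
theorem exists_normal_small (S Z : Subgroup G) (hS : Group.IsSolvable S) (hZ2 : ∀ z ∈ Z, z * z = 1)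
    (hZc : ∀ z ∈ Z, ∀ x ∈ S, z * x = x * z) (hZS : Z ≤ S) (hne : ¬ S ≤ Z) :
    ∃ E : Subgroup G, S ≤ Subgroup.normalizer (E : Set G) ∧
      ((∃ p : ℕ, p.Prime ∧ p ≠ 2 ∧ E ≠ ⊥ ∧ (∀ x ∈ E, x ^ p = 1) ∧
          ∀ x ∈ E, ∀ y ∈ E, x * y = y * x) ∨
        (IsPGroup 2 E ∧ E ≤ S ∧ Z ≤ E ∧ ¬ E ≤ Z)) := by
  classical
  set Dk : ℕ → Subgroup G := fun k => (derivedSeries ↥S k).map S.subtype with hDk
  have hex : ∃ k, Dk k ≤ Z := by
    obtain ⟨n, hn⟩ := (Group.isSolvable_def ↥S).1 hS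
    exact ⟨n, by simp [hDk, hn]⟩
  obtain ⟨k, hk⟩ : ∃ k, Nat.find hex = k + 1 := by
    refine Nat.exists_eq_succ_of_ne_zero fun h => hne ?_
    have := Nat.find_spec hex
    rw [h] at this
    simpa [hDk, ← MonoidHom.range_eq_map] using this
  set D := Dk k
  have hDne : ¬ D ≤ Z := fun h => Nat.find_min hex (by omega) h
  have hD1 : Dk (k + 1) ≤ Z := hk ▸ Nat.find_spec hex
  have hcomm : ∀ x ∈ D, ∀ y ∈ D, x * y * x⁻¹ * y⁻¹ ∈ Z := by
    rintro _ ⟨x, hx, rfl⟩ _ ⟨y, hy, rfl⟩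
    refine hD1 ⟨x * y * x⁻¹ * y⁻¹, ?_, by simp⟩
    rw [derivedSeries_succ, ← commutatorElement_def]
    exact Subgroup.commutator_mem_commutator hx hy
  have hDS : D ≤ S := Subgroup.map_subtype_le _
  have hDn : ∀ g ∈ S, ∀ x ∈ D, g * x * g⁻¹ ∈ D := by
    rintro g hg _ ⟨x, hx, rfl⟩
    exact ⟨⟨g, hg⟩ * x * ⟨g, hg⟩⁻¹, (derivedSeries_normal ↥S k).conj_mem x hx _, rfl⟩
  by_cases hodd : ∃ p, p.Prime ∧ p ≠ 2 ∧ p ∣ Nat.card D
  · obtain ⟨p, hp, hp2, hpd⟩ := hodd
    have hpo : Odd p := hp.odd_of_ne_two hp2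
    have hcen : ∀ x ∈ D, x ^ p = 1 → ∀ y ∈ D, x * y = y * x := by
      intro x hx hxp y hy
      obtain ⟨m, hm⟩ := exists_pow_eq_self_of_coprime (Nat.coprime_two_left.2
        (Odd.of_dvd_nat hpo (orderOf_dvd_of_pow_eq_one hxp)))
      have hw : x ^ m ∈ D := pow_mem hx m
      rw [← hm, pow_right_comm, pow_two]
      set w := x ^ m
      have hc : w * y * w⁻¹ * y⁻¹ ∈ Z := hcomm w hw y hy
      set c := w * y * w⁻¹ * y⁻¹ with hcdef
      have h1 : w * y = c * y * w := by rw [hcdef]; group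
      calc w * w * y = w * (c * y * w) := by rw [mul_assoc, h1]
        _ = c * (w * y) * w := by
          rw [← mul_assoc, ← mul_assoc, ← hZc c hc w (hDS hw)]; simp only [mul_assoc]
        _ = c * c * y * (w * w) := by rw [h1]; simp only [mul_assoc]
        _ = _ := by rw [hZ2 c hc, one_mul]
    let E : Subgroup G :=
      { carrier := {x | x ∈ D ∧ x ^ p = 1}
        one_mem' := ⟨one_mem D, one_pow p⟩
        inv_mem' := fun {x} hx => ⟨inv_mem hx.1, by rw [inv_pow, hx.2, inv_one]⟩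
        mul_mem' := fun {x y} hx hy => ⟨mul_mem hx.1 hy.1, by
          rw [(show Commute x y from hcen x hx.1 hx.2 y hy.1).mul_pow, hx.2, hy.2, one_mul]⟩ }
    have hE : ∀ x, x ∈ E ↔ x ∈ D ∧ x ^ p = 1 := fun x => Iff.rfl
    refine ⟨E, fun g hg => Subgroup.mem_normalizer_fintype fun x hx => ?_,
      Or.inl ⟨p, hp, hp2, ?_, fun x hx => ((hE x).1 hx).2,
        fun x hx y hy => hcen x ((hE x).1 hx).1 ((hE x).1 hx).2 y ((hE y).1 hy).1⟩⟩
    · exact (hE _).2 ⟨hDn g hg x ((hE x).1 hx).1, by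
        rw [conj_pow, ((hE x).1 hx).2, mul_one, mul_inv_cancel]⟩
    · intro hb
      have := Fact.mk hp
      obtain ⟨⟨x, hx⟩, hxp⟩ := exists_prime_orderOf_dvd_card' p hpd
      rw [Subgroup.orderOf_mk] at hxp
      have : x ∈ E := (hE x).2 ⟨hx, hxp ▸ pow_orderOf_eq_one x⟩
      rw [hb, Subgroup.mem_bot] at this
      rw [this, orderOf_one] at hxp
      exact hp.ne_one hxp.symm
  · push Not at hodd
    have hD2 : IsPGroup 2 D := IsPGroup.of_card (n := (Nat.card D).primeFactorsList.length)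
      (Nat.eq_prime_pow_of_unique_prime_dvd Nat.card_pos.ne' fun {d} hd hdD => by
        by_contra h
        exact hodd d hd h hdD)
    have hcz : ∀ z ∈ Z, ∀ x ∈ D, z * x = x * z := fun z hz x hx => hZc z hz x (hDS hx)
    let E : Subgroup G :=
      { carrier := {x | ∃ d ∈ D, ∃ z ∈ Z, x = d * z}
        one_mem' := ⟨1, one_mem D, 1, one_mem Z, (one_mul 1).symm⟩
        inv_mem' := by
          rintro _ ⟨d, hd, z, hz, rfl⟩
          exact ⟨d⁻¹, inv_mem hd, z⁻¹, inv_mem hz, by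
            rw [mul_inv_rev, hcz _ (inv_mem hz) _ (inv_mem hd)]⟩
        mul_mem' := by
          rintro _ _ ⟨d, hd, z, hz, rfl⟩ ⟨d', hd', z', hz', rfl⟩
          exact ⟨d * d', mul_mem hd hd', z * z', mul_mem hz hz', by
            rw [mul_assoc d z, ← mul_assoc z d', hcz z hz d' hd']; simp only [mul_assoc]⟩ }
    have hE : ∀ x, x ∈ E ↔ ∃ d ∈ D, ∃ z ∈ Z, x = d * z := fun x => Iff.rfl
    refine ⟨E, fun g hg => Subgroup.mem_normalizer_fintype fun x hx => ?_, Or.inr ⟨?_, ?_, ?_, ?_⟩⟩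
    · obtain ⟨d, hd, z, hz, rfl⟩ := (hE x).1 hx
      refine (hE _).2 ⟨g * d * g⁻¹, hDn g hg d hd, z, hz, ?_⟩
      calc g * (d * z) * g⁻¹ = g * d * (z * g⁻¹) := by group
        _ = g * d * (g⁻¹ * z) := by rw [hZc z hz g⁻¹ (inv_mem hg)]
        _ = _ := by group
    · rintro ⟨x, hx⟩
      obtain ⟨d, hd, z, hz, rfl⟩ := (hE x).1 hx
      obtain ⟨n, hn⟩ := hD2 ⟨d, hd⟩
      have hn' : d ^ 2 ^ n = 1 := congrArg Subtype.val hn
      refine ⟨n + 1, Subtype.ext ?_⟩
      show (d * z) ^ 2 ^ (n + 1) = 1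
      rw [(show Commute d z from (hcz z hz d hd).symm).mul_pow, pow_succ, pow_mul, hn', one_pow,
        one_mul, mul_comm, pow_mul, pow_two, hZ2 z hz, one_pow]
    · intro x hx
      obtain ⟨d, hd, z, hz, rfl⟩ := (hE x).1 hx
      exact mul_mem (hDS hd) (hZS hz)
    · exact fun z hz => (hE z).2 ⟨1, one_mem D, z, hz, (one_mul z).symm⟩
    · exact fun h => hDne fun d hd => h ((hE d).2 ⟨d, hd, 1, one_mem Z, (mul_one d).symm⟩)

namespace ReeData

variable (D : ReeData G)

/-- The conclusion about a subgroup of a group of Ree type. -/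
def LocalGoal (r : ℕ) (S : Subgroup G) : Prop :=
  ∃ A : Subgroup G, S ≤ Subgroup.normalizer (A : Set G) ∧
    ((∃ P : Sylow 2 G, A = P) ∨ (∃ P : Sylow 3 G, A = P) ∨
      (IsCyclic A ∧ (Nat.card A = (D.q - 1) / 2 ∨ Nat.card A = (D.q + 1) / 4 ∨
        Nat.card A = D.q - r + 1 ∨ Nat.card A = D.q + r + 1)))

lemma mem_normalizer_map {H : Subgroup G} {g h : G}
    (hg : h * g * h⁻¹ ∈ Subgroup.normalizer (H : Set G)) :
    g ∈ Subgroup.normalizer (H.map (MulAut.conj h⁻¹).toMonoidHom : Set G) := by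
  refine Subgroup.mem_normalizer_fintype ?_
  rintro _ ⟨x, hx, rfl⟩
  refine ⟨h * g * h⁻¹ * x * (h * g * h⁻¹)⁻¹, (Subgroup.mem_normalizer_iff.1 hg x).1 hx, ?_⟩
  simp [MulAut.conj_apply, mul_assoc]

lemma mem_normalizer_smul {p : ℕ} {P : Sylow p G} {g h : G}
    (hg : h * g * h⁻¹ ∈ Subgroup.normalizer ((P : Subgroup G) : Set G)) :
    g ∈ Subgroup.normalizer (((h⁻¹ • P : Sylow p G) : Subgroup G) : Set G) := by
  have e : ((h⁻¹ • P : Sylow p G) : Subgroup G) =
      (P : Subgroup G).map (MulAut.conj h⁻¹).toMonoidHom := rfl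
  rw [e]
  exact mem_normalizer_map hg

lemma normalizer_map {E : Subgroup G} {g h : G} (hg : g ∈ Subgroup.normalizer (E : Set G)) :
    h * g * h⁻¹ ∈ Subgroup.normalizer (E.map (MulAut.conj h).toMonoidHom : Set G) := by
  refine Subgroup.mem_normalizer_fintype ?_
  rintro _ ⟨x, hx, rfl⟩
  refine ⟨g * x * g⁻¹, (Subgroup.mem_normalizer_iff.1 hg x).1 hx, ?_⟩
  simp [MulAut.conj_apply, mul_assoc]

lemma odd_case {r : ℕ} (hr : r * r = 3 * D.q) {S E : Subgroup G}
    (hSE : S ≤ Subgroup.normalizer (E : Set G)) {p : ℕ} (hp : p.Prime) (hp2 : p ≠ 2) (hne : E ≠ ⊥)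
    (hexp : ∀ x ∈ E, x ^ p = 1) (hcomm : ∀ x ∈ E, ∀ y ∈ E, x * y = y * x) :
    D.LocalGoal r S := by
  have := Fact.mk hp
  obtain ⟨u, hu, hu1⟩ := (Subgroup.bot_or_exists_ne_one E).resolve_left hne
  have hup : orderOf u = p := orderOf_eq_prime (hexp u hu) hu1
  have hmove : ∀ h, ∀ y ∈ E, h * y * h⁻¹ ∈ Subgroup.centralizer {h * u * h⁻¹} := fun h y hy => by
    rw [centralizer_conj_iff, show h⁻¹ * (h * y * h⁻¹) * h = y by group,
      Subgroup.mem_centralizer_singleton_iff]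
    exact hcomm y hy u hu
  -- a torus
  have hgen : ∀ (H C : Subgroup G) (e : ℕ), HallTorus H C e → p ∣ Nat.card H →
      (Nat.card H = (D.q - 1) / 2 ∨ Nat.card H = (D.q + 1) / 4 ∨
        Nat.card H = D.q - r + 1 ∨ Nat.card H = D.q + r + 1) → D.LocalGoal r S := by
    intro H C e hT hd hcard
    obtain ⟨h, hh⟩ := hT.into p hp hd u hup
    have hh1 : h * u * h⁻¹ ≠ 1 := fun e => hu1 (conj_eq_one_iff.1 e)
    refine ⟨H.map (MulAut.conj h⁻¹).toMonoidHom, fun g hg => mem_normalizer_map ?_,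
      Or.inr (Or.inr ⟨?_, ?_⟩)⟩
    · refine hT.conj_mem hh hh1 ?_
      rw [show h * g * h⁻¹ * (h * u * h⁻¹) * (h * g * h⁻¹)⁻¹ = h * (g * u * g⁻¹) * h⁻¹ by group]
      have hgu : g * u * g⁻¹ ∈ E := (Subgroup.mem_normalizer_iff.1 (hSE hg) u).1 hu
      refine hT.mem_H ?_ ?_
      · rw [← hT.cent _ hh hh1]; exact hmove h _ hgu
      · rw [orderOf_conj']
        exact (orderOf_dvd_of_pow_eq_one (hexp _ hgu)).trans hd
    · have := hT.cyclic
      exact isCyclic_of_surjective _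
        (H.equivMapOfInjective _ (MulAut.conj h⁻¹).injective).surjective
    · rw [Subgroup.card_map_of_injective (MulAut.conj h⁻¹).injective]; exact hcard
  by_cases hp3 : p = 3
  · subst hp3
    obtain ⟨h, hh⟩ := D.three_element (g := u) ⟨1, by rw [pow_one]; exact hexp u hu⟩
    have hh1 : h * u * h⁻¹ ≠ 1 := fun e => hu1 (conj_eq_one_iff.1 e)
    refine ⟨_, fun g hg => mem_normalizer_smul (P := D.sylow3) (h := h) ?_, Or.inr (Or.inl ⟨_, rfl⟩)⟩
    rw [D.coe_sylow3, D.normalizer_U]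
    refine D.mem_B_of_conj_mem hh hh1 ?_
    rw [show h * g * h⁻¹ * (h * u * h⁻¹) * (h * g * h⁻¹)⁻¹ = h * (g * u * g⁻¹) * h⁻¹ by group]
    have hgu : g * u * g⁻¹ ∈ E := (Subgroup.mem_normalizer_iff.1 (hSE hg) u).1 hu
    refine D.mem_U_of_three (D.centralizer_le_B hh hh1 (hmove h _ hgu)) (k := 1) ?_
    rw [pow_one, conj_pow, hexp _ hgu, mul_one, mul_inv_cancel]
  have hd : p ∣ Nat.card G := hup ▸ orderOf_dvd_natCard u
  obtain ⟨A, B, hA, hB, cA, cB, -, -, hAB, -⟩ := D.exists_tori_r hr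
  rw [D.card_G_M, show D.q ^ 2 - 1 = (4 * Nat.card D.Y) * (2 * Nat.card D.T2) by
    rw [D.card_Y, D.card_T2, D.sq_sub_one], ← hAB] at hd
  rcases (Nat.Prime.dvd_mul hp).1 hd with h | h
  · rcases (Nat.Prime.dvd_mul hp).1 h with h | h
    · exfalso
      obtain ⟨k, hk⟩ := D.q_pow
      rw [hk] at h
      exact hp3 ((Nat.prime_dvd_prime_iff_eq hp Nat.prime_three).1
        (hp.dvd_of_dvd_pow (hp.dvd_of_dvd_pow h)))
    · rcases (Nat.Prime.dvd_mul hp).1 h with h | h
      · have hY : p ∣ Nat.card D.Y := ((Nat.Prime.dvd_mul hp).1 h).resolve_left fun h' =>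
          hp2 ((Nat.prime_dvd_prime_iff_eq hp Nat.prime_two).1
            (hp.dvd_of_dvd_pow (show p ∣ 2 ^ 2 from h')))
        exact hgen _ _ _ D.torus_Y hY (Or.inr (Or.inl (by have := D.card_Y; omega)))
      · have hT : p ∣ Nat.card D.T2 := ((Nat.Prime.dvd_mul hp).1 h).resolve_left fun h' =>
          hp2 ((Nat.prime_dvd_prime_iff_eq hp Nat.prime_two).1 h')
        exact hgen _ _ _ D.torus_T hT (Or.inl (by have := D.card_T2; omega))
  · rcases (Nat.Prime.dvd_mul hp).1 h with h | h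
    · exact hgen _ _ _ hA h (Or.inr (Or.inr (Or.inl cA)))
    · exact hgen _ _ _ hB h (Or.inr (Or.inr (Or.inr cB)))

lemma two_case {r : ℕ} {S E : Subgroup G} (hSE : S ≤ Subgroup.normalizer (E : Set G))
    (hE : IsPGroup 2 E) (h2 : 2 < Nat.card E) : D.LocalGoal r S := by
  obtain ⟨h, hh⟩ := D.exists_conj_S hE
  set E' := E.map (MulAut.conj h).toMonoidHom with hE'
  have hle : E' ≤ (D.S0 : Subgroup G) := by
    rintro _ ⟨x, hx, rfl⟩
    exact hh x hx
  have hc : Nat.card E' = Nat.card E := Subgroup.card_map_of_injective (MulAut.conj h).injective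
  have hdvd : Nat.card E' ∣ 2 ^ 3 := by
    have := Subgroup.card_dvd_of_le hle
    rwa [D.card_S] at this
  obtain ⟨i, hi, hci⟩ := (Nat.dvd_prime_pow Nat.prime_two).1 hdvd
  interval_cases i
  · omega
  · omega
  · -- a four group
    have hcard : Nat.card E' = 4 := by rw [hci]; norm_num
    obtain ⟨s, hs, hs1⟩ := (Subgroup.bot_or_exists_ne_one E').resolve_left fun e => by
      rw [e, Subgroup.card_bot] at hcard; omega
    obtain ⟨t, ht, ht'⟩ : ∃ t ∈ E', t ∉ ({1, s} : Set G) := by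
      by_contra hcon
      push Not at hcon
      have h1 := Set.ncard_le_ncard (show (E' : Set G) ⊆ {1, s} from hcon) (Set.toFinite _)
      rw [← Nat.card_coe_set_eq, show Nat.card (E' : Set G) = 4 from hcard] at h1
      have h3 := (Set.ncard_insert_le (1 : G) {s}).trans (by rw [Set.ncard_singleton])
      omega
    simp only [Set.mem_insert_iff, Set.mem_singleton_iff, not_or] at ht'
    have hst : s * t = t * s := by
      have e1 := D.S_sq _ (hle hs)
      have e2 := D.S_sq _ (hle ht)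
      have e3 := D.S_sq _ (hle (mul_mem hs ht))
      calc s * t = (s * t)⁻¹ := (inv_eq_of_mul_eq_one_right e3).symm
        _ = t * s := by
          rw [mul_inv_rev, inv_eq_of_mul_eq_one_right e1, inv_eq_of_mul_eq_one_right e2]
    obtain ⟨k, hk⟩ := D.fours (D.S_sq _ (hle hs)) hs1 (D.S_sq _ (hle ht)) ht'.1
      (Ne.symm ht'.2) hst
    have hkst : k * s * k⁻¹ ∈ D.V ∧ k * t * k⁻¹ ∈ D.V ∧
        ∀ x, (x = D.a ∨ x = D.b) → x ∈ E'.map (MulAut.conj k).toMonoidHom := by
      rcases hk with hk | hk <;>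
      · have k1 : k * s * k⁻¹ = _ := congrArg Prod.fst hk
        have k2 : k * t * k⁻¹ = _ := congrArg Prod.snd hk
        simp only at k1 k2
        refine ⟨?_, ?_, ?_⟩
        · rw [k1]; first | exact D.a_mem_V | exact D.b_mem_V
        · rw [k2]; first | exact D.a_mem_V | exact D.b_mem_V
        · rintro x (rfl | rfl) <;>
            first
              | exact ⟨s, hs, k1⟩
              | exact ⟨t, ht, k2⟩
    have hVeq : E'.map (MulAut.conj k).toMonoidHom = D.V := by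
      refine (Subgroup.eq_of_le_of_card_ge ?_ ?_).symm
      · intro x hx
        have ha := hkst.2.2 D.a (Or.inl rfl)
        have hb := hkst.2.2 D.b (Or.inr rfl)
        rcases D.mem_V.1 hx with rfl | rfl | rfl | rfl
        · exact one_mem _
        · exact ha
        · exact hb
        · exact mul_mem ha hb
      · rw [Subgroup.card_map_of_injective (MulAut.conj k).injective, hcard, D.card_V]
    refine ⟨D.Y.map (MulAut.conj (k * h)⁻¹).toMonoidHom, fun g hg => mem_normalizer_map ?_,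
      Or.inr (Or.inr ⟨?_, Or.inr (Or.inl ?_)⟩)⟩
    · apply D.normalizer_V_le
      rw [← hVeq, show k * h * g * (k * h)⁻¹ = k * (h * g * h⁻¹) * k⁻¹ by group]
      exact normalizer_map (normalizer_map (hSE hg))
    · have := D.Y_cyclic
      exact isCyclic_of_surjective _
        (D.Y.equivMapOfInjective _ (MulAut.conj (k * h)⁻¹).injective).surjective
    · rw [Subgroup.card_map_of_injective (MulAut.conj (k * h)⁻¹).injective]
      have := D.card_Y
      omega
  · -- a Sylow subgroup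
    have he : E' = (D.S0 : Subgroup G) := Subgroup.eq_of_le_of_card_ge hle (by
      rw [hci, D.card_S]; norm_num)
    refine ⟨_, fun g hg => mem_normalizer_smul (P := D.S0) (h := h) ?_, Or.inl ⟨_, rfl⟩⟩
    rw [← he]
    exact normalizer_map (hSE hg)

/-- Solvable subgroups lie in local normalizers. -/
theorem solvable_local {r : ℕ} (hr : r * r = 3 * D.q) (S : Subgroup G) (hS : Group.IsSolvable S) :
    D.LocalGoal r S := by
  have hsmall : IsPGroup 2 S → Nat.card S ≤ 2 → D.LocalGoal r S := by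
    intro h2 _
    obtain ⟨h, hh⟩ := D.exists_conj_S h2
    exact ⟨_, fun g hg => mem_normalizer_smul (P := D.S0) (h := h)
      (Subgroup.le_normalizer (hh g hg)), Or.inl ⟨_, rfl⟩⟩
  by_cases hbot : S ≤ ⊥
  · rw [le_bot_iff] at hbot
    subst hbot
    exact hsmall IsPGroup.of_bot (by rw [Subgroup.card_bot]; norm_num)
  obtain ⟨E, hSE, ⟨p, hp, hp2, hne, hexp, hcomm⟩ | ⟨hE, hES, -, hne⟩⟩ :=
    exists_normal_small S ⊥ hS (fun z hz => by rw [Subgroup.mem_bot.1 hz, mul_one])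
      (fun z hz x _ => by rw [Subgroup.mem_bot.1 hz, one_mul, mul_one]) bot_le hbot
  · exact D.odd_case hr hSE hp hp2 hne hexp hcomm
  by_cases h2 : 2 < Nat.card E
  · exact D.two_case hSE hE h2
  have hc2 : Nat.card E = 2 := by
    have : 1 < Nat.card E := (Subgroup.one_lt_card_iff_ne_bot E).2 fun e => hne (e ▸ le_rfl)
    omega
  obtain ⟨t, ht1, htu⟩ := (Nat.card_eq_two_iff' (1 : E)).1 hc2
  have helts : ∀ z ∈ E, z = 1 ∨ z = t.1 := fun z hz => by
    by_cases h : (⟨z, hz⟩ : E) = 1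
    · exact Or.inl (congrArg Subtype.val h)
    · exact Or.inr (congrArg Subtype.val (htu _ h))
  have hsq : ∀ z ∈ E, z * z = 1 := fun z hz => by
    rcases helts _ (mul_mem hz hz) with h | h
    · exact h
    · rcases helts z hz with e | e
      · rw [e, mul_one]
      · exfalso
        rw [e] at h
        exact ht1 (Subtype.ext (mul_eq_left.1 h))
  have hcent : ∀ z ∈ E, ∀ x ∈ S, z * x = x * z := by
    intro z hz x hx
    rcases helts z hz with e | e
    · rw [e, one_mul, mul_one]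
    · subst e
      have hm := (Subgroup.mem_normalizer_iff.1 (hSE hx) t.1).1 t.2
      rcases helts _ hm with e | e
      · exact absurd (Subtype.ext (conj_eq_one_iff.1 e)) ht1
      · exact (mul_inv_eq_iff_eq_mul.1 e).symm
  by_cases hSle : S ≤ E
  · have e : S = E := le_antisymm hSle hES
    exact hsmall (e ▸ hE) (by rw [e, hc2])
  obtain ⟨F, hSF, ⟨p, hp, hp2, hne', hexp, hcomm⟩ | ⟨hF, -, hEF, hne'⟩⟩ :=
    exists_normal_small S E hS hsq hcent hES hSle
  · exact D.odd_case hr hSF hp hp2 hne' hexp hcomm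
  · refine D.two_case hSF hF ?_
    have := Nat.le_of_dvd Nat.card_pos (Subgroup.card_dvd_of_le hEF)
    by_contra hle
    exact hne' (Subgroup.eq_of_le_of_card_ge hEF (by omega)).ge

end ReeData

end CfsgLib.Ree
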