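import Cfsg.Agent.Lib.Ree.Count
import Cfsg.Agent.Lib.Ree.Hall

/-!
The two Hall tori of a group of Ree type whose orders divide `q² - q + 1`.
-/

set_option autoImplicit false
set_option linter.unusedSectionVars false

open scoped IsMulCommutative

namespace CfsgLib.Ree

variable {G : Type*} [Group G] [Finite G]

namespace ReeData

variable (D : ReeData G)

/-- The cyclotomic factor of the group order. -/
def M : ℕ := D.q ^ 2 - D.q + 1

lemma M_eq : D.M = D.q * (D.q - 1) + 1 := by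
  rw [M, Nat.mul_sub, mul_one, pow_two]

lemma M_int : (D.M : ℤ) = (D.q : ℤ) ^ 2 - D.q + 1 := by
  have h := D.q_ge
  rw [D.M_eq]
  push_cast [Nat.cast_sub (show 1 ≤ D.q by omega)]
  ring

lemma sq_sub_one : D.q ^ 2 - 1 = (D.q + 1) * (D.q - 1) := by simpa using Nat.sq_sub_sq D.q 1

lemma card_G_M : Nat.card G = D.q ^ 3 * (D.q ^ 2 - 1) * D.M := by
  rw [D.card_G, D.cube_add_one, D.sq_sub_one, M]
  ring

lemma M_coprime_six : D.M.Coprime (6 * (D.q ^ 2 - 1)) := by
  refine Nat.coprime_of_dvd fun p hp h1 h2 => ?_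
  obtain ⟨h27, h8, h3⟩ := D.q_facts
  have hM := D.M_int
  have h1' : (p : ℤ) ∣ (D.M : ℤ) := Int.natCast_dvd_natCast.2 h1
  rw [hM] at h1'
  rw [D.sq_sub_one] at h2
  have hone : ¬ (p : ℤ) ∣ 1 := fun h => hp.ne_one (Nat.dvd_one.1 (by exact_mod_cast h))
  have hsix : p ≠ 2 ∧ p ≠ 3 := by
    constructor <;> rintro rfl
    · have he : 2 ∣ D.q * (D.q - 1) := Dvd.dvd.mul_left (by omega) _
      rw [D.M_eq] at h1
      omega
    · have he : 3 ∣ D.q * (D.q - 1) := Dvd.dvd.mul_right (by omega) _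
      rw [D.M_eq] at h1
      omega
  rcases (Nat.Prime.dvd_mul hp).1 h2 with h | h
  · rcases (Nat.Prime.dvd_mul hp).1 (show p ∣ 2 * 3 from h) with h | h
    · exact hsix.1 ((Nat.prime_dvd_prime_iff_eq hp Nat.prime_two).1 h)
    · exact hsix.2 ((Nat.prime_dvd_prime_iff_eq hp Nat.prime_three).1 h)
  · rcases (Nat.Prime.dvd_mul hp).1 h with h | h
    · have h' : (p : ℤ) ∣ (D.q : ℤ) + 1 := by exact_mod_cast Int.natCast_dvd_natCast.2 h
      have h3' : (p : ℤ) ∣ 3 := by
        have := dvd_sub h1' (h'.mul_right ((D.q : ℤ) - 2))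
        ring_nf at this
        exact this
      exact hsix.2 ((Nat.prime_dvd_prime_iff_eq hp Nat.prime_three).1 (by exact_mod_cast h3'))
    · have h' : (p : ℤ) ∣ ((D.q - 1 : ℕ) : ℤ) := Int.natCast_dvd_natCast.2 h
      rw [Nat.cast_sub (show 1 ≤ D.q by omega)] at h'
      refine hone ?_
      have := dvd_sub h1' (h'.mul_right (D.q : ℤ))
      push_cast at this
      ring_nf at this
      exact this

lemma coprime_q {n : ℕ} (h : n.Coprime (6 * (D.q ^ 2 - 1))) :
    n.Coprime (D.q ^ 3 * (D.q ^ 2 - 1)) := by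
  refine Nat.Coprime.mul_right ?_ (Nat.Coprime.of_dvd_right (dvd_mul_left _ _) h)
  obtain ⟨k, hk⟩ := D.q_pow
  rw [hk, ← pow_mul]
  exact Nat.Coprime.pow_right _ (Nat.Coprime.of_dvd_right
    (Dvd.dvd.mul_right (by norm_num) _) h)

lemma M_coprime : D.M.Coprime (D.q ^ 3 * (D.q ^ 2 - 1)) := D.coprime_q D.M_coprime_six

lemma mem_X {g : G} : g ∈ D.X ↔ g ≠ 1 ∧ orderOf g ∣ D.M := by
  refine ⟨fun ⟨h1, h2⟩ => ⟨h1, ?_⟩,
    fun ⟨h1, h2⟩ => ⟨h1, Nat.Coprime.of_dvd_left h2 D.M_coprime_six⟩⟩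
  have h := orderOf_dvd_natCard g
  rw [D.card_G_M] at h
  exact (D.coprime_q h2).dvd_of_dvd_mul_left h

/-- Elements of prime order not dividing `M` have centralizers of order prime to `M`. -/
lemma cent_prime {z : G} {p : ℕ} (hp : p.Prime) (hzp : orderOf z = p) (hM : ¬ p ∣ D.M) :
    Nat.card ↥(Subgroup.centralizer {z}) ∣ D.q ^ 3 * (D.q ^ 2 - 1) := by
  have hne : ∀ h : G, h * z * h⁻¹ ≠ 1 := fun h e => by
    rw [conj_eq_one_iff] at e
    rw [e, orderOf_one] at hzp
    exact hp.ne_one hzp.symm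
  by_cases h2 : p = 2
  · subst h2
    obtain ⟨g, hg⟩ := D.isConj_a (x := z) (by rw [← pow_two, ← hzp]; exact pow_orderOf_eq_one z)
      (fun e => hne 1 (by simp [e]))
    rw [← hg, card_centralizer_conj, D.card_Ca]
    exact mul_dvd_mul_right (dvd_pow_self _ (by norm_num)) _
  by_cases h3 : p = 3
  · subst h3
    obtain ⟨h, hh⟩ := D.three_element (g := z) ⟨1, by rw [pow_one, ← hzp]; exact pow_orderOf_eq_one z⟩
    rw [← card_centralizer_conj h]
    refine dvd_trans (Subgroup.card_dvd_of_le (D.centralizer_le_B hh (hne h))) ?_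
    rw [D.card_B, D.sq_sub_one]
    exact mul_dvd_mul_left _ (dvd_mul_left _ _)
  have hd : p ∣ D.q ^ 3 * (D.q ^ 2 - 1) := by
    have h := orderOf_dvd_natCard z
    rw [hzp, D.card_G_M] at h
    exact ((Nat.Prime.dvd_mul hp).1 h).resolve_right hM
  rw [show D.q ^ 2 - 1 = (4 * Nat.card D.Y) * (2 * Nat.card D.T2) by
    rw [D.card_Y, D.card_T2, D.sq_sub_one]] at hd
  have hp2 : ¬ p ∣ 2 := fun h => h2 ((Nat.prime_dvd_prime_iff_eq hp Nat.prime_two).1 h)
  rcases (Nat.Prime.dvd_mul hp).1 hd with h | h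
  · exfalso
    obtain ⟨k, hk⟩ := D.q_pow
    rw [hk] at h
    exact h3 ((Nat.prime_dvd_prime_iff_eq hp Nat.prime_three).1
      (hp.dvd_of_dvd_pow (hp.dvd_of_dvd_pow h)))
  rcases (Nat.Prime.dvd_mul hp).1 h with h | h
  · have hY : p ∣ Nat.card D.Y := ((Nat.Prime.dvd_mul hp).1 h).resolve_left
      (fun h' => hp2 (hp.dvd_of_dvd_pow (show p ∣ 2 ^ 2 from h')))
    obtain ⟨k, hk⟩ := D.exists_conj_Y hp hY hzp
    rw [← card_centralizer_conj k, D.centralizer_Y hk (hne k), D.card_VY, D.sq_sub_one]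
    exact Dvd.dvd.mul_left (dvd_mul_right _ _) _
  · obtain ⟨k, hk, hk2⟩ := D.exists_conj_T hp (((Nat.Prime.dvd_mul hp).1 h).resolve_left hp2)
      (g := z) (hzp ▸ dvd_rfl)
    rw [← card_centralizer_conj k, D.centralizer_regular hk hk2, D.card_T, D.sq_sub_one]
    exact Dvd.dvd.mul_left (dvd_mul_left _ _) _

lemma card_centralizer_X {g : G} (hg : g ∈ D.X) :
    Nat.card ↥(Subgroup.centralizer {g}) ∣ D.M := by
  have hco : (Nat.card ↥(Subgroup.centralizer {g})).Coprime (D.q ^ 3 * (D.q ^ 2 - 1)) := by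
    refine Nat.coprime_of_dvd fun p hp h1 h2 => ?_
    have := Fact.mk hp
    obtain ⟨⟨w, hw⟩, hwp⟩ := exists_prime_orderOf_dvd_card' p h1
    rw [Subgroup.orderOf_mk] at hwp
    have hM : ¬ p ∣ D.M := fun h => hp.ne_one (Nat.eq_one_of_dvd_coprimes D.M_coprime h h2)
    have hgw : g ∈ Subgroup.centralizer {w} := Subgroup.mem_centralizer_singleton_iff.2
      (Subgroup.mem_centralizer_singleton_iff.1 hw).symm
    have h := (Subgroup.orderOf_dvd_natCard _ hgw).trans (D.cent_prime hp hwp hM)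
    exact hg.1 (orderOf_eq_one_iff.1
      (Nat.eq_one_of_dvd_coprimes D.M_coprime (D.mem_X.1 hg).2 h))
  have h := Subgroup.card_subgroup_dvd_card (Subgroup.centralizer {g})
  rw [D.card_G_M] at h
  exact hco.dvd_of_dvd_mul_left h

/-- Real elements of `X`. -/
def RealX (g : G) : Prop := g ∈ D.X ∧ ∃ s, Inv2 s ∧ s * g * s⁻¹ = g⁻¹

lemma realX_of_RP {p : G × G} (hp : p ∈ RP) (hX : p.2 ∈ D.X) : D.RealX p.2 :=
  ⟨hX, p.1, hp.1, inverts hp.1 hp.2⟩

lemma mem_X_of_cent {g x : G} (hg : g ∈ D.X) (hx : x ∈ Subgroup.centralizer {g}) (h1 : x ≠ 1) :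
    x ∈ D.X :=
  D.mem_X.2 ⟨h1, (Subgroup.orderOf_dvd_natCard _ hx).trans (D.card_centralizer_X hg)⟩

lemma inverts_cent {g s : G} (hg : g ∈ D.X) (hs : Inv2 s) (hsg : s * g * s⁻¹ = g⁻¹) :
    ∀ x ∈ Subgroup.centralizer {g}, s * x * s⁻¹ = x⁻¹ := by
  have hsC : ∀ x ∈ Subgroup.centralizer {g}, s * x * s⁻¹ ∈ Subgroup.centralizer {g} := by
    intro x hx
    rw [Subgroup.mem_centralizer_singleton_iff]
    have h1 : x * g⁻¹ = g⁻¹ * x :=
      (Commute.inv_right (Subgroup.mem_centralizer_singleton_iff.1 hx : Commute x g)).eq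
    have h2 : s * (x * g⁻¹) * s⁻¹ = s * (g⁻¹ * x) * s⁻¹ := by rw [h1]
    have h3 : s * g⁻¹ * s⁻¹ = g := by rw [← conj_inv, hsg, inv_inv]
    calc s * x * s⁻¹ * g = s * x * s⁻¹ * (s * g⁻¹ * s⁻¹) := by rw [h3]
      _ = s * (x * g⁻¹) * s⁻¹ := by group
      _ = (s * g⁻¹ * s⁻¹) * (s * x * s⁻¹) := by rw [h2]; group
      _ = _ := by rw [h3]
  have hss : s⁻¹ = s := inv_eq_of_mul_eq_one_right hs.1
  have hfree : ∀ x ∈ Subgroup.centralizer {g}, s * x * s⁻¹ = x → x = 1 := by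
    intro x hx e
    by_contra h1
    obtain ⟨k, hk⟩ := D.isConj_a hs.1 hs.2
    have hxs : x ∈ Subgroup.centralizer {s} :=
      Subgroup.mem_centralizer_singleton_iff.2 (mul_inv_eq_iff_eq_mul.1 e).symm
    have h2 : orderOf x ∣ D.q * (D.q ^ 2 - 1) := by
      rw [← D.card_Ca, ← card_centralizer_conj k, hk]
      exact Subgroup.orderOf_dvd_natCard _ hxs
    have h3 := (D.mem_X.1 (D.mem_X_of_cent hg hx h1)).2
    exact h1 (orderOf_eq_one_iff.1 (Nat.eq_one_of_dvd_coprimes D.M_coprime h3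
      (h2.trans (mul_dvd_mul_right (dvd_pow_self _ (by norm_num)) _))))
  intro y hy
  have hinj : Function.Injective fun x : Subgroup.centralizer {g} =>
      (⟨x.1⁻¹ * (s * x.1 * s⁻¹), mul_mem (inv_mem x.2) (hsC _ x.2)⟩ :
        Subgroup.centralizer {g}) := by
    rintro ⟨x, hx⟩ ⟨z, hz⟩ h
    have h' : x⁻¹ * (s * x * s⁻¹) = z⁻¹ * (s * z * s⁻¹) := congrArg Subtype.val h
    refine Subtype.ext (mul_inv_eq_one.1 (hfree _ (mul_mem hx (inv_mem hz)) ?_))
    calc s * (x * z⁻¹) * s⁻¹ = x * (x⁻¹ * (s * x * s⁻¹)) * (s * z * s⁻¹)⁻¹ := by group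
      _ = x * (z⁻¹ * (s * z * s⁻¹)) * (s * z * s⁻¹)⁻¹ := by rw [h']
      _ = _ := by group
  obtain ⟨⟨x, hx⟩, hxy⟩ := (Finite.injective_iff_surjective.1 hinj) ⟨y, hy⟩
  rw [← show x⁻¹ * (s * x * s⁻¹) = y from congrArg Subtype.val hxy]
  calc s * (x⁻¹ * (s * x * s⁻¹)) * s⁻¹
      = s * x⁻¹ * s⁻¹ * ((s * s) * x * (s⁻¹ * s⁻¹)) := by group
    _ = s * x⁻¹ * s⁻¹ * x := by rw [hs.1, hss, hs.1, one_mul, mul_one]
    _ = _ := by group

lemma cent_comm {g : G} (hg : D.RealX g) :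
    ∀ x ∈ Subgroup.centralizer {g}, ∀ y ∈ Subgroup.centralizer {g}, x * y = y * x := by
  obtain ⟨hX, s, hs, hsg⟩ := hg
  intro x hx y hy
  have h := D.inverts_cent hX hs hsg
  have e : s * (x * y) * s⁻¹ = (s * x * s⁻¹) * (s * y * s⁻¹) := by group
  rw [h _ (mul_mem hx hy), h _ hx, h _ hy, ← mul_inv_rev] at e
  exact inv_injective e

lemma real_of_cent {g x : G} (hg : D.RealX g) (hx : x ∈ Subgroup.centralizer {g}) (h1 : x ≠ 1) :
    D.RealX x := by
  obtain ⟨hX, s, hs, hsg⟩ := hg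
  exact ⟨D.mem_X_of_cent hX hx h1, s, hs, D.inverts_cent hX hs hsg x hx⟩

lemma cent_eq {g x : G} (hg : D.RealX g) (hx : x ∈ Subgroup.centralizer {g}) (h1 : x ≠ 1) :
    Subgroup.centralizer {x} = Subgroup.centralizer {g} := by
  have hxC : ∀ y ∈ Subgroup.centralizer {g}, y ∈ Subgroup.centralizer {x} := fun y hy =>
    Subgroup.mem_centralizer_singleton_iff.2 (D.cent_comm hg y hy x hx)
  refine le_antisymm (fun y hy => ?_) hxC
  rw [Subgroup.mem_centralizer_singleton_iff]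
  exact D.cent_comm (D.real_of_cent hg hx h1) y hy g
    (hxC g (Subgroup.mem_centralizer_singleton_iff.2 rfl))

lemma mem_cent_self (g : G) : g ∈ Subgroup.centralizer {g} :=
  Subgroup.mem_centralizer_singleton_iff.2 rfl

lemma cent_TI {g x k : G} (hg : D.RealX g) (hx : x ∈ Subgroup.centralizer {g}) (h1 : x ≠ 1)
    (hk : k * x * k⁻¹ ∈ Subgroup.centralizer {g}) :
    k ∈ Subgroup.normalizer (Subgroup.centralizer {g} : Set G) := by
  have e1 := D.cent_eq hg hx h1
  have e2 := D.cent_eq hg hk (fun h => h1 (conj_eq_one_iff.1 h))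
  refine Subgroup.mem_normalizer_fintype fun y hy => ?_
  rw [SetLike.mem_coe, ← e2, centralizer_conj_iff,
    show k⁻¹ * (k * y * k⁻¹) * k = y by group, e1]
  exact hy

lemma cent_cyclic {g : G} (hg : D.RealX g) : IsCyclic ↥(Subgroup.centralizer {g}) := by
  have hcomm : IsMulCommutative ↥(Subgroup.centralizer {g}) :=
    ⟨⟨fun x y => Subtype.ext (D.cent_comm hg _ x.2 _ y.2)⟩⟩
  have : IsZGroup ↥(Subgroup.centralizer {g}) := by
    refine ⟨fun p hp P => ?_⟩
    have := Fact.mk hp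
    by_cases hd : p ∣ Nat.card ↥(Subgroup.centralizer {g})
    · have hM := hd.trans (D.card_centralizer_X hg.1)
      obtain ⟨Q, hQ⟩ := (P.isPGroup'.map (Subgroup.centralizer {g}).subtype).exists_le_sylow
      have := D.sylow_cyclic p hp hM Q
      have : IsCyclic ↥((P : Subgroup ↥(Subgroup.centralizer {g})).map
          (Subgroup.centralizer {g}).subtype) := Subgroup.isCyclic_of_le hQ
      exact isCyclic_of_surjective _ ((P : Subgroup ↥(Subgroup.centralizer {g})).equivMapOfInjective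
        _ (Subgroup.centralizer {g}).subtype_injective).symm.surjective
    · have : Nat.card P = 1 := by
        rw [P.card_eq_multiplicity, Nat.factorization_eq_zero_of_not_dvd hd, pow_zero]
      have : Subsingleton P := (Nat.card_eq_one_iff_unique.1 this).1
      exact isCyclic_of_subsingleton
  infer_instance

lemma five_le {g : G} (hg : D.RealX g) : 5 ≤ Nat.card ↥(Subgroup.centralizer {g}) := by
  have h1 : Nat.card ↥(Subgroup.centralizer {g}) ≠ 1 := fun h => hg.1.1 (by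
    have := Subgroup.orderOf_dvd_natCard _ (mem_cent_self g)
    rw [h] at this
    exact orderOf_eq_one_iff.1 (Nat.dvd_one.1 this))
  have hco : (Nat.card ↥(Subgroup.centralizer {g})).Coprime 6 := Nat.Coprime.of_dvd
    (D.card_centralizer_X hg.1) (dvd_mul_right _ _) D.M_coprime_six
  have h0 : 0 < Nat.card ↥(Subgroup.centralizer {g}) := Nat.card_pos
  by_contra h
  generalize Nat.card ↥(Subgroup.centralizer {g}) = n at *
  interval_cases n <;> simp_all +decide

lemma exists_index {g : G} (hg : D.RealX g) :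
    ∃ n, Nat.card ↥(Subgroup.normalizer (Subgroup.centralizer {g} : Set G)) =
      n * Nat.card ↥(Subgroup.centralizer {g}) ∧ (n = 2 ∨ n = 6) := by
  have := D.cent_cyclic hg
  set A := Subgroup.centralizer {g} with hA
  set N := Subgroup.normalizer (A : Set G) with hN
  obtain ⟨p, hp, hpd⟩ := Nat.exists_prime_and_dvd (show Nat.card A ≠ 1 by
    have : 5 ≤ Nat.card A := D.five_le hg
    omega)
  have := Fact.mk hp
  obtain ⟨⟨z, hz⟩, hzp⟩ := exists_prime_orderOf_dvd_card' p hpd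
  rw [Subgroup.orderOf_mk] at hzp
  have hz1 : z ≠ 1 := fun h => by rw [h, orderOf_one] at hzp; exact hp.ne_one hzp.symm
  have hpM : p ∣ D.M := hpd.trans (D.card_centralizer_X hg.1)
  have hzA : Subgroup.zpowers z ≤ A := (Subgroup.zpowers_le).2 hz
  let ψ : N →* MulAut (Subgroup.zpowers z) := (Subgroup.zpowers z).normalizerMonoidHom.comp
    (Subgroup.inclusion (normalizer_le_of_cyclic hzA))
  have hψ : ∀ (k : N) (x : Subgroup.zpowers z), ((ψ k) x : G) = k.1 * x.1 * k.1⁻¹ :=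
    fun k x => rfl
  have hker : ψ.ker = A.subgroupOf N := by
    ext ⟨k, hk⟩
    rw [MonoidHom.mem_ker, Subgroup.mem_subgroupOf]
    show ψ ⟨k, hk⟩ = 1 ↔ k ∈ A
    constructor
    · intro h
      have h' := congrArg Subtype.val (MulEquiv.congr_fun h ⟨z, Subgroup.mem_zpowers z⟩)
      rw [hψ] at h'
      have h'' : k * z * k⁻¹ = z := h'
      rw [hA, ← D.cent_eq hg hz hz1, Subgroup.mem_centralizer_singleton_iff]
      exact mul_inv_eq_iff_eq_mul.1 h''
    · intro h
      refine MulEquiv.ext fun x => Subtype.ext ?_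
      rw [hψ]
      show k * x.1 * k⁻¹ = x.1
      rw [D.cent_comm hg k h x.1 (hzA x.2), mul_inv_cancel_right]
  have hexp : ∀ k : N, ψ k ^ 6 = 1 := by
    classical
    intro k
    have hm : (k : G) * z * (k : G)⁻¹ ∈ Subgroup.zpowers z :=
      (Subgroup.mem_normalizer_iff.1 (normalizer_le_of_cyclic hzA k.2) z).1
        (Subgroup.mem_zpowers z)
    rw [mem_zpowers_iff_mem_range_orderOf, Finset.mem_image] at hm
    obtain ⟨i, -, hi⟩ := hm
    have hmod := D.autom p hp hpM z k hzp i hi.symm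
    have hpow : ∀ m : ℕ, (k : G) ^ m * z * ((k : G) ^ m)⁻¹ = z ^ (i ^ m) := by
      intro m
      induction m with
      | zero => simp
      | succ m ih =>
        calc (k : G) ^ (m + 1) * z * ((k : G) ^ (m + 1))⁻¹
            = (k : G) ^ m * ((k : G) * z * (k : G)⁻¹) * ((k : G) ^ m)⁻¹ := by
              rw [pow_succ]; group
          _ = ((k : G) ^ m * z * ((k : G) ^ m)⁻¹) ^ i := by rw [← hi, conj_pow]
          _ = _ := by rw [ih, ← pow_mul, pow_succ]
    have h6 := hpow 6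
    rw [show z ^ (i ^ 6) = z by
      nth_rw 2 [← pow_one z]
      exact pow_eq_pow_iff_modEq.2 (hzp ▸ hmod)] at h6
    have hk6 : ((k ^ 6 : N) : G) ∈ A := by
      rw [Subgroup.coe_pow, hA, ← D.cent_eq hg hz hz1, Subgroup.mem_centralizer_singleton_iff]
      exact mul_inv_eq_iff_eq_mul.1 h6
    rw [← map_pow, ← MonoidHom.mem_ker, hker]
    exact hk6
  have : IsCyclic (MulAut (Subgroup.zpowers z)) := by
    have e := IsCyclic.mulAutMulEquiv (Subgroup.zpowers z)
    rw [Nat.card_zpowers, hzp] at e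
    exact isCyclic_of_surjective _ e.symm.surjective
  have h6 : Nat.card ψ.range ∣ 6 := by
    rw [← IsCyclic.exponent_eq_card (α := ψ.range)]
    refine Monoid.exponent_dvd_of_forall_pow_eq_one ?_
    rintro ⟨_, k, rfl⟩
    exact Subtype.ext (hexp k)
  have hcard : Nat.card N = Nat.card ψ.range * Nat.card A := by
    have h := Subgroup.card_eq_card_quotient_mul_card_subgroup ψ.ker
    rw [Nat.card_congr (QuotientGroup.quotientKerEquivRange ψ).toEquiv, hker,
      Nat.card_congr (Subgroup.subgroupOfEquivOfLe Subgroup.le_normalizer).toEquiv] at h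
    exact h
  obtain ⟨hX, s, hs, hsg⟩ := hg
  have hsN : s ∈ N := Subgroup.mem_normalizer_fintype fun x hx => by
    rw [SetLike.mem_coe, D.inverts_cent hX hs hsg x hx]; exact inv_mem hx
  have h2 : 2 ∣ Nat.card ψ.range := by
    have hne : (⟨ψ ⟨s, hsN⟩, _, rfl⟩ : ψ.range) ≠ 1 := fun h => by
      have h' : ψ ⟨s, hsN⟩ = 1 := congrArg Subtype.val h
      rw [← MonoidHom.mem_ker, hker, Subgroup.mem_subgroupOf] at h'
      have hd : orderOf s ∣ D.M :=
        (Subgroup.orderOf_dvd_natCard _ h').trans (D.card_centralizer_X hX)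
      rw [orderOf_Inv2 hs] at hd
      exact absurd (Nat.eq_one_of_dvd_coprimes D.M_coprime_six hd
        (Dvd.dvd.mul_right (by norm_num) _)) (by norm_num)
    have hsq : (⟨ψ ⟨s, hsN⟩, _, rfl⟩ : ψ.range) ^ 2 = 1 := Subtype.ext <| by
      show ψ ⟨s, hsN⟩ ^ 2 = 1
      rw [← map_pow, show (⟨s, hsN⟩ : N) ^ 2 = 1 from Subtype.ext (by simpa [pow_two] using hs.1),
        map_one]
    have : Fact (Nat.Prime 2) := ⟨Nat.prime_two⟩
    rw [← orderOf_eq_prime hsq hne]
    exact orderOf_dvd_natCard _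
  refine ⟨_, hcard, ?_⟩
  have := Nat.le_of_dvd (by norm_num) h6
  generalize Nat.card ψ.range = n at *
  interval_cases n <;> omega

/-- The elements with a nontrivial conjugate in the torus of a real element. -/
def TS (g : G) : Set G :=
  {x | ∃ h, h * x * h⁻¹ ∈ (Subgroup.centralizer {g} : Set G) \ {1}}

lemma self_mem_TS {g : G} (hg : D.RealX g) : g ∈ TS g :=
  ⟨1, by simpa [Subgroup.mem_centralizer_singleton_iff] using hg.1.1⟩

lemma TS_subset {g : G} (hg : D.RealX g) : TS g ⊆ D.X := by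
  rintro x ⟨h, hx, h1⟩
  have := D.mem_X.1 (D.mem_X_of_cent hg.1 hx h1)
  rw [orderOf_conj'] at this
  exact D.mem_X.2 ⟨fun e => h1 (by simp [e]), this.2⟩

lemma TS_disjoint {g k : G} (hg : D.RealX g) (hk : D.RealX k) (h : k ∉ TS g) :
    Disjoint (TS g) (TS k) := by
  rw [Set.disjoint_left]
  rintro x ⟨u, hu, hu1⟩ ⟨v, hv, hv1⟩
  have e1 := D.cent_eq hg hu hu1
  have hkv : k ∈ Subgroup.centralizer {v * x * v⁻¹} :=
    Subgroup.mem_centralizer_singleton_iff.2 (Subgroup.mem_centralizer_singleton_iff.1 hv).symm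
  refine h ⟨u * v⁻¹, ?_, fun e => hk.1.1 (conj_eq_one_iff.1 e)⟩
  show u * v⁻¹ * k * (u * v⁻¹)⁻¹ ∈ Subgroup.centralizer {g}
  rw [← e1, centralizer_conj_iff]
  rw [centralizer_conj_iff] at hkv
  rwa [show u⁻¹ * (u * v⁻¹ * k * (u * v⁻¹)⁻¹) * u = v⁻¹ * k * v by group]

lemma TS_counts {g : G} (hg : D.RealX g) :
    (TS g).ncard * Nat.card ↥(Subgroup.normalizer (Subgroup.centralizer {g} : Set G)) =
      Nat.card G * (Nat.card ↥(Subgroup.centralizer {g}) - 1) ∧
    {p : G × G | p ∈ RP ∧ p.2 ∈ TS g}.ncard *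
        Nat.card ↥(Subgroup.normalizer (Subgroup.centralizer {g} : Set G)) =
      Nat.card G * (Nat.card ↥(Subgroup.centralizer {g}) *
        (Nat.card ↥(Subgroup.centralizer {g}) - 1)) := by
  set A := Subgroup.centralizer {g}
  set E : Set G := (A : Set G) \ {1}
  have hE : E.ncard = Nat.card A - 1 := by
    rw [Set.ncard_sdiff (Set.singleton_subset_iff.2 (one_mem A)), Set.ncard_singleton,
      ← Nat.card_coe_set_eq]
    rfl
  have hN : ∀ h ∈ Subgroup.normalizer (A : Set G), ∀ x ∈ E, h * x * h⁻¹ ∈ E := fun h hh x hx =>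
    ⟨(Subgroup.mem_normalizer_iff.1 hh x).1 hx.1, fun e => hx.2 (conj_eq_one_iff.1 e)⟩
  have hTI : ∀ h : G, ∀ x ∈ E, h * x * h⁻¹ ∈ E → h ∈ Subgroup.normalizer (A : Set G) :=
    fun h x hx hh => D.cent_TI hg hx.1 hx.2 hh.1
  have h1 := card_conj_elems (TS g) E _ rfl hN hTI
  have h2 := card_conj_RP (TS g) E _ rfl hN hTI
  refine ⟨hE ▸ h1, ?_⟩
  obtain ⟨hX, s, hs, hsg⟩ := hg
  have hinv := D.inverts_cent hX hs hsg
  have hsA : ∀ x ∈ A, Inv2 (s * x) := fun x hx => by
    refine ⟨?_, fun e => hs.2 ?_⟩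
    · rw [show s * x * (s * x) = s * x * s⁻¹ * (s * s) * x by group, hinv x hx, hs.1, mul_one,
        inv_mul_cancel]
    · have hxs : x = s := by
        rw [← inv_eq_of_mul_eq_one_right e, inv_eq_of_mul_eq_one_right hs.1]
      subst hxs
      by_contra h1
      have hd := (D.mem_X.1 (D.mem_X_of_cent hX hx h1)).2
      rw [orderOf_Inv2 hs] at hd
      exact absurd (Nat.eq_one_of_dvd_coprimes D.M_coprime_six hd
        (Dvd.dvd.mul_right (by norm_num) _)) (by norm_num)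
  have he : {p : G × G | p ∈ RP ∧ p.2 ∈ E} = ((fun x => s * x) '' (A : Set G)) ×ˢ E := by
    ext ⟨t, x⟩
    constructor
    · rintro ⟨⟨ht, htx⟩, hx⟩
      refine ⟨⟨s⁻¹ * t, ?_, mul_inv_cancel_left s t⟩, hx⟩
      have ht' : t * x * t⁻¹ = x⁻¹ := inverts ht htx
      show s⁻¹ * t ∈ A
      rw [show A = Subgroup.centralizer {x} from (D.cent_eq ⟨hX, s, hs, hsg⟩ hx.1 hx.2).symm,
        Subgroup.mem_centralizer_singleton_iff]
      refine mul_inv_eq_iff_eq_mul.1 ?_
      calc s⁻¹ * t * x * (s⁻¹ * t)⁻¹ = s⁻¹ * (t * x * t⁻¹) * s := by group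
        _ = s⁻¹ * (s * x * s⁻¹) * s := by rw [ht', hinv x hx.1]
        _ = _ := by group
    · rintro ⟨⟨y, hy, rfl⟩, hx⟩
      exact ⟨⟨hsA y hy, by rw [mul_assoc]; exact hsA _ (mul_mem hy hx.1)⟩, hx⟩
  rw [he, Set.ncard_prod, Set.ncard_image_of_injective _ (mul_right_injective s), hE,
    ← Nat.card_coe_set_eq] at h2
  exact h2

lemma count_X_int : 3 * (D.M : ℤ) * (D.X.ncard : ℤ) =
      ((D.M : ℤ) - D.q - 1) * Nat.card G ∧ 3 * D.X.ncard < Nat.card G := by
  have h := D.count_X.2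
  change 3 * D.M * D.X.ncard + (D.q + 1) * Nat.card G = D.M * Nat.card G at h
  refine ⟨?_, ?_⟩
  · have h' : (3 * D.M * D.X.ncard + (D.q + 1) * Nat.card G : ℤ) = D.M * Nat.card G := by
      exact_mod_cast h
    linarith
  · have h0 : 0 < (D.q + 1) * Nat.card G := Nat.mul_pos (by omega) Nat.card_pos
    exact Nat.lt_of_mul_lt_mul_left (a := D.M) (by linarith)

lemma card_normalizer_real {g : G} (hg : D.RealX g) :
    Nat.card ↥(Subgroup.normalizer (Subgroup.centralizer {g} : Set G)) =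
      6 * Nat.card ↥(Subgroup.centralizer {g}) := by
  obtain ⟨n, hn, rfl | rfl⟩ := D.exists_index hg
  · exfalso
    have h5 := D.five_le hg
    have h1 := (D.TS_counts hg).1
    rw [hn] at h1
    have hle := Set.ncard_le_ncard (D.TS_subset hg) (Set.toFinite _)
    obtain ⟨hX, hXl⟩ := D.count_X_int
    generalize Nat.card ↥(Subgroup.centralizer {g}) = a at *
    generalize (TS g).ncard = S at *
    generalize D.X.ncard = NX at *
    have hG : 0 < Nat.card G := Nat.card_pos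
    generalize Nat.card G = Γ at *
    obtain ⟨a', rfl⟩ : ∃ a', a = a' + 5 := ⟨a - 5, by omega⟩
    rw [show a' + 5 - 1 = a' + 4 by omega] at h1
    nlinarith [Nat.mul_le_mul_right (a' + 5) hle, Nat.mul_lt_mul_of_pos_right hXl
      (show 0 < a' + 5 by omega)]
  · exact hn

lemma TS_bound {g : G} (hg : D.RealX g) : 4 * Nat.card G ≤ 30 * (TS g).ncard := by
  have h1 := (D.TS_counts hg).1
  rw [D.card_normalizer_real hg] at h1
  have h5 := D.five_le hg
  generalize Nat.card ↥(Subgroup.centralizer {g}) = a at *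
  obtain ⟨a', rfl⟩ : ∃ a', a = a' + 5 := ⟨a - 5, by omega⟩
  rw [show a' + 5 - 1 = a' + 4 by omega] at h1
  refine Nat.le_of_mul_le_mul_right (c := a' + 5) ?_ (by omega)
  nlinarith

lemma TS_pairs {g : G} (hg : D.RealX g) :
    6 * {p : G × G | p ∈ RP ∧ p.2 ∈ TS g}.ncard =
      Nat.card G * (Nat.card ↥(Subgroup.centralizer {g}) - 1) := by
  have h2 := (D.TS_counts hg).2
  rw [D.card_normalizer_real hg] at h2
  refine Nat.eq_of_mul_eq_mul_left
    (Nat.card_pos : 0 < Nat.card ↥(Subgroup.centralizer {g})) ?_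
  rw [mul_left_comm (Nat.card ↥(Subgroup.centralizer {g})) (Nat.card G)]
  rw [← h2]
  ring

lemma coprime_tori {g k : G} (hg : D.RealX g) (hk : D.RealX k) (h : k ∉ TS g) :
    (Nat.card ↥(Subgroup.centralizer {g})).Coprime (Nat.card ↥(Subgroup.centralizer {k})) := by
  refine Nat.coprime_of_dvd fun p hp h1 h2 => ?_
  have := Fact.mk hp
  obtain ⟨⟨x, hx⟩, hxp⟩ := exists_prime_orderOf_dvd_card' p h1
  obtain ⟨⟨y, hy⟩, hyp⟩ := exists_prime_orderOf_dvd_card' p h2
  rw [Subgroup.orderOf_mk] at hxp hyp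
  have hP : ∀ z : G, orderOf z = p → ∃ P : Sylow p G, z ∈ (P : Subgroup G) := fun z hz => by
    obtain ⟨P, hP⟩ := (IsPGroup.of_card (p := p) (G := Subgroup.zpowers z) (n := 1)
      (by rw [Nat.card_zpowers, hz, pow_one])).exists_le_sylow
    exact ⟨P, hP (Subgroup.mem_zpowers z)⟩
  obtain ⟨P, hxP⟩ := hP x hxp
  obtain ⟨Q, hyQ⟩ := hP y hyp
  obtain ⟨u, hu⟩ := MulAction.exists_smul_eq G Q P
  have hyP : u * y * u⁻¹ ∈ (P : Subgroup G) := by
    rw [← hu]
    exact Subgroup.smul_mem_pointwise_smul y (MulAut.conj u) _ hyQ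
  have hc := D.sylow_cyclic p hp (h1.trans (D.card_centralizer_X hg.1)) P
  obtain ⟨w, hw⟩ := IsCyclic.exists_generator (α := (P : Subgroup G))
  obtain ⟨i, hi⟩ := Subgroup.mem_zpowers_iff.1 (hw ⟨x, hxP⟩)
  obtain ⟨l, hl⟩ := Subgroup.mem_zpowers_iff.1 (hw ⟨_, hyP⟩)
  have hxy : x * (u * y * u⁻¹) = (u * y * u⁻¹) * x :=
    congrArg Subtype.val (show (⟨x, hxP⟩ : (P : Subgroup G)) * ⟨_, hyP⟩ = ⟨_, hyP⟩ * ⟨x, hxP⟩ by
      rw [← hi, ← hl, ← zpow_add, ← zpow_add, add_comm])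
  have hne : ∀ z : G, orderOf z = p → z ≠ 1 := fun z hz e => by
    rw [e, orderOf_one] at hz; exact hp.ne_one hz.symm
  have hyA : u * y * u⁻¹ ∈ Subgroup.centralizer {g} := by
    rw [← D.cent_eq hg hx (hne x hxp), Subgroup.mem_centralizer_singleton_iff]
    exact hxy.symm
  have hy1 : u * y * u⁻¹ ≠ 1 := fun e => hne y hyp (conj_eq_one_iff.1 e)
  exact Set.disjoint_left.1 (D.TS_disjoint hg hk h)
    (show y ∈ TS g from ⟨u, hyA, hy1⟩)
    (show y ∈ TS k from ⟨1, by simpa using hy, by simpa using hne y hyp⟩)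

lemma congruence {g : G} (hg : D.RealX g) {b j : ℕ}
    (hj : D.M = Nat.card ↥(Subgroup.centralizer {g}) * b * j)
    (hb : Nat.card ↥(Subgroup.centralizer {g}) + b = 2 * D.q + 2) :
    (Nat.card ↥(Subgroup.centralizer {g}) : ℤ) ∣ (j : ℤ) - 1 := by
  set A := Subgroup.centralizer {g} with hA
  set N := Subgroup.normalizer (A : Set G)
  have hcN := D.card_normalizer_real hg
  have hco6 : (Nat.card A).Coprime 6 :=
    Nat.Coprime.of_dvd (D.card_centralizer_X hg.1) (dvd_mul_right _ _) D.M_coprime_six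
  have hdvd : Nat.card A * Nat.card N ∣ Nat.card G - Nat.card N := by
    refine card_mul_dvd_sub A N (fun k hk x hx hxk => ?_) Subgroup.le_normalizer
    by_contra h1
    have hm : k⁻¹ * x * k ∈ A := by
      have : (A.subgroupOf N).Normal := Subgroup.normal_in_normalizer
      have hidx : (A.subgroupOf N).index = 6 := by
        have h := (A.subgroupOf N).card_mul_index
        rw [Nat.card_congr (Subgroup.subgroupOfEquivOfLe Subgroup.le_normalizer).toEquiv, hcN] at h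
        exact Nat.eq_of_mul_eq_mul_left Nat.card_pos (h.trans (mul_comm _ _))
      have h6 := (A.subgroupOf N).pow_index_mem ⟨_, hxk⟩
      rw [hidx, Subgroup.mem_subgroupOf, Subgroup.coe_pow] at h6
      have hord : (orderOf (k⁻¹ * x * k)).Coprime 6 := by
        have e : k⁻¹ * x * k = k⁻¹ * x * k⁻¹⁻¹ := by rw [inv_inv]
        rw [e, orderOf_conj']
        exact Nat.Coprime.of_dvd_left (Subgroup.orderOf_dvd_natCard _ hx) hco6
      obtain ⟨m, hm⟩ := exists_pow_eq_self_of_coprime hord.symm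
      rw [← hm]
      exact pow_mem h6 m
    refine hk ?_
    have := inv_mem (D.cent_TI hg hx h1 (k := k⁻¹) (by rwa [inv_inv]))
    rwa [inv_inv] at this
  have hle : Nat.card N ≤ Nat.card G := Subgroup.card_le_card_group N
  have hz : ((Nat.card A * Nat.card N : ℕ) : ℤ) ∣ ((Nat.card G - Nat.card N : ℕ) : ℤ) :=
    Int.natCast_dvd_natCast.2 hdvd
  rw [Nat.cast_sub hle, hcN, D.card_G_M] at hz
  have hMj := congrArg (fun n : ℕ => (n : ℤ)) hj
  have hq : 1 ≤ D.q ^ 2 := Nat.one_le_pow _ _ (by have := D.q_ge; omega)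
  push_cast [Nat.cast_sub hq] at hz hMj
  have hMq := D.M_int
  set a : ℤ := (Nat.card A : ℤ) with ha
  set Q : ℤ := (D.q : ℤ)
  have hb' : (b : ℤ) = 2 * Q + 2 - a := by
    have := congrArg (fun n : ℕ => (n : ℤ)) hb
    push_cast at this
    linarith
  have ha0 : a ≠ 0 := by rw [ha]; exact_mod_cast Nat.card_pos.ne'
  have h2 : a ∣ Q ^ 3 * (Q ^ 2 - 1) * ((b : ℤ) * j) - 6 := by
    refine dvd_trans (dvd_mul_left a 6) (Int.dvd_of_mul_dvd_mul_left ha0 ?_)
    have e : Q ^ 3 * (Q ^ 2 - 1) * (D.M : ℤ) - 6 * a =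
        a * (Q ^ 3 * (Q ^ 2 - 1) * ((b : ℤ) * j) - 6) := by rw [hMj]; ring
    rw [e] at hz
    exact hz
  have h3 : a ∣ (6 : ℤ) * ((j : ℤ) - 1) := by
    have hM : a ∣ (D.M : ℤ) := ⟨(b : ℤ) * j, by rw [hMj]; ring⟩
    have e : (6 : ℤ) * ((j : ℤ) - 1) = (Q ^ 3 * (Q ^ 2 - 1) * ((b : ℤ) * j) - 6) -
        (D.M : ℤ) * ((Q ^ 3 + Q ^ 2 - Q - 2) * (b : ℤ) * j - 2 * (j : ℤ)) -
        a * ((Q - 2) * (j : ℤ)) := by
      rw [hMq, hb']; ring
    rw [e]
    exact dvd_sub (dvd_sub h2 (hM.mul_right _)) (dvd_mul_right _ _)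
  exact Int.dvd_of_dvd_mul_right_of_gcd_one h3 (by
    rw [ha, show (6 : ℤ) = ((6 : ℕ) : ℤ) by norm_num, Int.gcd_natCast_natCast]
    exact hco6)

/-- The two tori of order dividing `q² - q + 1`. -/
theorem exists_tori : ∃ g k : G, D.RealX g ∧ D.RealX k ∧
    Nat.card ↥(Subgroup.centralizer {g}) * Nat.card ↥(Subgroup.centralizer {k}) = D.M ∧
    Nat.card ↥(Subgroup.centralizer {g}) + Nat.card ↥(Subgroup.centralizer {k}) = 2 * D.q + 2 ∧
    (Nat.card ↥(Subgroup.centralizer {g})).Coprime (Nat.card ↥(Subgroup.centralizer {k})) ∧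
    Disjoint (TS g) (TS k) ∧ D.X = TS g ∪ TS k := by
  obtain ⟨hXi, hXl⟩ := D.count_X_int
  have hG : 0 < Nat.card G := Nat.card_pos
  obtain ⟨h27, -, -⟩ := D.q_facts
  have hRX := D.count_X.1
  -- a first torus
  obtain ⟨p1, hp1⟩ : {p : G × G | p ∈ RP ∧ p.2 ∈ D.X}.Nonempty := by
    rw [← Set.ncard_pos]
    have : 0 < D.q * Nat.card G := Nat.mul_pos (by omega) hG
    omega
  set g := p1.2
  have hg : D.RealX g := D.realX_of_RP hp1.1 hp1.2
  have hPg := D.TS_pairs hg
  -- a second torus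
  obtain ⟨p2, hp2, hp2'⟩ : ∃ p : G × G, (p ∈ RP ∧ p.2 ∈ D.X) ∧ p.2 ∉ TS g := by
    by_contra hcon
    push Not at hcon
    have e : {p : G × G | p ∈ RP ∧ p.2 ∈ D.X} = {p : G × G | p ∈ RP ∧ p.2 ∈ TS g} :=
      Set.ext fun p => ⟨fun h => ⟨h.1, hcon p h⟩, fun h => ⟨h.1, D.TS_subset hg h.2⟩⟩
    rw [e] at hRX
    have hdM : Nat.card ↥(Subgroup.centralizer {g}) ∣ D.M := D.card_centralizer_X hg.1
    have h5 := D.five_le hg
    generalize Nat.card ↥(Subgroup.centralizer {g}) = a at *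
    have ha : a = 2 * D.q + 1 := by
      have h : a - 1 = 2 * D.q := Nat.eq_of_mul_eq_mul_left hG (by nlinarith)
      omega
    subst ha
    have h7 : ((2 * D.q + 1 : ℕ) : ℤ) ∣ 7 := by
      have hd := Int.natCast_dvd_natCast.2 hdM
      rw [D.M_int] at hd
      have := dvd_sub (hd.mul_right 4)
        (dvd_mul_right ((2 * D.q + 1 : ℕ) : ℤ) (2 * (D.q : ℤ) - 3))
      push_cast at this ⊢
      ring_nf at this ⊢
      exact this
    have := Int.le_of_dvd (by norm_num) h7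
    push_cast at this
    omega
  set k := p2.2
  have hk : D.RealX k := D.realX_of_RP hp2.1 hp2.2
  have hPk := D.TS_pairs hk
  have hd := D.TS_disjoint hg hk hp2'
  -- no third torus
  have hall : ∀ p : G × G, p ∈ RP → p.2 ∈ D.X → p.2 ∈ TS g ∪ TS k := by
    intro p hp hpX
    by_contra h3
    simp only [Set.mem_union, not_or] at h3
    have hl := D.realX_of_RP hp hpX
    have d1 := D.TS_disjoint hg hl h3.1
    have d2 := D.TS_disjoint hk hl h3.2
    have hle := Set.ncard_le_ncard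
      (show TS g ∪ TS k ∪ TS p.2 ⊆ D.X from
        Set.union_subset (Set.union_subset (D.TS_subset hg) (D.TS_subset hk)) (D.TS_subset hl))
      (Set.toFinite _)
    rw [Set.ncard_union_eq (Set.disjoint_union_left.2 ⟨d1, d2⟩), Set.ncard_union_eq hd] at hle
    have := D.TS_bound hg
    have := D.TS_bound hk
    have := D.TS_bound hl
    omega
  have eP : {p : G × G | p ∈ RP ∧ p.2 ∈ D.X} =
      {p : G × G | p ∈ RP ∧ p.2 ∈ TS g} ∪ {p : G × G | p ∈ RP ∧ p.2 ∈ TS k} := by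
    ext p
    refine ⟨fun h => (hall p h.1 h.2).imp (fun e => ⟨h.1, e⟩) fun e => ⟨h.1, e⟩, ?_⟩
    rintro (h | h)
    · exact ⟨h.1, D.TS_subset hg h.2⟩
    · exact ⟨h.1, D.TS_subset hk h.2⟩
  rw [eP, Set.ncard_union_eq (Set.disjoint_left.2 fun p h h' =>
    Set.disjoint_left.1 hd h.2 h'.2)] at hRX
  have h5a := D.five_le hg
  have h5b := D.five_le hk
  have hsum : Nat.card ↥(Subgroup.centralizer {g}) + Nat.card ↥(Subgroup.centralizer {k}) =
      2 * D.q + 2 := by
    have h : Nat.card G * ((Nat.card ↥(Subgroup.centralizer {g}) - 1) +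
        (Nat.card ↥(Subgroup.centralizer {k}) - 1)) = Nat.card G * (2 * D.q) := by
      rw [mul_add, ← hPg, ← hPk, ← mul_add]
      nlinarith
    have := Nat.eq_of_mul_eq_mul_left hG h
    omega
  have hco := D.coprime_tori hg hk hp2'
  obtain ⟨j, hj⟩ := hco.mul_dvd_of_dvd_of_dvd (D.card_centralizer_X hg.1) (D.card_centralizer_X hk.1)
  have c1 := D.congruence hg (b := Nat.card ↥(Subgroup.centralizer {k})) (j := j) hj hsum
  have c2 := D.congruence hk (b := Nat.card ↥(Subgroup.centralizer {g})) (j := j)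
    (by rw [hj]; ring) (by rw [add_comm]; exact hsum)
  have hprod : Nat.card ↥(Subgroup.centralizer {g}) * Nat.card ↥(Subgroup.centralizer {k}) = D.M := by
    have hd12 : ((Nat.card ↥(Subgroup.centralizer {g}) : ℤ) *
        Nat.card ↥(Subgroup.centralizer {k})) ∣ (j : ℤ) - 1 :=
      IsCoprime.mul_dvd (Int.isCoprime_iff_gcd_eq_one.2 (by rw [Int.gcd_natCast_natCast]; exact hco))
        c1 c2
    rcases Nat.lt_or_ge j 2 with hj1 | hj2
    · rcases j with _ | _ | j
      · exfalso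
        rw [mul_zero, D.M_eq] at hj
        omega
      · rw [zero_add, mul_one] at hj; exact hj.symm
      · omega
    · exfalso
      have hle := Int.le_of_dvd (by omega) hd12
      have hMi := D.M_int
      have hji := congrArg (fun n : ℕ => (n : ℤ)) hj
      have hsi := congrArg (fun n : ℕ => (n : ℤ)) hsum
      push_cast at hji hsi
      have ha5 : (5 : ℤ) ≤ (Nat.card ↥(Subgroup.centralizer {g}) : ℤ) := by exact_mod_cast h5a
      generalize (Nat.card ↥(Subgroup.centralizer {g}) : ℤ) = a at *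
      have hb5 : (5 : ℤ) ≤ (Nat.card ↥(Subgroup.centralizer {k}) : ℤ) := by exact_mod_cast h5b
      generalize (Nat.card ↥(Subgroup.centralizer {k}) : ℤ) = b at *
      have hab : 2 * (D.q : ℤ) + 1 ≤ a * b := by nlinarith
      have hMbig : (2 * (D.q : ℤ) + 1) * (2 * (D.q : ℤ) + 1) ≤ a * b * (j : ℤ) := by nlinarith
      nlinarith
  refine ⟨g, k, hg, hk, hprod, hsum, hco, hd, ?_⟩
  symm
  refine Set.eq_of_subset_of_ncard_le (Set.union_subset (D.TS_subset hg) (D.TS_subset hk)) ?_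
    (Set.toFinite _)
  rw [Set.ncard_union_eq hd]
  have e1 := (D.TS_counts hg).1
  have e2 := (D.TS_counts hk).1
  rw [D.card_normalizer_real hg] at e1
  rw [D.card_normalizer_real hk] at e2
  generalize (TS g).ncard = S at *
  generalize (TS k).ncard = S' at *
  generalize D.X.ncard = NX at *
  generalize Nat.card ↥(Subgroup.centralizer {g}) = a at *
  generalize Nat.card ↥(Subgroup.centralizer {k}) = b at *
  generalize Nat.card G = Γ at *
  have hA : 1 ≤ a := by omega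
  have hB : 1 ≤ b := by omega
  zify [hA, hB] at e1 e2 hprod hsum ⊢
  refine le_of_eq (mul_left_cancel₀ (show 6 * (a : ℤ) * b ≠ 0 by positivity) ?_)
  linear_combination -(b : ℤ) * e1 - (a : ℤ) * e2 + (2 : ℤ) * hXi +
    (6 * (NX : ℤ) - 2 * (Γ : ℤ)) * hprod + (Γ : ℤ) * hsum

end ReeData

end CfsgLib.Ree
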