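import Cfsg.Agent.Lib.Ree.Tori

/-!
Cyclic Hall subgroups with uniform centralizers, and the four of them in a group of Ree type.
-/

set_option autoImplicit false
set_option linter.unusedSectionVars false

open scoped IsMulCommutative

namespace CfsgLib.Ree

variable {G : Type*} [Group G] [Finite G]

/-- A cyclic subgroup `H` all of whose nontrivial elements have centralizer `C`, which is abelian
with `H` as a Hall subgroup, such that elements of prime order dividing `|H|` have conjugates in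
`H`. -/
structure HallTorus (H C : Subgroup G) (e : ℕ) : Prop where
  cyclic : IsCyclic H
  le : H ≤ C
  card_C : Nat.card C = Nat.card H * e
  co : (Nat.card H).Coprime e
  comm : ∀ x ∈ C, ∀ y ∈ C, x * y = y * x
  cent : ∀ z ∈ H, z ≠ 1 → Subgroup.centralizer {z} = C
  into : ∀ p : ℕ, p.Prime → p ∣ Nat.card H → ∀ z : G, orderOf z = p → ∃ h, h * z * h⁻¹ ∈ H

namespace HallTorus

variable {H C : Subgroup G} {e : ℕ} (hT : HallTorus H C e)

include hT

lemma exists_conj {x : G} (hx : orderOf x ∣ Nat.card H) : ∃ h, h * x * h⁻¹ ∈ H :=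
  exists_conj_hall hT.co hT.le hT.card_C hT.comm hT.cent hT.into hx

lemma mem_H {x : G} (hx : x ∈ C) (ho : orderOf x ∣ Nat.card H) : x ∈ H :=
  mem_of_coprime hT.le hT.comm hT.card_C hx (Nat.Coprime.of_dvd_left ho hT.co)

lemma conj_mem {g x : G} (hx : x ∈ H) (h1 : x ≠ 1) (hg : g * x * g⁻¹ ∈ H) :
    g ∈ Subgroup.normalizer (H : Set G) := by
  refine Subgroup.mem_normalizer_fintype fun y hy => ?_
  refine hT.mem_H ?_ (by rw [orderOf_conj']; exact Subgroup.orderOf_dvd_natCard _ hy)
  rw [← hT.cent _ hg (fun h => h1 (conj_eq_one_iff.1 h)), centralizer_conj_iff,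
    show g⁻¹ * (g * y * g⁻¹) * g = y by group, hT.cent x hx h1]
  exact hT.le hy

lemma normalizer_sub {H0 : Subgroup G} (hle : H0 ≤ H) (hne : H0 ≠ ⊥) :
    Subgroup.normalizer (H0 : Set G) = Subgroup.normalizer (H : Set G) := by
  have := hT.cyclic
  obtain ⟨x, hx, h1⟩ := (Subgroup.bot_or_exists_ne_one H0).resolve_left hne
  exact le_antisymm
    (fun g hg => hT.conj_mem (hle hx) h1 (hle ((Subgroup.mem_normalizer_iff.1 hg x).1 hx)))
    (normalizer_le_of_cyclic hle)

/-- Cyclic subgroups of the same order dividing `|H|` are conjugate. -/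
lemma conj_subgroups {A B : Subgroup G} (hA : IsCyclic A) (hB : IsCyclic B)
    (hc : Nat.card A = Nat.card B) (hd : Nat.card A ∣ Nat.card H) :
    ∃ g : G, B = A.map (MulAut.conj g).toMonoidHom := by
  have := hT.cyclic
  have hgen : ∀ R : Subgroup G, IsCyclic R → Nat.card R ∣ Nat.card H →
      ∃ h : G, R.map (MulAut.conj h).toMonoidHom ≤ H := by
    intro R hR hRd
    obtain ⟨⟨x, hx⟩, hgen⟩ := IsCyclic.exists_generator (α := R)
    obtain ⟨h, hh⟩ := hT.exists_conj ((Subgroup.orderOf_dvd_natCard _ hx).trans hRd)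
    refine ⟨h, ?_⟩
    rintro _ ⟨y, hy, rfl⟩
    obtain ⟨i, hi⟩ := Subgroup.mem_zpowers_iff.1 (hgen ⟨y, hy⟩)
    have hi' : x ^ i = y := congrArg Subtype.val hi
    subst hi'
    show h * x ^ i * h⁻¹ ∈ H
    rw [← conj_zpow]
    exact zpow_mem hh i
  obtain ⟨u, hu⟩ := hgen A hA hd
  obtain ⟨v, hv⟩ := hgen B hB (hc ▸ hd)
  have he := eq_of_card_eq_cyclic hu hv (by
    rw [Subgroup.card_map_of_injective (MulAut.conj u).injective,
      Subgroup.card_map_of_injective (MulAut.conj v).injective, hc])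
  refine ⟨v⁻¹ * u, ?_⟩
  have h2 := congrArg (Subgroup.map (MulAut.conj v⁻¹).toMonoidHom) he
  rw [Subgroup.map_map, Subgroup.map_map] at h2
  have e1 : (MulAut.conj v⁻¹).toMonoidHom.comp (MulAut.conj u).toMonoidHom =
      (MulAut.conj (v⁻¹ * u)).toMonoidHom := by
    ext x; simp [MulAut.conj_apply, mul_assoc]
  have e2 : (MulAut.conj v⁻¹).toMonoidHom.comp (MulAut.conj v).toMonoidHom = MonoidHom.id G := by
    ext x; simp [MulAut.conj_apply, mul_assoc]
  rw [e1, e2, Subgroup.map_id] at h2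
  exact h2.symm

lemma mem_centralizer_subgroup {A : Subgroup G} (hle : A ≤ H) (hne : A ≠ ⊥) :
    Subgroup.centralizer (A : Set G) = C := by
  obtain ⟨x, hx, h1⟩ := (Subgroup.bot_or_exists_ne_one A).resolve_left hne
  refine le_antisymm ?_ fun y hy => Subgroup.mem_centralizer_iff.2 fun z hz =>
    hT.comm z (hT.le (hle hz)) y hy
  rw [← hT.cent x (hle hx) h1]
  exact Subgroup.centralizer_le (Set.singleton_subset_iff.2 hx)

/-- The centralizers of the nontrivial subgroups of a cyclic subgroup of the same order. -/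
lemma cent_of_card {H0 : Subgroup G} (h0 : IsCyclic H0) (hc : Nat.card H0 = Nat.card H)
    (h1 : 1 < Nat.card H) :
    ∃ g : G, Subgroup.centralizer (H0 : Set G) = C.map (MulAut.conj g).toMonoidHom ∧
      ∀ A : Subgroup G, A ≤ H0 → A ≠ ⊥ →
        Subgroup.centralizer (A : Set G) = Subgroup.centralizer (H0 : Set G) := by
  obtain ⟨g, rfl⟩ := hT.conj_subgroups hT.cyclic h0 hc.symm dvd_rfl
  have key : ∀ A : Subgroup G, A ≤ H.map (MulAut.conj g).toMonoidHom → A ≠ ⊥ →
      Subgroup.centralizer (A : Set G) = C.map (MulAut.conj g).toMonoidHom := by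
    intro A hA hne
    obtain ⟨A', hA', rfl⟩ : ∃ A', A' ≤ H ∧ A = A'.map (MulAut.conj g).toMonoidHom := by
      refine ⟨A.comap (MulAut.conj g).toMonoidHom, fun x hx => ?_, ?_⟩
      · obtain ⟨y, hy, e⟩ := hA hx
        rwa [← (MulAut.conj g).injective e]
      · rw [Subgroup.map_comap_eq_self_of_surjective (MulAut.conj g).surjective]
    have hne' : A' ≠ ⊥ := fun e => hne (by rw [e, Subgroup.map_bot])
    rw [← hT.mem_centralizer_subgroup hA' hne']
    ext y
    constructor
    · intro hy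
      refine ⟨g⁻¹ * y * g, Subgroup.mem_centralizer_iff.2 fun z hz => ?_,
        by simp [MulAut.conj_apply, mul_assoc]⟩
      have := Subgroup.mem_centralizer_iff.1 hy (g * z * g⁻¹) ⟨z, hz, rfl⟩
      calc z * (g⁻¹ * y * g) = g⁻¹ * (g * z * g⁻¹ * y) * g := by group
        _ = g⁻¹ * (y * (g * z * g⁻¹)) * g := by rw [this]
        _ = _ := by group
    · rintro ⟨x, hx, rfl⟩
      refine Subgroup.mem_centralizer_iff.2 ?_
      rintro _ ⟨z, hz, rfl⟩
      rw [← map_mul, ← map_mul, Subgroup.mem_centralizer_iff.1 hx z hz]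
  have hne : H.map (MulAut.conj g).toMonoidHom ≠ ⊥ := fun e => by
    have := congrArg (fun S : Subgroup G => Nat.card S) e
    simp only [Subgroup.card_bot, hc] at this
    omega
  exact ⟨g, key _ le_rfl hne, fun A hA hne' => by rw [key A hA hne', key _ le_rfl hne]⟩

/-- The number of elements of a given order dividing `|H|`. -/
lemma card_order {i : ℕ} (h1 : 1 < i) (hi : i ∣ Nat.card H) :
    {g : G | orderOf g = i}.ncard * Nat.card ↥(Subgroup.normalizer (H : Set G)) =
      Nat.card G * i.totient := by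
  have := hT.cyclic
  set E : Set G := {x | x ∈ H ∧ orderOf x = i}
  have hS : {g : G | orderOf g = i} = {g | ∃ h, h * g * h⁻¹ ∈ E} := by
    ext g
    constructor
    · intro hg
      obtain ⟨h, hh⟩ := hT.exists_conj (show orderOf g ∣ Nat.card H from hg ▸ hi)
      exact ⟨h, hh, by rw [orderOf_conj']; exact hg⟩
    · rintro ⟨h, -, hh⟩
      rwa [orderOf_conj'] at hh
  have hE : E.ncard = i.totient := by
    classical
    let _ : Fintype H := Fintype.ofFinite H
    rw [← IsCyclic.card_orderOf_eq_totient (α := H) (d := i) (by rwa [← Nat.card_eq_fintype_card]),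
      ← Set.ncard_coe_finset, ← Set.ncard_image_of_injective _ Subtype.val_injective]
    congr 1
    ext x
    simp only [Finset.coe_filter, Finset.mem_univ, true_and, Set.mem_image, Set.mem_ofPred_eq]
    constructor
    · rintro ⟨hx, ho⟩
      exact ⟨⟨x, hx⟩, by rw [Subgroup.orderOf_mk]; exact ho, rfl⟩
    · rintro ⟨⟨y, hy⟩, ho, rfl⟩
      rw [Subgroup.orderOf_mk] at ho
      exact ⟨hy, ho⟩
  rw [← hE]
  refine ReeData.card_conj_elems _ E _ hS (fun h hh x hx =>
    ⟨(Subgroup.mem_normalizer_iff.1 hh x).1 hx.1, by rw [orderOf_conj']; exact hx.2⟩)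
    fun h x hx hh => hT.conj_mem hx.1 (fun e => ?_) hh.1
  have h2 := hx.2
  rw [e, orderOf_one] at h2
  omega

end HallTorus

namespace ReeData

variable (D : ReeData G)

lemma T2_cyclic : IsCyclic D.T2 := by
  have := D.T_cyclic
  exact Subgroup.isCyclic_of_le D.T2_le

lemma torus_T : HallTorus D.T2 D.T 2 where
  cyclic := D.T2_cyclic
  le := D.T2_le
  card_C := by rw [D.card_T, mul_comm, D.card_T2]
  co := by
    obtain ⟨h27, h8, -⟩ := D.q_facts
    have := D.card_T2
    exact Nat.coprime_two_right.2 (Nat.odd_iff.2 (by omega))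
  comm := fun _ hx _ hy => D.T_comm hx hy
  cent := fun _ hz h1 => D.centralizer_regular (D.T2_le hz) (D.T2_regular hz h1)
  into := fun p hp hd z hz => by
    have := Fact.mk hp
    obtain ⟨h, -, hh⟩ := exists_conj_into (le_top : D.T2 ≤ ⊤)
      (by rw [Subgroup.card_top]; exact D.card_G_T2.1) D.card_G_T2.2 hd (Subgroup.mem_top z) hz
    exact ⟨h, hh⟩

lemma torus_Y : HallTorus D.Y D.VY 4 where
  cyclic := D.Y_cyclic
  le := D.Y_le_VY
  card_C := by rw [D.card_VY, mul_comm, D.card_Y]
  co := Nat.Coprime.pow_right 2 (Nat.coprime_two_right.2 D.card_Y_odd.1)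
  comm := fun _ hx _ hy => D.VY_abelian hx hy
  cent := fun _ hz h1 => D.centralizer_Y hz h1
  into := fun _ hp hd _ hz => D.exists_conj_Y hp hd hz

lemma card_normalizer_T2 :
    Nat.card ↥(Subgroup.normalizer (D.T2 : Set G)) = 2 * (D.q - 1) := by
  have := D.T_cyclic
  rw [show Subgroup.normalizer (D.T2 : Set G) = Subgroup.normalizer (D.T : Set G) from ?_,
    D.card_normalizer_T]
  refine le_antisymm (fun g hg => ?_) (normalizer_le_of_cyclic D.T2_le)
  obtain ⟨x, hx, h1⟩ := (Subgroup.bot_or_exists_ne_one D.T2).resolve_left fun e => by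
    have := D.card_T2
    rw [e, Subgroup.card_bot] at this
    have := D.q_ge
    omega
  exact D.mem_normalizer_T.2 (D.conj_regular (D.T2_le hx) (D.T2_regular hx h1)
    (D.T2_le ((Subgroup.mem_normalizer_iff.1 hg x).1 hx)))

lemma card_normalizer_Y : Nat.card ↥(Subgroup.normalizer (D.Y : Set G)) = 6 * (D.q + 1) := by
  rw [D.normalizer_Y_sub le_rfl (fun e => ?_), D.card_normalizer_V]
  obtain ⟨y, hy, h1⟩ := D.exists_Y_ne_one
  rw [e, Subgroup.mem_bot] at hy
  exact h1 hy

lemma torus_real {g k : G} (hg : D.RealX g) (hk : D.RealX k)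
    (hcop : (Nat.card ↥(Subgroup.centralizer {g})).Coprime (Nat.card ↥(Subgroup.centralizer {k})))
    (hU : D.X = TS g ∪ TS k) :
    HallTorus (Subgroup.centralizer {g}) (Subgroup.centralizer {g}) 1 where
  cyclic := D.cent_cyclic hg
  le := le_rfl
  card_C := (mul_one _).symm
  co := Nat.coprime_one_right _
  comm := D.cent_comm hg
  cent := fun _ hz h1 => D.cent_eq hg hz h1
  into := fun p hp hd z hz => by
    have hzX : z ∈ D.X := D.mem_X.2 ⟨fun e => by rw [e, orderOf_one] at hz; exact hp.ne_one hz.symm,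
      hz ▸ hd.trans (D.card_centralizer_X hg.1)⟩
    rw [hU] at hzX
    rcases hzX with ⟨h, hh, -⟩ | ⟨h, hh, -⟩
    · exact ⟨h, hh⟩
    · exfalso
      have hd2 := Subgroup.orderOf_dvd_natCard _ hh
      rw [orderOf_conj', hz] at hd2
      exact hp.ne_one (Nat.eq_one_of_dvd_coprimes hcop hd hd2)

/-- The two tori with orders `q + 1 ∓ r`, where `r² = 3q`. -/
theorem exists_tori_r {r : ℕ} (hr : r * r = 3 * D.q) : ∃ A B : Subgroup G,
    HallTorus A A 1 ∧ HallTorus B B 1 ∧
    Nat.card A = D.q - r + 1 ∧ Nat.card B = D.q + r + 1 ∧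
    Nat.card ↥(Subgroup.normalizer (A : Set G)) = 6 * (D.q - r + 1) ∧
    Nat.card ↥(Subgroup.normalizer (B : Set G)) = 6 * (D.q + r + 1) ∧
    Nat.card A * Nat.card B = D.M ∧
    ∀ x : G, x ∈ D.X → orderOf x ∣ D.q - r + 1 ∨ orderOf x ∣ D.q + r + 1 := by
  obtain ⟨g, k, hg, hk, hp, hs, hco, -, hU⟩ := D.exists_tori
  have hTg := D.torus_real hg hk hco hU
  have hTk := D.torus_real hk hg hco.symm (by rw [hU, Set.union_comm])
  have hNg := D.card_normalizer_real hg
  have hNk := D.card_normalizer_real hk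
  have hdv : ∀ x ∈ D.X, orderOf x ∣ Nat.card ↥(Subgroup.centralizer {g}) ∨
      orderOf x ∣ Nat.card ↥(Subgroup.centralizer {k}) := by
    intro x hx
    rw [hU] at hx
    refine hx.imp ?_ ?_ <;>
    · rintro ⟨h, hh, -⟩
      have := Subgroup.orderOf_dvd_natCard _ hh
      rwa [orderOf_conj'] at this
  have hrq : r ≤ D.q := by
    have := D.q_ge
    nlinarith
  generalize hA : Subgroup.centralizer {g} = A at *
  generalize hB : Subgroup.centralizer {k} = B at *
  have hv : (Nat.card A = D.q - r + 1 ∧ Nat.card B = D.q + r + 1) ∨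
      (Nat.card B = D.q - r + 1 ∧ Nat.card A = D.q + r + 1) := by
    have hMi := D.M_int
    have h1 := congrArg (fun n : ℕ => (n : ℤ)) hp
    have h2 := congrArg (fun n : ℕ => (n : ℤ)) hs
    have h3 := congrArg (fun n : ℕ => (n : ℤ)) hr
    push_cast at h1 h2 h3
    have h4 : ((Nat.card A : ℤ) - D.q - 1 - r) * ((Nat.card A : ℤ) - D.q - 1 + r) = 0 := by
      linear_combination (Nat.card A : ℤ) * h2 - h1 - hMi - h3
    rcases mul_eq_zero.1 h4 with h | h
    · right; omega
    · left; omega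
  rcases hv with ⟨ha, hb⟩ | ⟨hb, ha⟩
  · refine ⟨A, B, hTg, hTk, ha, hb, ?_, ?_, hp, fun x hx => ?_⟩
    · rw [hNg, ha]
    · rw [hNk, hb]
    · rw [← ha, ← hb]; exact hdv x hx
  · refine ⟨B, A, hTk, hTg, hb, ha, ?_, ?_, by rw [mul_comm]; exact hp, fun x hx => ?_⟩
    · rw [hNk, hb]
    · rw [hNg, ha]
    · rw [← ha, ← hb]; exact (hdv x hx).symm

end ReeData

end CfsgLib.Ree
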